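import Cfsg.Agent.UGT.CE.Main
import Cfsg.Agent.UGT.ThEL34.Acts
import Cfsg.Agent.UGT.ThEL34.Facts2

/-!
# `C(e) ≤ N(L)` for bad involutions `e`, V: `L = L₃(4)`

`Facts3 x`: the facts on `L₃(4)`. `Grp O L B`: the hypotheses in the group `G`. `Grp.main`: `C(e) ≤ N(L)` for bad
`e`.
-/

set_option autoImplicit false

open Subgroup

namespace Cfsg.Agent.UGT.CE.L34

open Cfsg.Agent.UGT.ThE.Base (IsT IsS comm_of_mem L_conj L_conj' K_le_M L_le_M K_conj K_conj' exists_central)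
open Cfsg.Agent.UGT.CE.Base
open Cfsg.Agent.UGT.ThEL34 (Acts Facts Facts2 fx mem_fx exists_acts acts_one_iff acts_coe acts_of_mem acts_one
  acts_norm exists_hom)

universe u

/-- The facts on `L₃(4)` used for `C(e) ≤ N(L)`. -/
structure Facts3 {D : Type*} [Group D] (x : MulAut D) : Prop extends Facts2 x where
  /-- odd groups of automorphisms centralized by `x` and normalized by `C_D(x)` lie in `O(C_D(x))` -/
  core : ∀ E : Subgroup (MulAut D), Odd (Nat.card E) → (∀ e ∈ E, e * x = x * e) →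
    (∀ l, x l = l → ∀ e ∈ E, MulAut.conj l * e * (MulAut.conj l)⁻¹ ∈ E) →
    ∀ e ∈ E, ∃ y, e = MulAut.conj y ∧ y ^ 3 = 1 ∧ x y = y
  /-- the involutions of `C_D(x)` invert `O(C_D(x))` -/
  inv : ∀ b y, b * b = 1 → b ≠ 1 → x b = b → y ^ 3 = 1 → x y = y → b * y * b⁻¹ = y⁻¹
  exs : ∃ s, s * s = 1 ∧ s ≠ 1 ∧ x s = s
  /-- `⟨O(C_D(x)), O(C_D(xb))⟩ = D` for the involutions `b` of `C_D(x)` -/
  gen1 : ∀ b, b * b = 1 → b ≠ 1 → x b = b → ∀ H : Subgroup D, (∀ y, y ^ 3 = 1 → x y = y → y ∈ H) →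
    (∀ y, y ^ 3 = 1 → x (b * y * b⁻¹) = y → y ∈ H) → H = ⊤
  /-- `Out D` is solvable -/
  out : ∀ X : Subgroup (MulAut D), X ≤ ⁅X, X⁆ → ∀ a ∈ X, ∃ l, a = MulAut.conj l
  wcard : ∀ a, ThEL34.Wild x a → Nat.card (fx a) = 60 ∨ Nat.card (fx a) = 168
  /-- `C_D(a)` has one class of involutions -/
  winv : ∀ a, ThEL34.Wild x a → ∀ i j, a i = i → a j = j → i * i = 1 → i ≠ 1 → j * j = 1 → j ≠ 1 →
    ∃ m, a m = m ∧ m * i * m⁻¹ = j
  wY : ∀ a, ThEL34.Wild x a → a * x = x * a → ∀ H : Subgroup D, (∀ y, y ^ 3 = 1 → x y = y → y ∈ H) →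
    fx a ≤ H → H = ⊤

/-- The facts on `L₃(4)` used in the paired case. -/
structure Facts4 {D : Type*} [Group D] (x : MulAut D) : Prop extends Facts3 x where
  /-- `C_D(Y) = Y` for `Y = O(C_D(x))` -/
  cY : ∀ l, (∀ y, y ^ 3 = 1 → x y = y → l * y = y * l) → l ^ 3 = 1 ∧ x l = l

variable {G : Type u} [Group G]

/-- The first hypotheses in `G`. -/
structure Grp0 (O : G → Subgroup G) (L : Subgroup G) (B : G → Prop) : Prop where
  Ocj : ∀ g t a : G, a ∈ O t → g * a * g⁻¹ ∈ O (g * t * g⁻¹)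
  Oc : ∀ {e}, B e → ∀ a ∈ O e, a * e = e * a
  odd : ∀ {e}, B e → Odd (Nat.card (O e))
  sq : ∀ {e}, B e → e * e = 1
  facts : ∀ {e}, B e → ∃ X : MulAut L, Acts L e X ∧ Facts3 X

/-- The hypotheses in `G`. -/
structure Grp (O : G → Subgroup G) (L : Subgroup G) (B : G → Prop) : Prop extends Grp0 O L B where
  nc : ∀ g : G, ¬ ∀ l ∈ L, g * l * g⁻¹ ∈ centralizer (L : Set G)
  Bcj : ∀ {e}, B e → ∀ l ∈ L, B (l * e * l⁻¹)
  four : ∀ {e}, B e → ∃ t u, IsT L e t ∧ IsT L e u ∧ t ≠ u ∧ t * u = u * t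
  Ct : ∀ {e}, B e → ∀ t, IsT L e t → ∀ c, c * t = t * c → c ∈ normalizer (L : Set G)
  /-- `O(C_L(e)) ≤ O(C(e))` -/
  bad : ∀ {e}, B e → ∀ y ∈ L, y ^ 3 = 1 → y * e = e * y → y ∈ O e

/-- the subgroup `O(C_L(e))` -/
def YY (L : Subgroup G) (e : G) : Subgroup G := closure {y | y ∈ L ∧ y ^ 3 = 1 ∧ y * e = e * y}

/-- `C_L(v)` -/
def JJ (L : Subgroup G) (v : G) : Subgroup G := L ⊓ centralizer ({v} : Set G)

theorem mem_JJ {L : Subgroup G} {v j : G} : j ∈ JJ L v ↔ j ∈ L ∧ j * v = v * j := by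
  rw [JJ, mem_inf, mem_centralizer_singleton_iff]

section aux

variable {L : Subgroup G} {e : G} {X : MulAut L}

theorem fix_iff' (hX : Acts L e X) (l : L) : X l = l ↔ (l : G) * e = e * l :=
  (hX.fix_iff l).trans ⟨fun h => h.symm, fun h => h.symm⟩

theorem mem_YY (hX : Acts L e X) (F : Facts X) {y : G} : y ∈ YY L e ↔ y ∈ L ∧ y ^ 3 = 1 ∧ y * e = e * y := by
  constructor
  · intro h
    rw [YY] at h
    induction h using closure_induction with
    | mem y hy => exact hy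
    | one => exact ⟨one_mem _, one_pow 3, by rw [one_mul, mul_one]⟩
    | mul y z _ _ iy iz =>
      refine ⟨mul_mem iy.1 iz.1, ?_, ?_⟩
      · have h := F.three ⟨y, iy.1⟩ ⟨z, iz.1⟩ (Subtype.ext iy.2.1) ((fix_iff' hX _).mpr iy.2.2)
          (Subtype.ext iz.2.1) ((fix_iff' hX _).mpr iz.2.2)
        exact congrArg Subtype.val h
      · calc y * z * e = y * (z * e) := by group
          _ = (y * e) * z := by rw [iz.2.2]; group
          _ = e * (y * z) := by rw [iy.2.2]; group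
    | inv y _ iy =>
      refine ⟨inv_mem iy.1, by rw [inv_pow, iy.2.1, inv_one], ?_⟩
      calc y⁻¹ * e = y⁻¹ * (e * y) * y⁻¹ := by group
        _ = y⁻¹ * (y * e) * y⁻¹ := by rw [iy.2.2]
        _ = e * y⁻¹ := by group
  · intro h
    exact subset_closure h

theorem le_of_sub {H : Subgroup G} (h : H.subgroupOf L = ⊤) : L ≤ H := subgroupOf_eq_top.mp h

/-- wild elements act as wild automorphisms -/
theorem wild_acts (hX : Acts L e X) (hee : e * e = 1) {v : G} (hv : Wild L e v) {a : MulAut L}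
    (ha : Acts L v a) : ThEL34.Wild X a where
  sq := ha.sq hv.sq
  inn l h := by
    subst h
    have h1 := (acts_coe l).inv_mul_mem ha
    exact hv.inn _ (inv_mem l.2) h1
  xinn l h := by
    subst h
    have h1 := (hX.mul (acts_coe l)).inv_mul_mem ha
    have h2 : (e * (l : G))⁻¹ * v = (l : G)⁻¹ * e * v := by
      rw [mul_inv_rev, inv_eq_of_mul_eq_one_left hee]
    rw [h2] at h1
    exact hv.einn _ (inv_mem l.2) h1

theorem acts_wild (hX : Acts L e X) (hee : e * e = 1) {v : G} {a : MulAut L} (ha : Acts L v a)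
    (hve : v * e = e * v) (hvv : v * v = 1) (h : ThEL34.Wild X a) : Wild L e v where
  mem := ha.mem
  comm := hve
  sq := hvv
  inn l hl hk := by
    apply h.inn (⟨l, hl⟩⁻¹ : L)
    have h1 := (acts_coe (⟨l, hl⟩⁻¹ : L)).mulK hk
    have h2 : (((⟨l, hl⟩⁻¹ : L) : L) : G) * (l * v) = v := by
      change l⁻¹ * (l * v) = v
      group
    rw [h2] at h1
    exact ha.uniq h1
  einn l hl hk := by
    apply h.xinn (⟨l, hl⟩⁻¹ : L)
    have h1 := (hX.mul (acts_coe (⟨l, hl⟩⁻¹ : L))).mulK hk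
    have h2 : e * (((⟨l, hl⟩⁻¹ : L) : L) : G) * (l * e * v) = v := by
      change e * l⁻¹ * (l * e * v) = v
      calc e * l⁻¹ * (l * e * v) = (e * e) * v := by group
        _ = v := by rw [hee, one_mul]
    rw [h2] at h1
    exact ha.uniq h1

/-- a perfect subgroup of a solvable group is trivial -/
theorem perfect_bot {A : Type*} [Group A] {S P : Subgroup A} (hS : Group.IsSolvable S) (hP : P ≤ ⁅P, P⁆)
    (hPS : P ≤ S) : P = ⊥ := by
  have h2 : ∀ n, P.subgroupOf S ≤ derivedSeries S n := by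
    intro n
    induction n with
    | zero => exact le_top
    | succ n ih =>
      have h3 : P.subgroupOf S ≤ ⁅P.subgroupOf S, P.subgroupOf S⁆ := by
        rw [← map_le_map_iff_of_injective S.subtype_injective, map_commutator, subgroupOf_map_subtype,
          inf_eq_left.mpr hPS]
        exact hP
      exact h3.trans (commutator_mono ih ih)
  obtain ⟨n, hn⟩ := (Group.isSolvable_def S).mp hS
  rw [eq_bot_iff]
  intro p hp
  have h3 : (⟨p, hPS hp⟩ : S) ∈ derivedSeries S n := h2 n hp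
  rw [hn, mem_bot] at h3
  rw [mem_bot]
  exact congrArg Subtype.val h3

/-- the image in `Aut L` of a perfect subgroup -/
theorem image_perfect {Q : Subgroup G} (hQ : Q ≤ normalizer (L : Set G)) (hp : Q ≤ ⁅Q, Q⁆) :
    ∃ R : Subgroup (MulAut L), R ≤ ⁅R, R⁆ ∧ ∀ q ∈ Q, ∀ a, Acts L q a → a ∈ R := by
  obtain ⟨f, hf⟩ : ∃ f : Q →* MulAut L, ∀ q : Q, Acts L (q : G) (f q) :=
    ⟨L.normalizerMonoidHom.comp (inclusion hQ), fun q => acts_norm _⟩
  refine ⟨f.range, ?_, ?_⟩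
  · rw [MonoidHom.range_eq_map, ← map_commutator]
    apply map_mono
    rw [← map_le_map_iff_of_injective Q.subtype_injective, map_commutator, ← MonoidHom.range_eq_map,
      range_subtype]
    exact hp
  · intro q hq a ha
    exact ⟨⟨q, hq⟩, (hf _).uniq ha⟩

end aux

namespace Grp0

variable {O : G → Subgroup G} {L : Subgroup G} {B : G → Prop} (H : Grp0 O L B)
include H

theorem simp {e : G} (he : B e) (N : Subgroup G) (hN : N ≤ L) (hn : ∀ l ∈ L, ∀ n ∈ N, l * n * l⁻¹ ∈ N) :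
    N = ⊥ ∨ N = L := by
  obtain ⟨X, hX, F⟩ := H.facts he
  have hs := F.simp
  have h1 : (N.subgroupOf L).Normal := by
    constructor
    intro n hn' l
    rw [mem_subgroupOf] at hn' ⊢
    exact hn l l.2 n hn'
  rcases hs.eq_bot_or_eq_top_of_normal _ h1 with h | h
  · left
    rw [eq_bot_iff]
    intro n hn'
    have h2 : (⟨n, hN hn'⟩ : L) ∈ N.subgroupOf L := hn'
    rw [h, mem_bot] at h2
    exact congrArg Subtype.val h2
  · right
    exact le_antisymm hN (le_of_sub h)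

theorem perf {e : G} (he : B e) (g : G) (hg : ∀ l ∈ L, g * l * g⁻¹ ∈ normalizer (L : Set G)) (l : G) (hl : l ∈ L) :
    ∃ l' ∈ L, g * l * g⁻¹ * l' ∈ centralizer (L : Set G) := by
  obtain ⟨X, hX, F⟩ := H.facts he
  obtain ⟨ψ, hψ⟩ := exists_hom (J := (⊤ : Subgroup L)) (g := g) (fun j _ => hg j j.2)
  obtain ⟨l', hl'⟩ := F.inn (ψ.comp (topEquiv (G := L)).symm.toMonoidHom) ⟨l, hl⟩
  have h1 := hψ ((topEquiv (G := L)).symm ⟨l, hl⟩)
  have h2 : ψ ((topEquiv (G := L)).symm ⟨l, hl⟩) = MulAut.conj l' := hl'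
  rw [h2] at h1
  refine ⟨(l' : G)⁻¹, inv_mem l'.2, ?_⟩
  exact h1.mul_inv_mem (acts_coe l')

theorem disj {e : G} (he : B e) {l : G} (hl : l ∈ L) (hk : l ∈ centralizer (L : Set G)) : l = 1 := by
  obtain ⟨X, hX, F⟩ := H.facts he
  have h1 := (acts_of_mem hl).uniq (acts_one_iff.mpr hk)
  exact congrArg Subtype.val (F.cl _ h1)

theorem cj {e : G} (he : B e) (s : G) (hs : IsS L e s) : ∃ l ∈ L, l * e * l⁻¹ = e * s := by
  obtain ⟨X, hX, F⟩ := H.facts he
  have hXs := (fix_iff' hX ⟨s, hs.mem⟩).mpr hs.comm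
  have hc : X * MulAut.conj ⟨s, hs.mem⟩ = MulAut.conj ⟨s, hs.mem⟩ * X := (F.comm_conj_iff X _).mpr hXs
  have hss : (⟨s, hs.mem⟩ : L) * ⟨s, hs.mem⟩ = 1 := Subtype.ext hs.sq
  obtain ⟨m, hm⟩ := F.xconj ⟨s, hs.mem⟩ (by
    calc X * MulAut.conj ⟨s, hs.mem⟩ * (X * MulAut.conj ⟨s, hs.mem⟩)
        = X * (MulAut.conj ⟨s, hs.mem⟩ * X) * MulAut.conj ⟨s, hs.mem⟩ := by group
      _ = (X * X) * (MulAut.conj ⟨s, hs.mem⟩ * MulAut.conj ⟨s, hs.mem⟩) := by rw [← hc]; group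
      _ = 1 := by rw [F.xx, ← map_mul, hss, map_one, one_mul])
  have h1 : MulAut.conj m⁻¹ * X * (MulAut.conj m⁻¹)⁻¹ = X * MulAut.conj ⟨s, hs.mem⟩ := by
    rw [map_inv]
    calc (MulAut.conj m)⁻¹ * X * (MulAut.conj m)⁻¹⁻¹ = (MulAut.conj m)⁻¹ *
          (MulAut.conj m * (X * MulAut.conj ⟨s, hs.mem⟩) * (MulAut.conj m)⁻¹) * MulAut.conj m := by
            rw [hm, inv_inv]
      _ = _ := by group
  have h2 := ((acts_coe m⁻¹).mul hX).mul (acts_coe m⁻¹).inv
  rw [h1] at h2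
  have h3 := (hX.mul (acts_of_mem hs.mem)).mul_inv_mem h2
  refine ⟨((m⁻¹ : L) : G), (m⁻¹ : L).2, ?_⟩
  set l : G := ((m⁻¹ : L) : G) with hl
  have hlL : l ∈ L := (m⁻¹ : L).2
  -- `e * s * (l * e * l⁻¹)⁻¹ ∈ L`
  have h4 : e * s * (l * e * l⁻¹)⁻¹ ∈ L := by
    have h5 : e * s * (l * e * l⁻¹)⁻¹ = (e * (s * l) * e⁻¹) * l⁻¹ := by group
    rw [h5]
    exact mul_mem (L_conj hX.mem (mul_mem hs.mem hlL)) (inv_mem hlL)
  have h6 := H.disj he h4 h3
  exact (mul_inv_eq_one.mp h6).symm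

theorem core {e : G} (he : B e) (hO : O e ≤ normalizer (L : Set G)) (a : G) (ha : a ∈ O e) :
    ∃ y ∈ YY L e, ∃ k ∈ centralizer (L : Set G), a = y * k := by
  obtain ⟨X, hX, F⟩ := H.facts he
  obtain ⟨f, hf⟩ : ∃ f : O e →* MulAut L, ∀ q : O e, Acts L (q : G) (f q) :=
    ⟨L.normalizerMonoidHom.comp (inclusion hO), fun q => acts_norm _⟩
  have h1 : Odd (Nat.card f.range) := (H.odd he).of_dvd_nat (card_range_dvd f)
  have h2 : ∀ b ∈ f.range, b * X = X * b := by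
    rintro b ⟨q, rfl⟩
    exact (hf q).comm hX (H.Oc he q q.2)
  have h3 : ∀ l, X l = l → ∀ b ∈ f.range, MulAut.conj l * b * (MulAut.conj l)⁻¹ ∈ f.range := by
    rintro l hl b ⟨q, rfl⟩
    have h4 : (l : G) * q * (l : G)⁻¹ ∈ O e := by
      have h5 := H.Ocj l e q q.2
      rwa [cj_eq ((fix_iff' hX l).mp hl)] at h5
    refine ⟨⟨_, h4⟩, ?_⟩
    exact (hf ⟨_, h4⟩).uniq (((acts_coe l).mul (hf q)).mul (acts_coe l).inv)
  obtain ⟨y, hy, hy3, hXy⟩ := F.core _ h1 h2 h3 (f ⟨a, ha⟩) ⟨⟨a, ha⟩, rfl⟩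
  refine ⟨y, (mem_YY hX F.toFacts).mpr ⟨y.2, ?_, (fix_iff' hX y).mp hXy⟩, (y : G)⁻¹ * a, ?_, by group⟩
  · exact congrArg Subtype.val hy3
  · have h6 := hf ⟨a, ha⟩
    rw [hy] at h6
    exact (acts_coe y).inv_mul_mem h6

theorem exS {e : G} (he : B e) : ∃ s, IsS L e s := by
  obtain ⟨X, hX, F⟩ := H.facts he
  obtain ⟨s, hss, hs1, hXs⟩ := F.exs
  exact ⟨s, s.2, (fix_iff' hX s).mp hXs, congrArg Subtype.val hss, fun h => hs1 (Subtype.ext h)⟩

theorem inv {e : G} (he : B e) (s : G) (hs : IsS L e s) (y : G) (hy : y ∈ YY L e) : s * y * s⁻¹ = y⁻¹ := by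
  obtain ⟨X, hX, F⟩ := H.facts he
  obtain ⟨hyL, hy3, hye⟩ := (mem_YY hX F.toFacts).mp hy
  have h1 := F.inv ⟨s, hs.mem⟩ ⟨y, hyL⟩ (Subtype.ext hs.sq) (fun h => hs.ne (congrArg Subtype.val h))
    ((fix_iff' hX _).mpr hs.comm) (Subtype.ext hy3) ((fix_iff' hX _).mpr hye)
  exact congrArg Subtype.val h1

theorem gen1 {e : G} (he : B e) (s : G) (hs : IsS L e s) (H' : Subgroup G) (h1 : YY L e ≤ H')
    (h2 : YY L (e * s) ≤ H') : L ≤ H' := by
  obtain ⟨X, hX, F⟩ := H.facts he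
  apply le_of_sub
  apply F.gen1 ⟨s, hs.mem⟩ (Subtype.ext hs.sq) (fun h => hs.ne (congrArg Subtype.val h))
    ((fix_iff' hX _).mpr hs.comm)
  · intro y hy3 hy
    rw [mem_subgroupOf]
    exact h1 (subset_closure ⟨y.2, congrArg Subtype.val hy3, (fix_iff' hX y).mp hy⟩)
  · intro y hy3 hy
    rw [mem_subgroupOf]
    refine h2 (subset_closure ⟨y.2, congrArg Subtype.val hy3, ?_⟩)
    have h3 := hX (⟨s, hs.mem⟩ * y * ⟨s, hs.mem⟩⁻¹)
    rw [hy] at h3
    have h4 : (((⟨s, hs.mem⟩ * y * ⟨s, hs.mem⟩⁻¹ : L) : L) : G) = s * y * s⁻¹ := rfl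
    rw [h4] at h3
    calc (y : G) * (e * s) = (e * (s * y * s⁻¹) * e⁻¹) * (e * s) := by rw [← h3]
      _ = e * s * y := by group

theorem gen2 {e : G} (he : B e) (s : G) (hs : IsS L e s) (H' : Subgroup G) (h1 : YY L e ≤ H')
    (h2 : ∀ l ∈ L, l * s = s * l → l ∈ H') : L ≤ H' := by
  obtain ⟨X, hX, F⟩ := H.facts he
  apply le_of_sub
  rw [eq_top_iff, ← F.yp ⟨s, hs.mem⟩ (Subtype.ext hs.sq) (fun h => hs.ne (congrArg Subtype.val h))
    ((fix_iff' hX _).mpr hs.comm)]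
  apply sup_le
  · rw [closure_le]
    rintro y ⟨hy3, hy⟩
    exact h1 (subset_closure ⟨y.2, congrArg Subtype.val hy3, (fix_iff' hX y).mp hy⟩)
  · intro l hl
    rw [mem_centralizer_singleton_iff] at hl
    exact h2 l l.2 (congrArg Subtype.val hl)

theorem solv {e : G} (he : B e) (v : G) (hvM : v ∈ normalizer (L : Set G)) (hve : v * e = e * v)
    (hvv : v * v = 1) (hvK : v ∉ centralizer (L : Set G)) (hw : ¬ Wild L e v) (Q : Subgroup G)
    (hQ : Q ≤ normalizer (L : Set G)) (hc : ∀ x ∈ Q, x * v = v * x) (hp : Q ≤ ⁅Q, Q⁆) :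
    Q ≤ centralizer (L : Set G) := by
  obtain ⟨X, hX, F⟩ := H.facts he
  obtain ⟨a, ha⟩ := exists_acts hvM
  obtain ⟨f, hf⟩ : ∃ f : Q →* MulAut L, ∀ q : Q, Acts L (q : G) (f q) :=
    ⟨L.normalizerMonoidHom.comp (inclusion hQ), fun q => acts_norm _⟩
  have hR : f.range ≤ ⁅f.range, f.range⁆ := by
    rw [MonoidHom.range_eq_map, ← map_commutator]
    apply map_mono
    rw [← map_le_map_iff_of_injective Q.subtype_injective, map_commutator, ← MonoidHom.range_eq_map,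
      range_subtype]
    exact hp
  have hRa : f.range ≤ centralizer ({a} : Set (MulAut L)) := by
    rintro _ ⟨q, rfl⟩
    rw [mem_centralizer_singleton_iff]
    exact (hf q).comm ha (hc q q.2)
  have ha1 : a ≠ 1 := fun h => hvK (acts_one_iff.mp (h ▸ ha))
  have hsol : Group.IsSolvable (centralizer ({a} : Set (MulAut L))) := by
    rcases ThEL34.tri X (ha.sq hvv) with ⟨l, hl⟩ | ⟨l, hl⟩ | h
    · rw [hl]
      apply F.sols l (F.sq_of_conj (hl ▸ ha.sq hvv))
      rintro rfl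
      exact ha1 (by rw [hl, map_one])
    · obtain ⟨m, hm⟩ := F.xconj l (hl ▸ ha.sq hvv)
      rw [← hl] at hm
      have h1 : (centralizer ({a} : Set (MulAut L))).map (MulAut.conj (MulAut.conj m)).toMonoidHom ≤
          centralizer ({X} : Set (MulAut L)) := by
        rintro _ ⟨b, hb, rfl⟩
        have hb' := mem_centralizer_singleton_iff.mp hb
        rw [mem_centralizer_singleton_iff, ← hm]
        change MulAut.conj m * b * (MulAut.conj m)⁻¹ * (MulAut.conj m * a * (MulAut.conj m)⁻¹) =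
          MulAut.conj m * a * (MulAut.conj m)⁻¹ * (MulAut.conj m * b * (MulAut.conj m)⁻¹)
        calc _ = MulAut.conj m * (b * a) * (MulAut.conj m)⁻¹ := by group
          _ = _ := by rw [hb']; group
      have := F.solx
      have h2 : Group.IsSolvable ((centralizer ({a} : Set (MulAut L))).map
          (MulAut.conj (MulAut.conj m)).toMonoidHom) :=
        Group.isSolvable_of_isSolvable_injective (inclusion_injective h1)
      exact Group.isSolvable_of_isSolvable_injective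
        (f := ((centralizer ({a} : Set (MulAut L))).equivMapOfInjective
          (MulAut.conj (MulAut.conj m)).toMonoidHom (MulAut.conj (MulAut.conj m)).injective).toMonoidHom)
        (MulEquiv.injective _)
    · exact absurd (acts_wild hX (H.sq he) ha hve hvv h) hw
  have hbot := perfect_bot hsol hR hRa
  intro q hq
  have h1 : f ⟨q, hq⟩ ∈ f.range := ⟨_, rfl⟩
  rw [hbot, mem_bot] at h1
  have h2 := hf ⟨q, hq⟩
  rw [h1] at h2
  exact acts_one_iff.mp h2

/-! ### Wild elements -/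

/-- the data of a wild element -/
theorem wild {e : G} (he : B e) {v : G} (hv : Wild L e v) :
    ∃ X a : MulAut L, Acts L e X ∧ Facts3 X ∧ Acts L v a ∧ ThEL34.Wild X a ∧ a * X = X * a := by
  obtain ⟨X, hX, F⟩ := H.facts he
  obtain ⟨a, ha⟩ := exists_acts hv.mem
  exact ⟨X, a, hX, F, ha, wild_acts hX (H.sq he) hv ha, ha.comm hX hv.comm⟩

omit H in
theorem fx_JJ {v : G} {a : MulAut L} (ha : Acts L v a) (l : L) : l ∈ fx a ↔ (l : G) ∈ JJ L v := by
  rw [mem_fx, fix_iff' ha, mem_JJ]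
  exact ⟨fun h => ⟨l.2, h⟩, fun h => h.2⟩

omit H in
theorem JJ_map {v : G} {a : MulAut L} (ha : Acts L v a) : (fx a).map L.subtype = JJ L v := by
  apply le_antisymm
  · rintro _ ⟨l, hl, rfl⟩
    exact (fx_JJ ha l).mp hl
  · intro j hj
    exact ⟨⟨j, (mem_JJ.mp hj).1⟩, (fx_JJ ha ⟨j, (mem_JJ.mp hj).1⟩).mpr hj, rfl⟩

theorem wsimp {e : G} (he : B e) (v : G) (hv : Wild L e v) (N : Subgroup G) (hN : N ≤ JJ L v)
    (hn : ∀ l ∈ JJ L v, ∀ n ∈ N, l * n * l⁻¹ ∈ N) : N = ⊥ ∨ N = JJ L v := by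
  obtain ⟨X, a, hX, F, ha, hw, hc⟩ := H.wild he hv
  have hs := F.wsimp a hw
  obtain ⟨f, hf⟩ : ∃ f : fx a →* G, ∀ j : fx a, f j = ((j : L) : G) :=
    ⟨L.subtype.comp (fx a).subtype, fun j => rfl⟩
  have h1 : (N.comap f).Normal := by
    constructor
    intro n hn' l
    rw [mem_comap] at hn' ⊢
    rw [map_mul, map_mul, map_inv, hf l]
    exact hn _ ((fx_JJ ha l).mp l.2) _ hn'
  have hinj : ∀ n ∈ N, ∃ j : fx a, f j = n := by
    intro n hn'
    have h2 := hN hn'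
    exact ⟨⟨⟨n, (mem_JJ.mp h2).1⟩, (fx_JJ ha _).mpr h2⟩, by rw [hf]⟩
  rcases hs.eq_bot_or_eq_top_of_normal _ h1 with h | h
  · left
    rw [eq_bot_iff]
    intro n hn'
    obtain ⟨j, rfl⟩ := hinj n hn'
    have h2 : j ∈ N.comap f := hn'
    rw [h, mem_bot] at h2
    rw [h2, map_one]
    exact one_mem _
  · right
    apply le_antisymm hN
    intro j hj
    have h2 : (⟨⟨j, (mem_JJ.mp hj).1⟩, (fx_JJ ha _).mpr hj⟩ : fx a) ∈ N.comap f := by
      rw [h]; exact mem_top _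
    rw [mem_comap, hf] at h2
    exact h2

theorem wperf {e : G} (he : B e) (v : G) (hv : Wild L e v) : JJ L v ≤ ⁅JJ L v, JJ L v⁆ := by
  obtain ⟨X, a, hX, F, ha, hw, hc⟩ := H.wild he hv
  rw [← JJ_map ha, ← map_commutator]
  apply map_mono
  have h1 := F.wperf a hw
  rw [← map_subtype_commutator, h1]
  rw [← MonoidHom.range_eq_map, range_subtype]

theorem exists_inv {e : G} (he : B e) {v : G} (hv : Wild L e v) : ∃ i ∈ JJ L v, i * i = 1 ∧ i ≠ 1 := by
  obtain ⟨X, a, hX, F, ha, hw, hc⟩ := H.wild he hv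
  have hfin : Finite (fx a) := Nat.finite_of_card_ne_zero (by
    rcases F.wcard a hw with h | h <;> rw [h] <;> decide)
  have : Fact (Nat.Prime 2) := ⟨Nat.prime_two⟩
  obtain ⟨i, hi⟩ := exists_prime_orderOf_dvd_card' 2 (F.weven a hw)
  refine ⟨((i : L) : G), (fx_JJ ha i).mp i.2, ?_, ?_⟩
  · have h1 := pow_orderOf_eq_one i
    rw [hi, pow_two] at h1
    exact congrArg Subtype.val (congrArg Subtype.val h1)
  · intro h
    have h1 : i = 1 := Subtype.ext (Subtype.ext h)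
    rw [h1, orderOf_one] at hi
    omega

theorem wfix [Finite G] {e : G} (he : B e) (v : G) (hv : Wild L e v) : ∃ i ∈ JJ L v, IsS L e i := by
  obtain ⟨X, a, hX, F, ha, hw, hc⟩ := H.wild he hv
  obtain ⟨z, hz, hzz, hz1⟩ := H.exists_inv he hv
  obtain ⟨w, hw1, hww, hwne, hwe⟩ := exists_fixed (X := normalizer (JJ L v : Set G)) (N := JJ L v)
    (v := e) (z := z) le_normalizer (fun x hx n hn => (mem_normalizer_iff.mp hx n).mp hn) (by
      apply mem_normalizer_of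
      intro l hl
      obtain ⟨h1, h2⟩ := mem_JJ.mp hl
      rw [mem_JJ]
      exact ⟨L_conj hX.mem h1, cj_comm hv.comm.symm h2⟩) (H.sq he) hz hzz hz1
  exact ⟨w, hw1, (mem_JJ.mp hw1).1, hwe, hww, hwne⟩

theorem wone {e : G} (he : B e) (v : G) (hv : Wild L e v) (i : G) (hi : i ∈ JJ L v) (i' : G) (hi' : i' ∈ JJ L v)
    (hii : i * i = 1) (hi1 : i ≠ 1) (hii' : i' * i' = 1) (hi1' : i' ≠ 1) : ∃ j ∈ JJ L v, j * i * j⁻¹ = i' := by
  obtain ⟨X, a, hX, F, ha, hw, hc⟩ := H.wild he hv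
  obtain ⟨m, hm, hmi⟩ := F.winv a hw ⟨i, (mem_JJ.mp hi).1⟩ ⟨i', (mem_JJ.mp hi').1⟩
    ((fx_JJ ha _).mpr hi) ((fx_JJ ha _).mpr hi') (Subtype.ext hii) (fun h => hi1 (congrArg Subtype.val h))
    (Subtype.ext hii') (fun h => hi1' (congrArg Subtype.val h))
  exact ⟨m, (fx_JJ ha m).mp hm, congrArg Subtype.val hmi⟩

theorem wgen {e : G} (he : B e) (v : G) (hv : Wild L e v) (H' : Subgroup G)
    (h : ∀ j ∈ JJ L v, j * j = 1 → j ≠ 1 → ∀ l ∈ L, l * j = j * l → l ∈ H') : L ≤ H' := by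
  obtain ⟨X, a, hX, F, ha, hw, hc⟩ := H.wild he hv
  obtain ⟨i, hi, hii, hi1⟩ := H.exists_inv he hv
  -- the involutions of `J` generate `J`
  have hJ : closure {j | j ∈ JJ L v ∧ j * j = 1} = JJ L v := by
    rcases H.wsimp he v hv (closure {j | j ∈ JJ L v ∧ j * j = 1}) (by
      rw [closure_le]
      exact fun j hj => hj.1) (by
      intro l hl n hn
      induction hn using closure_induction with
      | mem n hn =>
        apply Subgroup.subset_closure
        refine ⟨mul_mem (mul_mem hl hn.1) (inv_mem hl), ?_⟩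
        calc l * n * l⁻¹ * (l * n * l⁻¹) = l * (n * n) * l⁻¹ := by group
          _ = 1 := by rw [hn.2]; group
      | one => simp
      | mul a b _ _ ha hb =>
        have : l * (a * b) * l⁻¹ = (l * a * l⁻¹) * (l * b * l⁻¹) := by group
        rw [this]; exact mul_mem ha hb
      | inv a _ ha =>
        have : l * a⁻¹ * l⁻¹ = (l * a * l⁻¹)⁻¹ := by group
        rw [this]; exact inv_mem ha) with h1 | h1
    · exfalso
      have h2 : i ∈ closure {j | j ∈ JJ L v ∧ j * j = 1} := subset_closure ⟨hi, hii⟩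
      rw [h1, mem_bot] at h2
      exact hi1 h2
    · exact h1
  have hJH : JJ L v ≤ H' := by
    rw [← hJ, closure_le]
    rintro j ⟨hj, hjj⟩
    by_cases hj1 : j = 1
    · rw [hj1]; exact one_mem _
    · exact h j hj hjj hj1 j (mem_JJ.mp hj).1 rfl
  apply le_of_sub
  rw [eq_top_iff, ← F.wgen a hw ⟨i, (mem_JJ.mp hi).1⟩ (Subtype.ext hii)
    (fun h => hi1 (congrArg Subtype.val h)) ((fx_JJ ha _).mpr hi)]
  apply sup_le
  · intro l hl
    exact hJH ((fx_JJ ha l).mp hl)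
  · intro l hl
    rw [mem_centralizer_singleton_iff] at hl
    exact h i hi hii hi1 l l.2 (congrArg Subtype.val hl)

theorem wY {e : G} (he : B e) (v : G) (hv : Wild L e v) (H' : Subgroup G) (h1 : JJ L v ≤ H')
    (h2 : YY L e ≤ H') : L ≤ H' := by
  obtain ⟨X, a, hX, F, ha, hw, hc⟩ := H.wild he hv
  apply le_of_sub
  apply F.wY a hw hc
  · intro y hy3 hy
    rw [mem_subgroupOf]
    exact h2 (subset_closure ⟨y.2, congrArg Subtype.val hy3, (fix_iff' hX y).mp hy⟩)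
  · intro l hl
    exact h1 ((fx_JJ ha l).mp hl)

theorem wmax {e : G} (he : B e) (v : G) (hv : Wild L e v) (Q : Subgroup G) (hQ : Q ≤ normalizer (L : Set G))
    (hQv : ∀ x ∈ Q, x * v = v * x) (hp : Q ≤ ⁅Q, Q⁆) (q : G) (hq : q ∈ Q) :
    ∃ j ∈ JJ L v, ∃ k ∈ centralizer (L : Set G), q = j * k := by
  obtain ⟨X, a, hX, F, ha, hw, hc⟩ := H.wild he hv
  obtain ⟨R, hR, hR2⟩ := image_perfect hQ hp
  obtain ⟨b, hb⟩ := exists_acts (hQ hq)
  obtain ⟨l, rfl⟩ := F.out R hR b (hR2 q hq b hb)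
  have h1 : a l = l := (F.comm_conj_iff a l).mp (ha.comm hb (hQv q hq).symm)
  exact ⟨l, (fx_JJ ha l).mp h1, (l : G)⁻¹ * q, (acts_coe l).inv_mul_mem hb, by group⟩

theorem card_JJ {e : G} (he : B e) {v : G} (hv : Wild L e v) : Nat.card (JJ L v) = 60 ∨ Nat.card (JJ L v) = 168 := by
  obtain ⟨X, a, hX, F, ha, hw, hc⟩ := H.wild he hv
  have h1 : Nat.card (JJ L v) = Nat.card (fx a) := by
    rw [← JJ_map ha]
    exact Nat.card_congr ((fx a).equivMapOfInjective _ L.subtype_injective).symm.toEquiv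
  rw [h1]
  exact F.wcard a hw

theorem wmin [Finite G] {e : G} (he : B e) (v v' : G) (hv : Wild L e v) (hv' : Wild L e v') (h : G)
    (h1 : ∀ j ∈ JJ L v', h * j * h⁻¹ ∈ normalizer (L : Set G))
    (h2 : ∀ j ∈ JJ L v', h * j * h⁻¹ * v = v * (h * j * h⁻¹))
    (h3 : ¬ ∀ j ∈ JJ L v', h * j * h⁻¹ ∈ centralizer (L : Set G)) (j : G) (hj : j ∈ JJ L v) :
    ∃ j' ∈ JJ L v', ∃ k ∈ centralizer (L : Set G), h * j' * h⁻¹ = j * k := by
  -- `h J' h⁻¹` is perfect
  obtain ⟨Q, hQd⟩ : ∃ Q, Q = (JJ L v').map (MulAut.conj h).toMonoidHom := ⟨_, rfl⟩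
  have hmem : ∀ j ∈ JJ L v', h * j * h⁻¹ ∈ Q := fun j hj => hQd ▸ ⟨j, hj, rfl⟩
  have hmem' : ∀ q ∈ Q, ∃ j ∈ JJ L v', q = h * j * h⁻¹ := by
    intro q hq
    rw [hQd] at hq
    obtain ⟨j, hj, rfl⟩ := hq
    exact ⟨j, hj, rfl⟩
  have hQ : Q ≤ normalizer (L : Set G) := by
    intro q hq
    obtain ⟨j, hj, rfl⟩ := hmem' q hq
    exact h1 j hj
  have hQv : ∀ q ∈ Q, q * v = v * q := by
    intro q hq
    obtain ⟨j, hj, rfl⟩ := hmem' q hq
    exact h2 j hj
  have hQp : Q ≤ ⁅Q, Q⁆ := by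
    rw [hQd, ← map_commutator]
    exact map_mono (H.wperf he v' hv')
  have key := H.wmax he v hv Q hQ hQv hQp
  -- the homomorphism `J' → J`
  have hd : ∀ {a b c d : G}, a ∈ L → b ∈ centralizer (L : Set G) → c ∈ L → d ∈ centralizer (L : Set G) →
      a * b = c * d → a = c := by
    intro a b c d ha hb hc hd heq
    have h4 : c⁻¹ * a = d * b⁻¹ := by
      calc c⁻¹ * a = c⁻¹ * (a * b) * b⁻¹ := by group
        _ = d * b⁻¹ := by rw [heq]; group
    have h5 := H.disj he (mul_mem (inv_mem hc) ha) (by rw [h4]; exact mul_mem hd (inv_mem hb))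
    exact (inv_mul_eq_one.mp h5).symm
  choose! φ hφ κ hκ hφκ using fun j hj => key (h * j * h⁻¹) (hmem j hj)
  obtain ⟨f, hf⟩ : ∃ f : JJ L v' →* JJ L v, ∀ j : JJ L v', ((f j : JJ L v) : G) = φ j :=
    ⟨{ toFun := fun j => ⟨φ j, hφ j j.2⟩
       map_one' := by
         apply Subtype.ext
         change φ ((1 : JJ L v') : G) = 1
         refine hd (mem_JJ.mp (hφ _ (one_mem _))).1 (hκ _ (one_mem _)) (one_mem L)
           (one_mem (centralizer (L : Set G))) ?_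
         rw [OneMemClass.coe_one, ← hφκ _ (one_mem _)]
         group
       map_mul' := fun a b => by
         apply Subtype.ext
         change φ ((a * b : JJ L v') : G) = φ a * φ b
         refine hd (mem_JJ.mp (hφ _ (a * b).2)).1 (hκ _ (a * b).2)
           (mul_mem (mem_JJ.mp (hφ _ a.2)).1 (mem_JJ.mp (hφ _ b.2)).1)
           (mul_mem (hκ _ a.2) (hκ _ b.2)) ?_
         rw [← hφκ _ (a * b).2]
         have h4 := comm_of_mem (mem_JJ.mp (hφ _ b.2)).1 (hκ _ a.2)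
         calc h * ((a * b : JJ L v') : G) * h⁻¹ = (h * (a : G) * h⁻¹) * (h * (b : G) * h⁻¹) := by
               rw [Subgroup.coe_mul]; group
           _ = φ a * (κ a * φ b) * κ b := by rw [hφκ _ a.2, hφκ _ b.2]; group
           _ = φ a * φ b * (κ a * κ b) := by rw [← h4]; group }, fun j => rfl⟩
  have hinj : Function.Injective f := by
    rw [← MonoidHom.ker_eq_bot_iff]
    have hk : f.ker.map (JJ L v').subtype = ⊥ ∨ f.ker.map (JJ L v').subtype = JJ L v' := by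
      apply H.wsimp he v' hv'
      · rintro _ ⟨k, _, rfl⟩
        exact k.2
      · rintro l hl _ ⟨k, hk, rfl⟩
        refine ⟨⟨l, hl⟩ * k * ⟨l, hl⟩⁻¹, ?_, rfl⟩
        exact f.normal_ker.conj_mem k hk _
    rcases hk with hk | hk
    · exact (map_eq_bot_iff_of_injective _ (JJ L v').subtype_injective).mp hk
    · exfalso
      apply h3
      intro j hj
      have h5 : j ∈ f.ker.map (JJ L v').subtype := by rw [hk]; exact hj
      obtain ⟨k, hk, rfl⟩ := h5
      have h6 : f k = 1 := hk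
      have h7 := hf k
      rw [h6] at h7
      change h * (k : G) * h⁻¹ ∈ _
      rw [hφκ _ k.2, ← h7, OneMemClass.coe_one, one_mul]
      exact hκ _ k.2
  have hcard : Nat.card (JJ L v') = Nat.card (JJ L v) := by
    have h4 := card_dvd_of_injective f hinj
    rcases H.card_JJ he hv with h5 | h5 <;> rcases H.card_JJ he hv' with h6 | h6
    · rw [h5, h6]
    · rw [h5, h6] at h4
      exact absurd h4 (by decide)
    · rw [h5, h6] at h4
      exact absurd h4 (by decide)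
    · rw [h5, h6]
  have hsurj : Function.Surjective f := by
    have h4 := (Nat.bijective_iff_injective_and_card f).mpr ⟨hinj, hcard⟩
    exact h4.2
  obtain ⟨j', hj'⟩ := hsurj ⟨j, hj⟩
  refine ⟨j', j'.2, κ j', hκ _ j'.2, ?_⟩
  rw [hφκ _ j'.2, ← hf j', hj']

end Grp0

namespace Grp

variable {O : G → Subgroup G} {L : Subgroup G} {B : G → Prop} (H : Grp O L B)
include H

/-- The configuration of `Conf.main`. -/
theorem conf [Finite G] {e₀ : G} (he₀ : B e₀) : Conf O (YY L) (JJ L) L B where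
  Ocj := H.Ocj
  simp := H.toGrp0.simp he₀
  nc := H.nc
  perf := H.toGrp0.perf he₀
  sq := H.sq
  mem he := by
    obtain ⟨X, hX, F⟩ := H.facts he
    exact hX.mem
  odd := H.odd
  Bcj := H.Bcj
  four := H.four
  Ct := H.Ct
  YL he y hy := by
    obtain ⟨X, hX, F⟩ := H.facts he
    exact ((mem_YY hX F.toFacts).mp hy).1
  YO he y hy := by
    obtain ⟨X, hX, F⟩ := H.facts he
    obtain ⟨h1, h2, h3⟩ := (mem_YY hX F.toFacts).mp hy
    exact H.bad he y h1 h2 h3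
  core := H.toGrp0.core
  exS := H.toGrp0.exS
  inv := H.toGrp0.inv
  cj := H.toGrp0.cj
  gen1 := H.toGrp0.gen1
  gen2 := H.toGrp0.gen2
  solv := H.toGrp0.solv
  wle _ v _ := inf_le_left
  wcomm _ v _ j hj := (mem_JJ.mp hj).2
  wsimp := H.toGrp0.wsimp
  wperf := H.toGrp0.wperf
  wfix := H.toGrp0.wfix
  wone := H.toGrp0.wone
  wgen := H.toGrp0.wgen
  wY := H.toGrp0.wY
  wmax := H.toGrp0.wmax
  wmin := H.toGrp0.wmin

/-- `C(e) ≤ N(L)` for bad `e` -/
theorem main [Finite G] {e : G} (he : B e) {c : G} (hc : c * e = e * c) : c ∈ normalizer (L : Set G) :=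
  (H.conf he).main he hc

end Grp

end Cfsg.Agent.UGT.CE.L34
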