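import Cfsg.Agent.UGT.CE.Words
import Cfsg.Agent.UGT.CE.L34
import Cfsg.Agent.UGT.FL34.KF34

/-!
# `C(e) ≤ N(L)` for bad involutions `e`, VII: the facts on `L₃(4)`
-/

set_option autoImplicit false
set_option linter.constructorNameAsVariable false
set_option linter.unusedVariables false

namespace Cfsg.Agent.UGT.CE.L34

open Subgroup
open Cfsg.Agent.SporadicA.FieldFour
open Cfsg.Agent.LThreeFour Cfsg.Agent.LThreeFour.Dat
open Cfsg.Agent.ONType.Psl (PSL3 SL3 T t tm)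
open Cfsg.Agent.ClassicalGeometry.AutPSL.Root
open Cfsg.Agent.ClassicalGeometry.AutPSL.Auto
open Cfsg.Agent.UGT.ThEL34 (fx mem_fx Facts Facts2)
open Cfsg.Agent.UGT.FL34
open Cfsg.Agent.UGT.Iface (IsL34)

variable {L : Type*} [Group L]

/-- `Out L` is solvable -/
theorem out (e : PSL3 ≃* L) (X : Subgroup (MulAut L)) (hX : X ≤ ⁅X, X⁆) (a : MulAut L) (ha : a ∈ X) :
    ∃ l, a = MulAut.conj l := by
  rw [← (D e).inner_iff]
  have h1 : (X.map (D e).tyHom) ≤ ⁅X.map (D e).tyHom, X.map (D e).tyHom⁆ := by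
    rw [← map_commutator]
    exact map_mono hX
  have hs := TyG.isSolvable
  have h2 : Group.IsSolvable (⊤ : Subgroup TyG) :=
    Group.isSolvable_of_isSolvable_injective (f := (⊤ : Subgroup TyG).subtype) (subtype_injective _)
  have h3 := perfect_bot h2 h1 le_top
  have h4 : (D e).tyHom a ∈ X.map (D e).tyHom := ⟨a, ha, rfl⟩
  rwa [h3, mem_bot] at h4

section

variable (e : PSL3 ≃* L) {x : MulAut L} (hx : x * x = 1)
  (hb : bits ((D e).tyHom x) = (true, true))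

include hx hb in
theorem exs : ∃ s, s * s = 1 ∧ s ≠ 1 ∧ x s = s := by
  obtain ⟨e', he⟩ := pure1 e hx hb (by decide)
  exact ⟨(D e').x 0 2 1, (D e').x_sq 0 2 (by decide) 1, x02_ne _, x02_one _ he⟩

include hx hb in
theorem wcard (a : MulAut L) (ha : ThEL34.Wild x a) : Nat.card (fx a) = 60 ∨ Nat.card (fx a) = 168 := by
  obtain ⟨e', h | h⟩ := wpure e hx hb ha
  · right
    rw [eq_tr e' isTau_f0 h, Nat.card_congr (fxEquiv e' f0).toEquiv, card_f0]
  · left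
    rw [eq_tr e' isTau_g0 h, Nat.card_congr (fxEquiv e' g0).toEquiv, card_g0]

/-- transport of conjugacy -/
theorem winv_aux {e' : PSL3 ≃* L} {a : MulAut L} {b : MulAut PSL3} (h : a = tr e' b)
    (hc : ∀ i : PSL3, b i = i → i * i = 1 → i ≠ 1 → ∃ g, b g = g ∧ g * i * g⁻¹ = t 0 2 1) (i j : L)
    (hi : a i = i) (hj : a j = j) (hii : i * i = 1) (hi1 : i ≠ 1) (hjj : j * j = 1) (hj1 : j ≠ 1) :
    ∃ m, a m = m ∧ m * i * m⁻¹ = j := by
  have key : ∀ i : L, a i = i → i * i = 1 → i ≠ 1 → ∃ m, a m = m ∧ m * i * m⁻¹ = e' (t 0 2 1) := by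
    intro i hi hii hi1
    rw [h, fix_symm] at hi
    obtain ⟨g, hg, hgi⟩ := hc (e'.symm i) hi (by rw [← map_mul, hii, map_one])
      (fun h => hi1 (e'.symm.injective (by rw [h, map_one])))
    refine ⟨e' g, by rw [h, tr_e, hg], ?_⟩
    rw [← hgi, map_mul, map_mul, map_inv, e'.apply_symm_apply]
  obtain ⟨m, hm, hmi⟩ := key i hi hii hi1
  obtain ⟨n, hn, hnj⟩ := key j hj hjj hj1
  refine ⟨n⁻¹ * m, by rw [map_mul, map_inv, hm, hn], ?_⟩
  calc n⁻¹ * m * i * (n⁻¹ * m)⁻¹ = n⁻¹ * (m * i * m⁻¹) * n := by group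
    _ = n⁻¹ * (n * j * n⁻¹) * n := by rw [hmi, hnj]
    _ = j := by group

include hx hb in
theorem winv (a : MulAut L) (ha : ThEL34.Wild x a) (i j : L) (hi : a i = i) (hj : a j = j) (hii : i * i = 1)
    (hi1 : i ≠ 1) (hjj : j * j = 1) (hj1 : j ≠ 1) : ∃ m, a m = m ∧ m * i * m⁻¹ = j := by
  obtain ⟨e', h | h⟩ := wpure e hx hb ha
  · exact winv_aux (eq_tr e' isTau_f0 h) (fun i h1 h2 h3 => conj_f0 h1 h2 h3) i j hi hj hii hi1 hjj hj1
  · exact winv_aux (eq_tr e' isTau_g0 h) (fun i h1 h2 h3 => conj_g0 h1 h2 h3) i j hi hj hii hi1 hjj hj1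

/-- the elements of `Y` in coordinates -/
theorem mem_R {e' : PSL3 ≃* L} {x : MulAut L} (h : (D e').IsTau (true, true, 0) x) {R : M3}
    (hR : R.unit = true) (h3 : (M3.cube R).isSc = true) :
    (e' (pr (sl R (unit_det hR)))) ^ 3 = 1 ∧ x (e' (pr (sl R (unit_det hR)))) = e' (pr (sl R (unit_det hR))) := by
  constructor
  · rw [← map_pow, (pow_three_iff (M := sl R (unit_det hR)) rfl).2 h3, map_one]
  · rw [eq_tr e' isTau_x0 h, tr_e, fix_x0_mem hR]

theorem R1_cube : (M3.cube R1).isSc = true := indep_chk.1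

theorem R2_cube : (M3.cube R2).isSc = true := indep_chk.2.1

include hx hb in
theorem wY (a : MulAut L) (ha : ThEL34.Wild x a) (hax : a * x = x * a) (H : Subgroup L)
    (h1 : ∀ y, y ^ 3 = 1 → x y = y → y ∈ H) (h2 : fx a ≤ H) : H = ⊤ := by
  obtain ⟨e', h3, h4⟩ := pl2' e hx hb ha.sq (wild_bits e hx hb ha) hax
  obtain ⟨H0, hH0⟩ : ∃ H0, H0 = H.comap e'.toMonoidHom := ⟨_, rfl⟩
  have hm : ∀ l, l ∈ H0 ↔ e' l ∈ H := fun l => by rw [hH0]; exact Iff.rfl
  have hR2 : pr (sl R2 det_R2) ∈ H0 := by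
    rw [hm]
    obtain ⟨k1, k2⟩ := mem_R h3 R2_unit R2_cube
    exact h1 _ k1 k2
  have hx' : ∀ i j u, t i j u ∈ H0 ↔ (D e').x i j u ∈ H := fun i j u => hm _
  rcases h4 with h4 | h4
  · have h5 : ∀ i j : Fin 3, i ≠ j → (D e').x i j 1 ∈ H := fun i j hij => h2 (fx_one h4 hij)
    apply gen_pair (D e') h5
    intro u
    rw [← hx']
    exact field_gen (fun i j hij => (hx' i j 1).2 (h5 i j hij)) hR2 u
  · have h5 : ∀ u, (D e').x 0 2 u ∈ H := fun u => h2 (fx_u h4 u)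
    have h6 : ∀ u, (D e').x 2 0 u ∈ H := fun u => h2 (by
      show a ((D e').x 2 0 u) = (D e').x 2 0 u
      rw [h4.x20]; rfl)
    have h7 := graph_gen (H := H0) (fun u => (hx' 0 2 u).2 (h5 u)) (fun u => (hx' 2 0 u).2 (h6 u)) hR2
    apply gen_T (D e') _ (h6 1)
    rintro _ ⟨p, rfl⟩
    rw [(D e').el_eq]
    exact mul_mem (mul_mem ((hx' 0 1 _).1 (h7 _).1) ((hx' 1 2 _).1 (h7 _).2)) (h5 _)

include hx hb in
theorem gen1 (b : L) (hbb : b * b = 1) (hb1 : b ≠ 1) (hxb : x b = b) (H : Subgroup L)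
    (h1 : ∀ y, y ^ 3 = 1 → x y = y → y ∈ H) (h2 : ∀ y, y ^ 3 = 1 → x (b * y * b⁻¹) = y → y ∈ H) : H = ⊤ := by
  obtain ⟨e', h3, rfl⟩ := plx' e hx hb hbb hb1 hxb
  obtain ⟨H0, hH0⟩ : ∃ H0, H0 = H.comap e'.toMonoidHom := ⟨_, rfl⟩
  have hm : ∀ l, l ∈ H0 ↔ e' l ∈ H := fun l => by rw [hH0]; exact Iff.rfl
  have hx' : ∀ i j u, t i j u ∈ H0 ↔ (D e').x i j u ∈ H := fun i j u => hm _
  obtain ⟨p, hp⟩ : ∃ p, p = (D e').x 0 2 F4.w := ⟨_, rfl⟩
  have hpp : p * p = 1 := by rw [hp]; exact (D e').x_sq 0 2 (by decide) _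
  have hxp : x p = (D e').x 0 2 1 * p := by
    rw [hp, h3.x02, (D e').x_add 0 2 (by decide)]
    rfl
  have hbp : (D e').x 0 2 1 * p = p * (D e').x 0 2 1 := by
    rw [hp, (D e').x_add 0 2 (by decide), (D e').x_add 0 2 (by decide), add_comm]
  have hP : ∀ y : L, y ^ 3 = 1 → x y = y → p * y * p ∈ H := by
    intro y hy hxy
    have hpi : p⁻¹ = p := inv_eq_of_mul_eq_one_left hpp
    apply h2
    · have h5 : p * y * p = p * y * p⁻¹ := by rw [hpi]
      rw [h5, conj_pow, hy]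
      group
    · have hbi : ((D e').x 0 2 1)⁻¹ = (D e').x 0 2 1 := inv_eq_of_mul_eq_one_left hbb
      have h6 : (D e').x 0 2 1 * (p * y * p) * ((D e').x 0 2 1)⁻¹ =
          ((D e').x 0 2 1 * p) * y * ((D e').x 0 2 1 * p) := by
        rw [hbi]
        calc (D e').x 0 2 1 * (p * y * p) * (D e').x 0 2 1 = ((D e').x 0 2 1 * p) * y * (p * (D e').x 0 2 1) := by
              group
          _ = _ := by rw [← hbp]
      rw [h6, map_mul, map_mul, map_mul, hxp, hxy, x02_one _ h3]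
      have h7 : (D e').x 0 2 1 * ((D e').x 0 2 1 * p) = p := by rw [← mul_assoc, hbb, one_mul]
      rw [h7]
  obtain ⟨k1, k2⟩ := mem_R h3 R1_unit R1_cube
  obtain ⟨k3, k4⟩ := mem_R h3 R2_unit R2_cube
  have h8 := y_gen (H := H0) ((hm _).2 (h1 _ k1 k2)) ((hm _).2 (h1 _ k3 k4)) (by
    rw [hm, map_mul, map_mul]
    have := hP _ k1 k2
    rw [hp] at this
    exact this) (by
    rw [hm, map_mul, map_mul]
    have := hP _ k3 k4
    rw [hp] at this
    exact this)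
  apply gen_T (D e') _ ((hx' 2 0 1).1 (h8 0).2.2.2)
  rintro _ ⟨q, rfl⟩
  rw [(D e').el_eq]
  exact mul_mem (mul_mem ((hx' 0 1 _).1 (h8 _).1) ((hx' 1 2 _).1 (h8 _).2.1)) ((hx' 0 2 _).1 (h8 _).2.2.1)

include hx hb in
/-- the facts on `L₃(4)` -/
theorem facts3 : Facts3 x where
  toFacts2 := facts2 e hx hb
  core E h1 h2 h3 := KF.core e hx hb E ⟨h1, h2, h3⟩
  inv := KF.inv e hx hb
  exs := exs e hx hb
  gen1 := gen1 e hx hb
  out := out e
  wcard := wcard e hx hb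
  winv := winv e hx hb
  wY := wY e hx hb

end

/-- the facts on `L₃(4)` for an involutory automorphism centralizing a nontrivial odd group normalized by its
centralizer -/
theorem facts3_of {K : Type*} [Group K] (hK : IsL34 K) {x : MulAut K} (hx : x * x = 1)
    {E : Subgroup (MulAut K)} (hE : LTF.Defs.OddC x E) (h1 : E ≠ ⊥) : Facts3 x := by
  obtain ⟨F, _, _, hF, ⟨e⟩⟩ := hK
  obtain ⟨e'⟩ := nonempty_psl_equiv (n := Fin 3) F hF
  let e0 : PSL3 ≃* K := e'.trans e.symm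
  exact facts3 e0 hx (KF.bits_of_oddC e0 hx hE h1)

end Cfsg.Agent.UGT.CE.L34
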