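import Cfsg.Agent.UGT.CE.FactsY
import Cfsg.Agent.LThreeFour.Solv

/-!
# `C_{Aut L}(Y) = Y ⟨x⟩` for `Y = O(C_L(x))`, `L = L₃(4)`, `x` the unitary polarity
-/

set_option autoImplicit false
set_option linter.constructorNameAsVariable false
set_option linter.unusedVariables false

namespace Cfsg.Agent.UGT.CE.L34

open Subgroup
open Cfsg.Agent.SporadicA.FieldFour
open Cfsg.Agent.LThreeFour Cfsg.Agent.LThreeFour.Dat
open Cfsg.Agent.ONType.Psl (PSL3)
open Cfsg.Agent.ClassicalGeometry.AutPSL.Root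
open Cfsg.Agent.ClassicalGeometry.AutPSL.Auto
open Cfsg.Agent.UGT.ThEL34 (fx mem_fx Facts Facts2)
open Cfsg.Agent.UGT.FL34
open Cfsg.Agent.UGT.Iface (IsL34)

/-- The facts on `L₃(4)` used in Theorem H. -/
structure Facts5 {D : Type*} [Group D] (x : MulAut D) : Prop extends Facts4 x where
  /-- `C_{Aut D}(Y) = Y ⟨x⟩` for `Y = O(C_D(x))` -/
  aut : ∀ α : MulAut D, (∀ y, y ^ 3 = 1 → x y = y → α y = y) →
    ∃ y, y ^ 3 = 1 ∧ x y = y ∧ (α = MulAut.conj y ∨ α = MulAut.conj y * x)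

theorem ty_cen : ∀ g h : TyG, g.ty.1 = true → g.ty.2.1 = true → g * g = 1 → g * h = h * g := by
  decide +kernel

theorem bitsHom_cases : ∀ g h : TyG, h.ty.1 = true → h.ty.2.1 = true →
    bitsHom g = 1 ∨ bitsHom (g * h) = 1 ∨ (g ≠ 1 ∧ g ≠ h) := by
  decide +kernel

theorem bitsHom_sq : ∀ g : TyG, bitsHom (g * g) = 1 := by decide +kernel

theorem bits_of : ∀ g : TyG, bits g = (true, true) → g.ty.1 = true ∧ g.ty.2.1 = true := by decide +kernel

theorem y_comm {D : Type*} [Group D] {x : MulAut D} (F : Facts3 x) {y z : D} (h1 : y ^ 3 = 1) (h2 : x y = y)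
    (h3 : z ^ 3 = 1) (h4 : x z = z) : y * z = z * y := by
  obtain ⟨b, hb, hb1, hxb⟩ := F.exs
  have e1 := F.inv b (y * z) hb hb1 hxb (F.three y z h1 h2 h3 h4) (by rw [map_mul, h2, h4])
  have e2 : b * (y * z) * b⁻¹ = (b * y * b⁻¹) * (b * z * b⁻¹) := by group
  rw [e2, F.inv b y hb hb1 hxb h1 h2, F.inv b z hb hb1 hxb h3 h4, mul_inv_rev] at e1
  have e3 := congrArg (fun w => w⁻¹) e1
  simp only [mul_inv_rev, inv_inv] at e3
  exact e3.symm

theorem aut {D : Type*} [Group D] (e : PSL3 ≃* D) {x : MulAut D}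
    (hb : bits ((Cfsg.Agent.UGT.FL34.D e).tyHom x) = (true, true)) (F : Facts4 x) (α : MulAut D)
    (hα : ∀ y, y ^ 3 = 1 → x y = y → α y = y) :
    ∃ y, y ^ 3 = 1 ∧ x y = y ∧ (α = MulAut.conj y ∨ α = MulAut.conj y * x) := by
  have hx := F.xx
  have hxi : x⁻¹ = x := inv_eq_of_mul_eq_one_left hx
  obtain ⟨hb1, hb2⟩ := bits_of _ hb
  have hx1 : (Cfsg.Agent.UGT.FL34.D e).tyHom x * (Cfsg.Agent.UGT.FL34.D e).tyHom x = 1 := by
    rw [← map_mul, hx, map_one]
  -- inner automorphisms centralizing `Y`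
  have inn : ∀ l : D, (∀ y, y ^ 3 = 1 → x y = y → MulAut.conj l y = y) → l ^ 3 = 1 ∧ x l = l := by
    intro l hl
    apply F.cY
    intro y h1 h2
    have h3 := hl y h1 h2
    rw [MulAut.conj_apply] at h3
    exact mul_inv_eq_iff_eq_mul.mp h3
  have hinv : ∀ β : MulAut D, (∀ y, y ^ 3 = 1 → x y = y → β y = y) → ∀ y, y ^ 3 = 1 → x y = y → β⁻¹ y = y := by
    intro β hβ y h1 h2
    nth_rewrite 1 [← hβ y h1 h2]
    exact MulAut.inv_apply_self D β y
  -- `α x = x α`
  have hcom : ∀ β : MulAut D, (∀ y, y ^ 3 = 1 → x y = y → β y = y) → β * x = x * β := by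
    intro β hβ
    have h1 : (Cfsg.Agent.UGT.FL34.D e).tyHom (β * x * β⁻¹ * x⁻¹) = 1 := by
      have := ty_cen _ ((Cfsg.Agent.UGT.FL34.D e).tyHom β) hb1 hb2 hx1
      rw [map_mul, map_mul, map_mul, map_inv, map_inv, ← this]
      group
    obtain ⟨l, hl⟩ := (Cfsg.Agent.UGT.FL34.D e).inner_iff.mp h1
    obtain ⟨hl3, hlx⟩ := inn l (by
      intro y h2 h3
      rw [← hl, MulAut.mul_apply, MulAut.mul_apply, MulAut.mul_apply, hxi, h3, hinv β hβ y h2 h3, h3, hβ y h2 h3])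
    have h2 : β * x * β⁻¹ = MulAut.conj l * x := by
      rw [← hl]; group
    have h3 : MulAut.conj (l * l) = 1 := by
      have h4 : (β * x * β⁻¹) * (β * x * β⁻¹) = 1 := by
        calc (β * x * β⁻¹) * (β * x * β⁻¹) = β * (x * x) * β⁻¹ := by group
          _ = 1 := by rw [hx]; group
      rw [h2] at h4
      have h5 : MulAut.conj l * x * (MulAut.conj l * x) = MulAut.conj l * (x * MulAut.conj l * x⁻¹) * (x * x) := by
        group
      have h6 : x * MulAut.conj l * x⁻¹ = MulAut.conj l := by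
        ext m
        rw [MulAut.mul_apply, MulAut.mul_apply, MulAut.conj_apply, MulAut.conj_apply, map_mul, map_mul, map_inv, hlx,
          MulAut.apply_inv_self]
      rw [h5, h6, hx, mul_one, ← map_mul] at h4
      exact h4
    have h4 := F.cl _ h3
    have h5 : l = 1 := by
      have : l ^ 3 = l * (l * l) := pow_three l
      rw [hl3, h4, mul_one] at this
      exact this.symm
    rw [h5, map_one, one_mul] at h2
    exact mul_inv_eq_iff_eq_mul.mp h2
  -- the group `E`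
  obtain ⟨E, hE⟩ : ∃ E : Subgroup (MulAut D), ∀ β, β ∈ E ↔ (∀ y, y ^ 3 = 1 → x y = y → β y = y) ∧
      bitsHom ((Cfsg.Agent.UGT.FL34.D e).tyHom β) = 1 := by
    refine ⟨{ carrier := {β | (∀ y, y ^ 3 = 1 → x y = y → β y = y) ∧
                bitsHom ((Cfsg.Agent.UGT.FL34.D e).tyHom β) = 1}
              one_mem' := ⟨fun y _ _ => rfl, by rw [map_one, map_one]⟩
              mul_mem' := ?_
              inv_mem' := ?_ }, fun β => Iff.rfl⟩
    · rintro β γ ⟨h1, h2⟩ ⟨h3, h4⟩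
      refine ⟨fun y h5 h6 => ?_, by rw [map_mul, map_mul, h2, h4, mul_one]⟩
      rw [MulAut.mul_apply, h3 y h5 h6, h1 y h5 h6]
    · rintro β ⟨h1, h2⟩
      exact ⟨hinv β h1, by rw [map_inv, map_inv, h2, inv_one]⟩
  have hfin : Finite (MulAut D) := (Cfsg.Agent.UGT.FL34.D e).finite_aut
  have hodd : Odd (Nat.card E) := by
    have hp : IsPGroup 3 E := by
      rintro ⟨β, hβ⟩
      refine ⟨2, ?_⟩
      obtain ⟨h1, h2⟩ := (hE β).mp hβ
      have h3 := TyG.cube _ h2
      rw [← map_mul, ← map_mul] at h3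
      obtain ⟨l, hl⟩ := (Cfsg.Agent.UGT.FL34.D e).inner_iff.mp h3
      obtain ⟨hl3, -⟩ := inn l (by
        intro y h4 h5
        rw [← hl, MulAut.mul_apply, MulAut.mul_apply, h1 y h4 h5, h1 y h4 h5, h1 y h4 h5])
      apply Subtype.ext
      show β ^ 3 ^ 2 = 1
      have : β ^ 3 ^ 2 = (β * β * β) ^ 3 := by
        rw [← pow_three', ← pow_mul]
        norm_num
      rw [this, hl, ← map_pow, hl3, map_one]
    have : Fact (Nat.Prime 3) := ⟨Nat.prime_three⟩
    obtain ⟨n, hn⟩ := IsPGroup.iff_card.mp hp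
    rw [hn]
    exact Odd.pow (by decide)
  have hEY : ∀ β ∈ E, ∃ y, β = MulAut.conj y ∧ y ^ 3 = 1 ∧ x y = y := by
    apply F.core E hodd
    · intro β hβ
      exact hcom β ((hE β).mp hβ).1
    · intro l hl β hβ
      obtain ⟨h1, h2⟩ := (hE β).mp hβ
      refine (hE _).mpr ⟨fun y h3 h4 => ?_, ?_⟩
      · have h5 : β (l⁻¹ * y * l) = l⁻¹ * y * l := by
          apply h1
          · have : l⁻¹ * y * l = l⁻¹ * y * l⁻¹⁻¹ := by group
            rw [this, conj_pow, h3]
            group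
          · rw [map_mul, map_mul, map_inv, hl, h4]
        rw [MulAut.mul_apply, MulAut.mul_apply, ← map_inv, MulAut.conj_apply, MulAut.conj_apply, inv_inv, h5]
        group
      · have h3 : (Cfsg.Agent.UGT.FL34.D e).tyHom (MulAut.conj l * β * (MulAut.conj l)⁻¹) =
            (Cfsg.Agent.UGT.FL34.D e).tyHom β := by
          rw [map_mul, map_mul, map_inv, (Cfsg.Agent.UGT.FL34.D e).tyHom_conj, one_mul, inv_one, mul_one]
        rw [h3]
        exact h2
  rcases bitsHom_cases ((Cfsg.Agent.UGT.FL34.D e).tyHom α) _ hb1 hb2 with h | h | ⟨h1, h2⟩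
  · obtain ⟨y, h1, h2, h3⟩ := hEY α ((hE α).mpr ⟨hα, h⟩)
    exact ⟨y, h2, h3, Or.inl h1⟩
  · rw [← map_mul] at h
    obtain ⟨y, h1, h2, h3⟩ := hEY (α * x) ((hE _).mpr ⟨fun y h1 h2 => by
      rw [MulAut.mul_apply, h2, hα y h1 h2], h⟩)
    refine ⟨y, h2, h3, Or.inr ?_⟩
    rw [← h1, mul_assoc, hx, mul_one]
  · exfalso
    obtain ⟨y, hy1, hy3, hyx⟩ := hEY (α * α) ((hE _).mpr ⟨fun y h1 h2 => by
      rw [MulAut.mul_apply, hα y h1 h2, hα y h1 h2], by rw [map_mul]; exact bitsHom_sq _⟩)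
    have hαy : α * MulAut.conj y = MulAut.conj y * α := by
      ext m
      rw [MulAut.mul_apply, MulAut.mul_apply, MulAut.conj_apply, MulAut.conj_apply, map_mul, map_mul, map_inv,
        hα y hy3 hyx]
    have hxy : x * MulAut.conj y = MulAut.conj y * x := by
      ext m
      rw [MulAut.mul_apply, MulAut.mul_apply, MulAut.conj_apply, MulAut.conj_apply, map_mul, map_mul, map_inv, hyx]
    have hty : (Cfsg.Agent.UGT.FL34.D e).tyHom (MulAut.conj y * α) = (Cfsg.Agent.UGT.FL34.D e).tyHom α := by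
      rw [map_mul, (Cfsg.Agent.UGT.FL34.D e).tyHom_conj, one_mul]
    have hW : ThEL34.Wild x (MulAut.conj y * α) := by
      refine ⟨?_, ?_, ?_⟩
      · calc MulAut.conj y * α * (MulAut.conj y * α) = MulAut.conj y * (α * MulAut.conj y) * α := by group
          _ = MulAut.conj y * MulAut.conj y * (α * α) := by rw [hαy]; group
          _ = MulAut.conj (y ^ 3) := by rw [hy1, ← map_mul, ← map_mul, pow_three']
          _ = 1 := by rw [hy3, map_one]
      · intro l hl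
        apply h1
        rw [← hty, hl, (Cfsg.Agent.UGT.FL34.D e).tyHom_conj]
      · intro l hl
        apply h2
        rw [← hty, hl, map_mul, (Cfsg.Agent.UGT.FL34.D e).tyHom_conj, mul_one]
    have hWx : MulAut.conj y * α * x = x * (MulAut.conj y * α) := by
      rw [mul_assoc, hcom α hα, ← mul_assoc, ← hxy, mul_assoc]
    have hfix : ∀ z, z ^ 3 = 1 → x z = z → (MulAut.conj y * α) z = z := by
      intro z h3 h4
      rw [MulAut.mul_apply, hα z h3 h4, MulAut.conj_apply, y_comm F.toFacts3 hy3 hyx h3 h4, mul_inv_cancel_right]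
    obtain ⟨a, b, ha3, hxa, hb3, hxb, ha1, hb1', hab, hab'⟩ := F.indep
    rcases F.wone _ hW hWx a b ha3 hxa (hfix a ha3 hxa) hb3 hxb (hfix b hb3 hxb) with h | h | h | h
    · exact ha1 h
    · exact hb1' h
    · exact hab h
    · exact hab' h

theorem facts5_of {K : Type*} [Group K] (hK : IsL34 K) {x : MulAut K} (hx : x * x = 1)
    {E : Subgroup (MulAut K)} (hE : LTF.Defs.OddC x E) (h1 : E ≠ ⊥) : Facts5 x := by
  have h2 := facts4_of hK hx hE h1
  obtain ⟨F, _, _, hF, ⟨e⟩⟩ := hK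
  obtain ⟨e'⟩ := nonempty_psl_equiv (n := Fin 3) F hF
  let e0 : PSL3 ≃* K := e'.trans e.symm
  exact { toFacts4 := h2, aut := aut e0 (KF.bits_of_oddC e0 hx hE h1) h2 }

end Cfsg.Agent.UGT.CE.L34
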