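import Cfsg.Agent.UGT.CE.PairL34
import Cfsg.Agent.UGT.CE.FactsAut
import Cfsg.Agent.UGT.Blk.HStar

/-!
# Theorem H* for `L = L₃(4)`: `N(Y) ≤ N(L)`

`B e` : `e` is bad for `L`, `Y = YY L e = O(C_L(e))`. Paired or not. With it, `C(e) ≤ N(L)` for bad `e` (`HGrp.main`).
-/

set_option autoImplicit false

open Subgroup

namespace Cfsg.Agent.UGT.CE.L34

open Cfsg.Agent.UGT.ThE.Base (IsT IsS comm_of_mem L_conj L_conj' K_le_M L_le_M K_conj K_conj')
open Cfsg.Agent.UGT.CE.Base
open Cfsg.Agent.UGT.ThEL34 (Acts Facts Facts2 fx mem_fx exists_acts acts_one_iff acts_coe acts_of_mem acts_one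
  acts_norm exists_hom)
open Cfsg.Agent.UGT.Blk

universe u

variable {G : Type u} [Group G]

/-- The hypotheses of Theorem H*. -/
structure HGrp (O : G → Subgroup G) (L : Subgroup G) (B : G → Prop) : Prop extends Grp0 O L B where
  c5 : ∀ {e}, B e → ∀ X : MulAut L, Acts L e X → Facts5 X
  Oodd : ∀ t, Odd (Nat.card (O t))
  Bt : ∀ {e}, B e → ∀ t, IsT L e t → B (e * t)
  four : ∀ {e}, B e → ∃ t u, IsT L e t ∧ IsT L e u ∧ t ≠ u ∧ t * u = u * t
  /-- `L` is a component of `C(t)` -/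
  cmp : ∀ {e}, B e → ∀ t, IsT L e t → ∀ c, c * t = t * c →
    (∀ l ∈ L, c * l * c⁻¹ ∈ L) ∨ ∀ l ∈ L, c * l * c⁻¹ ∈ centralizer (L : Set G)
  nc : ∀ {e}, B e → ∀ g, g * e = e * g → ¬ ∀ l ∈ L, g * l * g⁻¹ ∈ centralizer (L : Set G)
  /-- `O(C_L(e)) ≤ O(C(e))` -/
  bad : ∀ {e}, B e → ∀ y ∈ L, y ^ 3 = 1 → y * e = e * y → y ∈ O e

namespace HGrp

variable {O : G → Subgroup G} {L : Subgroup G} {B : G → Prop} (H : HGrp O L B)
include H

theorem O_conj {e c : G} (h : c * e = e * c) {a : G} (ha : a ∈ O e) : c * a * c⁻¹ ∈ O e := by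
  have h1 := H.Ocj c e a ha
  rwa [cj_eq h] at h1

theorem norm_of [Finite G] {e t : G} (he : B e) (ht : IsT L e t) {c : G} (hct : c * t = t * c)
    (hce : c * e = e * c) : c ∈ normalizer (L : Set G) := by
  rcases H.cmp he t ht c hct with h | h
  · exact Res.ThH.mem_normalizer_of_le h
  · exact absurd h (H.nc he c hce)

theorem O_le [Finite G] {e : G} (he : B e) : O e ≤ normalizer (L : Set G) := by
  obtain ⟨t, u, ht, hu, hne, htu⟩ := H.four he
  refine Cfsg.Agent.Lib.KleinGen.le_of_klein (O e) _ (H.odd he) t u ht.sq hu.sq htu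
    (fun a ha => H.O_conj ht.comm ha) (fun a ha => H.O_conj hu.comm ha) ?_ ?_ ?_
  · intro c hc
    exact H.norm_of he ht (mem_centralizer_singleton_iff.mp hc.2) (H.Oc he c hc.1)
  · intro c hc
    exact H.norm_of he hu (mem_centralizer_singleton_iff.mp hc.2) (H.Oc he c hc.1)
  · intro c hc
    exact H.norm_of he (isT_mul ht hu hne htu) (mem_centralizer_singleton_iff.mp hc.2) (H.Oc he c hc.1)

omit H in
/-- `YY L (e t) = YY L e` -/
theorem YY_mul {e t : G} (ht : t ∈ centralizer (L : Set G)) : YY L (e * t) = YY L e := by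
  unfold YY
  congr 1
  ext y
  constructor
  · rintro ⟨h1, h2, h3⟩
    refine ⟨h1, h2, ?_⟩
    have h4 : y * t = t * y := comm_of_mem h1 ht
    have h5 : y * e * t = e * y * t := by
      calc y * e * t = y * (e * t) := by group
        _ = e * t * y := h3
        _ = e * (y * t) := by rw [h4]; group
        _ = e * y * t := by group
    exact mul_right_cancel h5
  · rintro ⟨h1, h2, h3⟩
    refine ⟨h1, h2, ?_⟩
    have h4 : y * t = t * y := comm_of_mem h1 ht
    calc y * (e * t) = y * e * t := by group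
      _ = e * (y * t) := by rw [h3]; group
      _ = e * t * y := by rw [h4]; group

theorem data [Finite G] {e₀ : G} (he₀ : B e₀) : HStar.Data O L (YY L e₀) (fun e => B e ∧ YY L e = YY L e₀) := by
  obtain ⟨X₀, hX₀, F₀⟩ := H.facts he₀
  have hY : ∀ y, y ∈ YY L e₀ ↔ y ∈ L ∧ y ^ 3 = 1 ∧ y * e₀ = e₀ * y := fun y => mem_YY hX₀ F₀.toFacts
  have hYL : YY L e₀ ≤ L := fun y hy => ((hY y).mp hy).1
  have hYO : ∀ {e}, B e ∧ YY L e = YY L e₀ → ∀ a ∈ YY L e₀, a ∈ O e := by
    rintro e ⟨he, hee⟩ a ha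
    rw [← hee] at ha
    obtain ⟨X, hX, F⟩ := H.facts he
    obtain ⟨h1, h2, h3⟩ := (mem_YY hX F.toFacts).mp ha
    exact H.bad he a h1 h2 h3
  have hYab : ∀ a ∈ YY L e₀, ∀ b ∈ YY L e₀, a * b = b * a := by
    intro a ha b hb
    obtain ⟨h1, h2, h3⟩ := (hY a).mp ha
    obtain ⟨h4, h5, h6⟩ := (hY b).mp hb
    have := y_comm F₀ (y := ⟨a, h1⟩) (z := ⟨b, h4⟩) (Subtype.ext h2) ((fix_iff' hX₀ _).mpr h3) (Subtype.ext h5)
      ((fix_iff' hX₀ _).mpr h6)
    exact congrArg Subtype.val this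
  obtain ⟨y₀, hy₀, hy₀1⟩ : ∃ y ∈ YY L e₀, y ≠ 1 := by
    obtain ⟨a, b, ha3, hxa, hb3, hxb, ha1, hb1', hab, hab'⟩ := F₀.indep
    exact ⟨a, (hY a).mpr ⟨a.2, congrArg Subtype.val ha3, (fix_iff' hX₀ a).mp hxa⟩, fun h => ha1 (Subtype.ext h)⟩
  have hs : IsSimpleGroup L := F₀.simp
  have hLK : ∀ a ∈ L, a ∈ centralizer (L : Set G) → a = 1 := fun a ha hk => H.toGrp0.disj he₀ ha hk
  have hYodd : Odd (Nat.card (YY L e₀)) :=
    (H.Oodd e₀).of_dvd_nat (card_dvd_of_le fun y hy => hYO ⟨he₀, rfl⟩ y hy)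
  refine
    { Ocj := H.Ocj
      YL := hYL
      Yab := hYab
      Yodd := hYodd
      YK := fun a ha hk => hLK a (hYL ha) hk
      Ynn := ?_
      gen := ?_
      inv := ?_
      mem := ?_
      core := hYO
      coreK := ?_
      Oodd := H.Oodd
      LZ := hLK
      gen2 := ?_
      comm := ?_
      mul := ?_
      four := ?_
      good := ?_
      aut := ?_
      pair := ?_ }
  · -- `L` does not normalize `Y`
    intro h
    obtain ⟨s, hs'⟩ := H.toGrp0.exS he₀
    have h1 := H.toGrp0.simp he₀ (YY L e₀) hYL (fun l hl n hn => (mem_normalizer_iff.mp (h hl) n).mp hn)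
    rcases h1 with h1 | h1
    · rw [h1, mem_bot] at hy₀
      exact hy₀1 hy₀
    · have h2 : s ∈ YY L e₀ := by rw [h1]; exact hs'.mem
      have h3 := ((hY s).mp h2).2.1
      have h4 : s = s ^ 3 := by rw [pow_three, hs'.sq, mul_one]
      exact hs'.ne (h4.trans h3)
  · intro K hK
    obtain ⟨N, hN⟩ : ∃ N : Subgroup G, N = closure {w | ∃ l ∈ L, ∃ a ∈ YY L e₀, w = l * a * l⁻¹} := ⟨_, rfl⟩
    have hNK : N ≤ K := by
      rw [hN, closure_le]
      rintro _ ⟨l, hl, a, ha, rfl⟩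
      exact hK l hl a ha
    have hNL : N ≤ L := by
      rw [hN, closure_le]
      rintro _ ⟨l, hl, a, ha, rfl⟩
      exact mul_mem (mul_mem hl (hYL ha)) (inv_mem hl)
    have h1 := H.toGrp0.simp he₀ N hNL (by
      intro l hl n hn
      have h2 : N ≤ N.comap (MulAut.conj l).toMonoidHom := by
        nth_rewrite 1 [hN]
        rw [closure_le]
        rintro _ ⟨m, hm, a, ha, rfl⟩
        rw [SetLike.mem_coe, mem_comap]
        change l * (m * a * m⁻¹) * l⁻¹ ∈ N
        rw [hN]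
        exact Subgroup.subset_closure ⟨l * m, mul_mem hl hm, a, ha, by group⟩
      exact h2 hn)
    rcases h1 with h1 | h1
    · exfalso
      apply hy₀1
      have h2 : y₀ ∈ N := by
        rw [hN]
        exact Subgroup.subset_closure ⟨1, one_mem _, y₀, hy₀, by group⟩
      rw [h1, mem_bot] at h2
      exact h2
    · rw [← h1]
      exact hNK
  · rintro e ⟨he, -⟩
    apply Res.ThH.order_two (H.sq he)
    rintro rfl
    obtain ⟨X, hX, F⟩ := H.facts he
    obtain ⟨χ, hχ⟩ := F.chi0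
    have h2 : X = 1 := hX.uniq acts_one
    rw [h2, map_one] at hχ
    exact absurd hχ (by decide)
  · rintro e ⟨he, -⟩
    obtain ⟨X, hX, F⟩ := H.facts he
    exact hX.mem
  · rintro e ⟨he, hee⟩ d hd
    obtain ⟨y, hy, k, hk, rfl⟩ := H.toGrp0.core he (H.O_le he) d hd
    rw [hee] at hy
    exact ⟨y, hy, by rwa [inv_mul_cancel_left]⟩
  · intro K hK
    obtain ⟨N, hN⟩ : ∃ N : Subgroup G, N = closure {w | w ∈ L ∧ w * w = 1} := ⟨_, rfl⟩
    have hNK : N ≤ K := by
      rw [hN, closure_le]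
      rintro w ⟨hw, hww⟩
      exact hK w hw hww
    have hNL : N ≤ L := by
      rw [hN, closure_le]
      rintro w ⟨hw, -⟩
      exact hw
    have h1 := H.toGrp0.simp he₀ N hNL (by
      intro l hl n hn
      have h2 : N ≤ N.comap (MulAut.conj l).toMonoidHom := by
        nth_rewrite 1 [hN]
        rw [closure_le]
        rintro w ⟨hw, hww⟩
        rw [SetLike.mem_coe, mem_comap]
        change l * w * l⁻¹ ∈ N
        rw [hN]
        exact Subgroup.subset_closure ⟨mul_mem (mul_mem hl hw) (inv_mem hl), Res.ThH.conj_mul_self hww⟩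
      exact h2 hn)
    rcases h1 with h1 | h1
    · exfalso
      obtain ⟨s, hs'⟩ := H.toGrp0.exS he₀
      apply hs'.ne
      have h2 : s ∈ N := by
        rw [hN]
        exact Subgroup.subset_closure ⟨hs'.mem, hs'.sq⟩
      rw [h1, mem_bot] at h2
      exact h2
    · rw [← h1]
      exact hNK
  · rintro e ⟨he, hee⟩ a ha
    rw [← hee] at ha
    obtain ⟨X, hX, F⟩ := H.facts he
    exact ((mem_YY hX F.toFacts).mp ha).2.2.symm
  · rintro e t ⟨he, hee⟩ htK ht2 hte
    exact ⟨H.Bt he t ⟨htK, hte, Res.ThH.sq ht2, Res.ThH.ne_one ht2⟩, by rw [YY_mul htK, hee]⟩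
  · rintro e ⟨he, hee⟩
    obtain ⟨t, u, ht, hu, hne, htu⟩ := H.four he
    exact ⟨t, u, ht.mem, hu.mem, Res.ThH.order_two ht.sq ht.ne, Res.ThH.order_two hu.sq hu.ne, hne, htu, ht.comm,
      hu.comm⟩
  · rintro e t ⟨he, hee⟩ htK ht2 hte
    have ht : IsT L e t := ⟨htK, hte, Res.ThH.sq ht2, Res.ThH.ne_one ht2⟩
    constructor
    · intro c hct hcY
      rcases H.cmp he t ht c hct with h | h
      · exact Res.ThH.mem_normalizer_of_le h
      · exfalso
        have h1 : c * y₀ * c⁻¹ ∈ YY L e₀ := (mem_normalizer_iff.mp hcY _).mp hy₀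
        have h2 := hLK _ (hYL h1) (h y₀ (hYL hy₀))
        apply hy₀1
        calc y₀ = c⁻¹ * (c * y₀ * c⁻¹) * c := by group
          _ = 1 := by rw [h2]; group
    · intro c hct a ha
      rcases H.cmp he t ht c hct with h | h
      · exact L_le_M (h a (hYL ha))
      · exact K_le_M (h a (hYL ha))
  · rintro e c ⟨he, hee⟩ hcL hcY
    obtain ⟨X, hX, F⟩ := H.facts he
    have F5 := H.c5 he X hX
    obtain ⟨α, hα⟩ := exists_acts hcL
    obtain ⟨y, hy3, hXy, h⟩ := F5.aut α (by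
      intro y h1 h2
      have h3 : (y : G) ∈ YY L e₀ := by
        rw [← hee]
        exact subset_closure ⟨y.2, congrArg Subtype.val h1, (fix_iff' hX y).mp h2⟩
      have h4 := mem_centralizer_iff.mp hcY _ h3
      apply Subtype.ext
      rw [hα y, ← h4, mul_inv_cancel_right])
    refine ⟨(y : G)⁻¹, inv_mem ?_, ?_⟩
    · rw [← hee]
      exact subset_closure ⟨y.2, congrArg Subtype.val hy3, (fix_iff' hX y).mp hXy⟩
    · have h1 : Acts L ((y : G)⁻¹ * c) ((MulAut.conj y)⁻¹ * α) := (acts_coe y).inv.mul hα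
      rcases h with h | h
      · left
        rw [h, inv_mul_cancel] at h1
        exact acts_one_iff.mp h1
      · right
        have h2 := h1.mul hX
        rw [h] at h2
        have h3 : (MulAut.conj y)⁻¹ * (MulAut.conj y * X) * X = 1 := by
          rw [inv_mul_cancel_left]
          exact F.xx
        rw [h3] at h2
        exact acts_one_iff.mp h2
  · rintro e ⟨he, hee⟩
    obtain ⟨s, hs'⟩ := H.toGrp0.exS he
    obtain ⟨l, hl, hls⟩ := H.toGrp0.cj he s hs'
    refine ⟨s, hs'.mem, l, hl, Res.ThH.order_two hs'.sq hs'.ne, hs'.comm, ?_, hls, ?_⟩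
    · intro a ha
      rw [← hee] at ha
      exact H.toGrp0.inv he s hs' a ha
    · intro K h1 h2
      rw [← hee] at h1 h2
      apply H.toGrp0.gen1 he s hs' K h1
      rw [YY, closure_le]
      rintro y ⟨hy, hy3, hyc⟩
      have h3 : l⁻¹ * y * l ∈ YY L e := by
        refine subset_closure ⟨mul_mem (mul_mem (inv_mem hl) hy) hl, ?_, ?_⟩
        · have : l⁻¹ * y * l = l⁻¹ * y * l⁻¹⁻¹ := by group
          rw [this, conj_pow, hy3]
          group
        · have h4 : e = l⁻¹ * (e * s) * l := by rw [← hls]; group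
          calc l⁻¹ * y * l * e = l⁻¹ * y * l * (l⁻¹ * (e * s) * l) := by rw [← h4]
            _ = l⁻¹ * (y * (e * s)) * l := by group
            _ = l⁻¹ * (e * s * y) * l := by rw [hyc]
            _ = (l⁻¹ * (e * s) * l) * (l⁻¹ * y * l) := by group
            _ = e * (l⁻¹ * y * l) := by rw [← h4]
      have h4 := h2 _ h3
      have h5 : l * (l⁻¹ * y * l) * l⁻¹ = y := by group
      rw [h5] at h4
      exact h4

/-- **THEOREM H\***: `N(Y) ≤ N(L)` -/
theorem NY [Finite G] {e : G} (he : B e) {c : G} (hc : ∀ y ∈ YY L e, c * y * c⁻¹ ∈ YY L e) :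
    c ∈ normalizer (L : Set G) :=
  (H.data he).normalizer_le ⟨he, rfl⟩ (Res.ThH.mem_normalizer_of_le hc)

/-- `C(Y) ≤ N(L)` -/
theorem CY [Finite G] {e : G} (he : B e) {c : G} (hc : ∀ y ∈ YY L e, y * c = c * y) :
    c ∈ normalizer (L : Set G) :=
  (H.data he).cen_le_normalizer ⟨he, rfl⟩ (mem_centralizer_iff.mpr hc)

end HGrp

/-- The hypotheses of `QGrp.main` (as `PGrp`, without `NY`). -/
structure QGrp (O : G → Subgroup G) (L : Subgroup G) (B : G → Prop) : Prop extends HGrp O L B where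
  Bcj : ∀ {e}, B e → ∀ l ∈ L, B (l * e * l⁻¹)
  /-- `L` is the only component of its class of `C(t)` moved by `O(C(e))` -/
  uni : ∀ {e}, B e → ∀ z, IsT L e z → ∀ g, g * e = e * g → IsT L e (g * z * g⁻¹) →
    g ∈ normalizer (L : Set G)
  fin : ∀ {e}, B e → ∀ t, IsT L e t → O t ≤ centralizer (L : Set G)

namespace QGrp

variable {O : G → Subgroup G} {L : Subgroup G} {B : G → Prop} (H : QGrp O L B)
include H

theorem pgrp [Finite G] : PGrp O L B where
  toGrp0 := H.toGrp0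
  cY he X hX := (H.c5 he X hX).toFacts4
  Bcj := H.Bcj
  Bt := H.Bt
  four := H.four
  uni := H.uni
  cmp := H.cmp
  fin := H.fin
  nc := H.nc
  NY he _ hc := H.toHGrp.NY he hc
  bad := H.bad

/-- `C(e) ≤ N(L)` for bad `e` -/
theorem main [Finite G] {e : G} (he : B e) {c : G} (hc : c * e = e * c) : c ∈ normalizer (L : Set G) :=
  H.pgrp.main he hc

end QGrp

end Cfsg.Agent.UGT.CE.L34
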