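import Cfsg.Agent.UGT.ThE.Base

/-!
# `C(e) ≤ N(L)` for bad involutions `e`, I: conjugates of `L` in `N(L)`

The lemmas `z1`-`z4`, `wfix`, `fixT` of `UGT/ThE/Base.lean` without the hypotheses `C(x), C(xt) ≤ N(L)` (structure `Pre`).
-/

set_option autoImplicit false

open Subgroup

namespace Cfsg.Agent.UGT.CE.Base

open Cfsg.Agent.UGT.ThE.Base (IsT IsS comm_of_mem L_conj L_conj' K_le_M L_le_M K_conj K_conj' exists_central)

variable {G : Type*} [Group G]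

/-- The common hypotheses: `L` simple, no two conjugates of `L` commute, `C(t) ≤ N(L)`. -/
structure Pre (L : Subgroup G) (x : G) : Prop where
  xx : x * x = 1
  xM : x ∈ normalizer (L : Set G)
  simp : ∀ N : Subgroup G, N ≤ L → (∀ l ∈ L, ∀ n ∈ N, l * n * l⁻¹ ∈ N) → N = ⊥ ∨ N = L
  nc : ∀ g : G, ¬ ∀ l ∈ L, g * l * g⁻¹ ∈ centralizer (L : Set G)
  Ct : ∀ t, IsT L x t → ∀ c, c * t = t * c → c ∈ normalizer (L : Set G)
  perf : ∀ g : G, (∀ l ∈ L, g * l * g⁻¹ ∈ normalizer (L : Set G)) → ∀ l ∈ L,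
    ∃ l' ∈ L, g * l * g⁻¹ * l' ∈ centralizer (L : Set G)

namespace Pre

variable {L : Subgroup G} {x : G} (H : Pre L x)
include H

theorem xi : x⁻¹ = x := inv_eq_of_mul_eq_one_left H.xx

theorem disj {l : G} (hl : l ∈ L) (hk : l ∈ centralizer (L : Set G)) : l = 1 := by
  rcases H.simp (L ⊓ centralizer (L : Set G)) inf_le_left (fun l hl n hn =>
    mem_inf.mpr ⟨mul_mem (mul_mem hl hn.1) (inv_mem hl), K_conj (L_le_M hl) hn.2⟩) with h | h
  · exact mem_bot.mp (h ▸ (⟨hl, hk⟩ : l ∈ L ⊓ centralizer (L : Set G)))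
  · exfalso
    apply H.nc 1
    intro l hl
    have : l ∈ L ⊓ centralizer (L : Set G) := h.symm ▸ hl
    simpa using this.2

/-- (0)(i) -/
theorem z1 {g : G} (h : ∀ l ∈ L, g * l * g⁻¹ ∈ normalizer (L : Set G)) {l : G} (hl : l ∈ L)
    (hk : g * l * g⁻¹ ∈ centralizer (L : Set G)) : l = 1 := by
  rcases H.simp (L ⊓ (centralizer (L : Set G)).comap (MulAut.conj g).toMonoidHom) inf_le_left
    (fun l hl n hn => mem_inf.mpr ⟨mul_mem (mul_mem hl hn.1) (inv_mem hl), mem_comap.mpr (by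
      have h1 : (MulAut.conj g).toMonoidHom (l * n * l⁻¹) =
          (g * l * g⁻¹) * (g * n * g⁻¹) * (g * l * g⁻¹)⁻¹ := by
        simp only [MulEquiv.coe_toMonoidHom, MulAut.conj_apply]; group
      rw [h1]
      exact K_conj (h l hl) hn.2)⟩) with h1 | h1
  · exact mem_bot.mp (h1 ▸ (⟨hl, hk⟩ :
      l ∈ L ⊓ (centralizer (L : Set G)).comap (MulAut.conj g).toMonoidHom))
  · exfalso
    apply H.nc g
    intro l hl
    have : l ∈ L ⊓ (centralizer (L : Set G)).comap (MulAut.conj g).toMonoidHom := h1.symm ▸ hl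
    exact this.2

/-- (0)(ii) -/
theorem z2 [Finite G] {g : G} (hg : g ∉ normalizer (L : Set G))
    (h : ∀ l ∈ L, g * l * g⁻¹ ∈ normalizer (L : Set G)) {l : G} (hl : l ∈ L)
    (hk : g * l * g⁻¹ ∈ L) : l = 1 := by
  rcases H.simp (L ⊓ L.comap (MulAut.conj g).toMonoidHom) inf_le_left
    (fun l hl n hn => mem_inf.mpr ⟨mul_mem (mul_mem hl hn.1) (inv_mem hl), mem_comap.mpr (by
      have h1 : (MulAut.conj g).toMonoidHom (l * n * l⁻¹) =
          (g * l * g⁻¹) * (g * n * g⁻¹) * (g * l * g⁻¹)⁻¹ := by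
        simp only [MulEquiv.coe_toMonoidHom, MulAut.conj_apply]; group
      rw [h1]
      exact L_conj (h l hl) hn.2)⟩) with h1 | h1
  · exact mem_bot.mp (h1 ▸ (⟨hl, hk⟩ : l ∈ L ⊓ L.comap (MulAut.conj g).toMonoidHom))
  · exfalso
    apply hg
    have h2 : ∀ l ∈ L, g * l * g⁻¹ ∈ L := by
      intro l hl
      have : l ∈ L ⊓ L.comap (MulAut.conj g).toMonoidHom := h1.symm ▸ hl
      exact this.2
    rw [mem_normalizer_iff]
    intro y
    refine ⟨h2 y, fun hy => ?_⟩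
    have h3 : Function.Surjective (fun l : L => (⟨g * l * g⁻¹, h2 l l.2⟩ : L)) := by
      apply Finite.injective_iff_surjective.mp
      intro a b hab
      have h4 : g * (a : G) * g⁻¹ = g * (b : G) * g⁻¹ := congrArg Subtype.val hab
      exact Subtype.ext (mul_left_cancel (mul_right_cancel h4))
    obtain ⟨⟨b, hb⟩, hb2⟩ := h3 ⟨g * y * g⁻¹, hy⟩
    have h5 : g * b * g⁻¹ = g * y * g⁻¹ := congrArg Subtype.val hb2
    rw [← mul_left_cancel (mul_right_cancel h5)]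
    exact hb

/-- (0)(iii): `w ∈ K` normalizing `L₁ ≤ M` centralizes `L₁` -/
theorem z3 {g : G} (h : ∀ l ∈ L, g * l * g⁻¹ ∈ normalizer (L : Set G)) {w : G}
    (hw : w ∈ centralizer (L : Set G)) (hwg : g⁻¹ * w * g ∈ normalizer (L : Set G)) :
    g⁻¹ * w * g ∈ centralizer (L : Set G) := by
  rw [mem_centralizer_iff]
  intro l hl
  obtain ⟨l', hl', hk⟩ := H.perf g h l hl
  obtain ⟨k, hkdef⟩ : ∃ k, k = g * l * g⁻¹ * l' := ⟨_, rfl⟩
  rw [← hkdef] at hk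
  have e1 : g * l * g⁻¹ = k * l'⁻¹ := by rw [hkdef]; group
  have h1 : (g⁻¹ * w * g) * l * (g⁻¹ * w * g)⁻¹ * l⁻¹ ∈ L := mul_mem (L_conj hwg hl) (inv_mem hl)
  have h2 : g * ((g⁻¹ * w * g) * l * (g⁻¹ * w * g)⁻¹ * l⁻¹) * g⁻¹ =
      (w * k * w⁻¹) * k⁻¹ := by
    calc g * ((g⁻¹ * w * g) * l * (g⁻¹ * w * g)⁻¹ * l⁻¹) * g⁻¹
        = w * (g * l * g⁻¹) * w⁻¹ * (g * l * g⁻¹)⁻¹ := by group
      _ = w * k * (l'⁻¹ * w⁻¹) * l' * k⁻¹ := by rw [e1]; group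
      _ = w * k * (w⁻¹ * l'⁻¹) * l' * k⁻¹ := by
        rw [comm_of_mem (inv_mem hl') (inv_mem hw)]
      _ = _ := by group
  have h3 := H.z1 h h1 (by
    rw [h2]
    exact mul_mem (mul_mem (mul_mem hw hk) (inv_mem hw)) (inv_mem hk))
  have h4 : (g⁻¹ * w * g) * l * (g⁻¹ * w * g)⁻¹ = l := mul_inv_eq_one.mp h3
  calc l * (g⁻¹ * w * g) = (g⁻¹ * w * g) * l * (g⁻¹ * w * g)⁻¹ * (g⁻¹ * w * g) := by rw [h4]
    _ = g⁻¹ * w * g * l := by group

/-- (0)(iv): `w ∈ M` centralizing `L₁ ≤ M` centralizes `L` -/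
theorem z4 [Finite G] {g : G} (h : ∀ l ∈ L, g * l * g⁻¹ ∈ normalizer (L : Set G)) {w : G}
    (hw : w ∈ normalizer (L : Set G)) (hwg : g⁻¹ * w * g ∈ centralizer (L : Set G)) :
    w ∈ centralizer (L : Set G) := by
  choose f hf using fun l : L => H.perf g h l.1 l.2
  have hinj : Function.Injective (fun l : L => (⟨f l, (hf l).1⟩ : L)) := by
    intro a b hab
    have h1 : f a = f b := congrArg Subtype.val hab
    have h2 := mul_mem (hf a).2 (inv_mem (hf b).2)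
    rw [h1] at h2
    have h3 : g * (a : G) * g⁻¹ * f b * (g * (b : G) * g⁻¹ * f b)⁻¹ =
        g * ((a : G) * (b : G)⁻¹) * g⁻¹ := by group
    rw [h3] at h2
    have h4 := H.z1 h (mul_mem a.2 (inv_mem b.2)) h2
    exact Subtype.ext (mul_inv_eq_one.mp h4)
  have hsurj := Finite.injective_iff_surjective.mp hinj
  rw [mem_centralizer_iff]
  intro y hy
  obtain ⟨⟨l, hl⟩, hly⟩ := hsurj ⟨y, hy⟩
  have h1 : f ⟨l, hl⟩ = y := congrArg Subtype.val hly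
  have hk := (hf ⟨l, hl⟩).2
  rw [h1] at hk
  obtain ⟨k, hkdef⟩ : ∃ k, k = g * l * g⁻¹ * y := ⟨_, rfl⟩
  rw [← hkdef] at hk
  have e1 : g * l * g⁻¹ = k * y⁻¹ := by rw [hkdef]; group
  have h2 : w * (g * l * g⁻¹) * w⁻¹ = g * l * g⁻¹ := by
    have h3 := comm_of_mem hl hwg
    calc w * (g * l * g⁻¹) * w⁻¹ = g * ((g⁻¹ * w * g) * l) * g⁻¹ * w⁻¹ := by group
      _ = g * (l * (g⁻¹ * w * g)) * g⁻¹ * w⁻¹ := by rw [h3]
      _ = g * l * g⁻¹ := by group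
  rw [e1] at h2
  have h3 : k⁻¹ * (w * k * w⁻¹) = y⁻¹ * (w * y * w⁻¹) := by
    have h4 : (w * k * w⁻¹) * (w * y * w⁻¹)⁻¹ = k * y⁻¹ := by
      calc (w * k * w⁻¹) * (w * y * w⁻¹)⁻¹ = w * (k * y⁻¹) * w⁻¹ := by group
        _ = k * y⁻¹ := h2
    calc k⁻¹ * (w * k * w⁻¹) = k⁻¹ * ((w * k * w⁻¹) * (w * y * w⁻¹)⁻¹) * (w * y * w⁻¹) := by group
      _ = k⁻¹ * (k * y⁻¹) * (w * y * w⁻¹) := by rw [h4]
      _ = _ := by group
  have h5 := H.disj (mul_mem (inv_mem hy) (L_conj hw hy))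
    (h3 ▸ mul_mem (inv_mem hk) (K_conj hw hk))
  have h6 : w * y * w⁻¹ = y := (inv_mul_eq_one.mp h5).symm
  calc y * w = w * y * w⁻¹ * w := by rw [h6]
    _ = w * y := by group

end Pre

namespace Pre

variable {L : Subgroup G} {x : G} (H : Pre L x)
include H

/-- every involution of `K` commutes with an involution `w` of `K` with `C(w) ≤ M` -/
theorem wfix [Finite G] {t : G} (htK : t ∈ centralizer (L : Set G)) (htt : t * t = 1) (ht1 : t ≠ 1) :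
    ∃ w ∈ centralizer (L : Set G), w * w = 1 ∧ w ≠ 1 ∧ w * t = t * w ∧
      ∀ c, c * w = w * c → c ∈ normalizer (L : Set G) := by
  have : Fact (Nat.Prime 2) := ⟨Nat.prime_two⟩
  obtain ⟨M, hM⟩ : ∃ M, M = normalizer (L : Set G) := ⟨_, rfl⟩
  have hxM : x ∈ M := hM ▸ H.xM
  have htM : t ∈ M := hM ▸ K_le_M htK
  -- a Sylow 2-subgroup of `M` containing `x`
  have hpow : ∀ (y : M), y * y = 1 → IsPGroup 2 (zpowers y) := by
    intro y hy
    rintro ⟨z, hz⟩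
    obtain ⟨n, rfl⟩ := mem_zpowers_iff.mp hz
    refine ⟨1, ?_⟩
    apply Subtype.ext
    change (y ^ n) ^ 2 ^ 1 = 1
    rw [pow_one, pow_two, ← zpow_add, ← two_mul, zpow_mul]
    have : y ^ (2 : ℤ) = 1 := by rw [zpow_two]; exact hy
    rw [this, one_zpow]
  obtain ⟨S, hS⟩ := (hpow ⟨x, hxM⟩ (Subtype.ext H.xx)).exists_le_sylow
  obtain ⟨P, hP⟩ := (hpow ⟨t, htM⟩ (Subtype.ext htt)).exists_le_sylow
  obtain ⟨m, hm⟩ := MulAction.exists_smul_eq M P S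
  have hxS : (⟨x, hxM⟩ : M) ∈ (S : Subgroup M) := hS (mem_zpowers _)
  have htP : (⟨t, htM⟩ : M) ∈ (P : Subgroup M) := hP (mem_zpowers _)
  have htS : m * ⟨t, htM⟩ * m⁻¹ ∈ (S : Subgroup M) := by
    rw [← hm, Sylow.coe_subgroup_smul, mem_pointwise_smul_iff_inv_smul_mem]
    simpa [MulAut.smul_def, mul_assoc] using htP
  obtain ⟨S', hS'⟩ : ∃ S', S' = (S : Subgroup M).map M.subtype := ⟨_, rfl⟩
  have hS2 : IsPGroup 2 S' := hS' ▸ S.2.map _
  have hmem : ∀ y : M, y ∈ (S : Subgroup M) → (y : G) ∈ S' := by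
    intro y hy
    rw [hS']
    exact ⟨y, hy, rfl⟩
  have hSM : S' ≤ M := by
    rw [hS']
    rintro _ ⟨y, _, rfl⟩
    exact y.2
  have hmM : (m : G) ∈ normalizer (L : Set G) := hM ▸ m.2
  have htt' : (m : G) * t * (m : G)⁻¹ ∈ centralizer (L : Set G) := K_conj hmM htK
  obtain ⟨w, hw, hww, hw1, hwS⟩ := exists_central hS2 (N := S' ⊓ centralizer (L : Set G)) inf_le_left
    (fun s hs n hn => mem_inf.mpr ⟨mul_mem (mul_mem hs hn.1) (inv_mem hs),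
      K_conj (hM ▸ hSM hs) hn.2⟩) (by
      intro h
      have h1 : (m : G) * t * (m : G)⁻¹ ∈ S' ⊓ centralizer (L : Set G) := ⟨hmem _ htS, htt'⟩
      rw [h, mem_bot] at h1
      apply ht1
      calc t = (m : G)⁻¹ * ((m : G) * t * (m : G)⁻¹) * m := by group
        _ = 1 := by rw [h1]; group)
  have hwT : IsT L x w := ⟨hw.2, hwS x (hmem _ hxS), hww, hw1⟩
  refine ⟨(m : G)⁻¹ * w * m, K_conj' hmM hw.2, ?_, ?_, ?_, ?_⟩
  · calc (m : G)⁻¹ * w * m * ((m : G)⁻¹ * w * m) = (m : G)⁻¹ * (w * w) * m := by group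
      _ = 1 := by rw [hww]; group
  · intro h
    apply hw1
    calc w = (m : G) * ((m : G)⁻¹ * w * m) * (m : G)⁻¹ := by group
      _ = 1 := by rw [h]; group
  · have h1 := hwS _ (hmem _ htS)
    have h2 : w * ((m : G) * t * (m : G)⁻¹) = (m : G) * t * (m : G)⁻¹ * w := h1
    calc (m : G)⁻¹ * w * m * t = (m : G)⁻¹ * (w * ((m : G) * t * (m : G)⁻¹)) * m := by group
      _ = (m : G)⁻¹ * ((m : G) * t * (m : G)⁻¹ * w) * m := by rw [h2]
      _ = t * ((m : G)⁻¹ * w * m) := by group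
  · intro c hc
    have h1 : ((m : G) * c * (m : G)⁻¹) * w = w * ((m : G) * c * (m : G)⁻¹) := by
      calc ((m : G) * c * (m : G)⁻¹) * w = m * (c * ((m : G)⁻¹ * w * m)) * (m : G)⁻¹ := by group
        _ = m * (((m : G)⁻¹ * w * m) * c) * (m : G)⁻¹ := by rw [hc]
        _ = _ := by group
    have h2 := H.Ct w hwT _ h1
    have h3 : c = (m : G)⁻¹ * ((m : G) * c * (m : G)⁻¹) * m := by group
    rw [h3]
    exact mul_mem (mul_mem (inv_mem hmM) h2) hmM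

/-- (a') -/
theorem fixT [Finite G] {t g : G} (ht : IsT L x t) (h : g⁻¹ * t * g ∈ centralizer (L : Set G)) :
    g ∈ normalizer (L : Set G) := by
  by_contra hg
  have hL1 : ∀ l ∈ L, g * l * g⁻¹ ∈ normalizer (L : Set G) := by
    intro l hl
    apply H.Ct t ht
    have h1 := comm_of_mem hl h
    calc g * l * g⁻¹ * t = g * (l * (g⁻¹ * t * g)) * g⁻¹ := by group
      _ = g * ((g⁻¹ * t * g) * l) * g⁻¹ := by rw [h1]
      _ = t * (g * l * g⁻¹) := by group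
  have e1 : (g⁻¹ * t * g) * (g⁻¹ * t * g) = 1 := by
    calc (g⁻¹ * t * g) * (g⁻¹ * t * g) = g⁻¹ * (t * t) * g := by group
      _ = 1 := by rw [ht.sq]; group
  have e2 : g⁻¹ * t * g ≠ 1 := by
    intro h1
    apply ht.ne
    calc t = g * (g⁻¹ * t * g) * g⁻¹ := by group
      _ = 1 := by rw [h1]; group
  obtain ⟨w, hwK, -, -, hwt, hwC⟩ := H.wfix h e1 e2
  have h2 : g * w * g⁻¹ ∈ normalizer (L : Set G) := by
    apply H.Ct t ht
    calc g * w * g⁻¹ * t = g * (w * (g⁻¹ * t * g)) * g⁻¹ := by group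
      _ = g * ((g⁻¹ * t * g) * w) * g⁻¹ := by rw [hwt]
      _ = t * (g * w * g⁻¹) := by group
  have h3 : g * w * g⁻¹ ∈ centralizer (L : Set G) := H.z4 hL1 h2 (by
    have : g⁻¹ * (g * w * g⁻¹) * g = w := by group
    rw [this]; exact hwK)
  have hL2 : ∀ l ∈ L, g⁻¹ * l * g ∈ normalizer (L : Set G) := by
    intro l hl
    apply hwC
    have h4 := comm_of_mem hl h3
    calc g⁻¹ * l * g * w = g⁻¹ * (l * (g * w * g⁻¹)) * g := by group
      _ = g⁻¹ * ((g * w * g⁻¹) * l) * g := by rw [h4]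
      _ = w * (g⁻¹ * l * g) := by group
  apply H.nc g
  intro l' hl'
  rw [mem_centralizer_iff]
  intro l hl
  have h5 : (g⁻¹ * l * g) * l' * (g⁻¹ * l * g)⁻¹ * l'⁻¹ ∈ L :=
    mul_mem (L_conj (hL2 l hl) hl') (inv_mem hl')
  have h6 : g * ((g⁻¹ * l * g) * l' * (g⁻¹ * l * g)⁻¹ * l'⁻¹) * g⁻¹ ∈ L := by
    have h7 : g * ((g⁻¹ * l * g) * l' * (g⁻¹ * l * g)⁻¹ * l'⁻¹) * g⁻¹ =
        l * ((g * l' * g⁻¹) * l⁻¹ * (g * l' * g⁻¹)⁻¹) := by group
    rw [h7]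
    exact mul_mem hl (L_conj (hL1 l' hl') (inv_mem hl))
  have h8 := H.z2 hg hL1 h5 h6
  have h9 : (g⁻¹ * l * g) * l' * (g⁻¹ * l * g)⁻¹ = l' := mul_inv_eq_one.mp h8
  calc l * (g * l' * g⁻¹) = g * ((g⁻¹ * l * g) * l' * (g⁻¹ * l * g)⁻¹) * g⁻¹ * l := by group
    _ = g * l' * g⁻¹ * l := by rw [h9]

end Pre

end Cfsg.Agent.UGT.CE.Base
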