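import Cfsg.Agent.UGT.CE.Base
import Cfsg.Agent.Lib.KleinGen

/-!
# `C(e) ≤ N(L)` for bad involutions `e`, II: the configuration, and `C(e, s) ≤ N(L)`

`L ≤ G` simple, `K = C(L)`, `M = N(L)`; `B e` ("bad"): `e ∈ M` is an involution; `C(t) ≤ M` for the involutions `t` of
`C_K(e)`; no two conjugates of `L` commute; `O e` is the core of `C(e)`, `Y e` the part of it in `L`. The other fields are
facts about `Aut L`; `J v` is `C_L(v)` (or its derived subgroup) for the involutions `v` of `C_M(e)` acting on `L`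
neither as elements of `L` nor of `Le` (structure `Wild`).
-/

set_option autoImplicit false

open Subgroup

namespace Cfsg.Agent.UGT.CE

open Cfsg.Agent.UGT.ThE.Base (IsT IsS comm_of_mem L_conj L_conj' K_le_M L_le_M K_conj K_conj' exists_central)
open Cfsg.Agent.UGT.CE.Base

universe u

variable {G : Type u} [Group G]

/-- `v` is an involution of `N(L)` commuting with `e`, which acts on `L` neither as an element of `L` nor of `Le` -/
structure Wild (L : Subgroup G) (e v : G) : Prop where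
  mem : v ∈ normalizer (L : Set G)
  comm : v * e = e * v
  sq : v * v = 1
  inn : ∀ l ∈ L, l * v ∉ centralizer (L : Set G)
  einn : ∀ l ∈ L, l * e * v ∉ centralizer (L : Set G)

/-- The configuration. -/
structure Conf (O Y J : G → Subgroup G) (L : Subgroup G) (B : G → Prop) : Prop where
  Ocj : ∀ g t a : G, a ∈ O t → g * a * g⁻¹ ∈ O (g * t * g⁻¹)
  simp : ∀ N : Subgroup G, N ≤ L → (∀ l ∈ L, ∀ n ∈ N, l * n * l⁻¹ ∈ N) → N = ⊥ ∨ N = L
  nc : ∀ g : G, ¬ ∀ l ∈ L, g * l * g⁻¹ ∈ centralizer (L : Set G)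
  /-- `Out L` is solvable -/
  perf : ∀ g : G, (∀ l ∈ L, g * l * g⁻¹ ∈ normalizer (L : Set G)) → ∀ l ∈ L,
    ∃ l' ∈ L, g * l * g⁻¹ * l' ∈ centralizer (L : Set G)
  sq : ∀ {e}, B e → e * e = 1
  mem : ∀ {e}, B e → e ∈ normalizer (L : Set G)
  odd : ∀ {e}, B e → Odd (Nat.card (O e))
  Bcj : ∀ {e}, B e → ∀ l ∈ L, B (l * e * l⁻¹)
  four : ∀ {e}, B e → ∃ t u, IsT L e t ∧ IsT L e u ∧ t ≠ u ∧ t * u = u * t
  Ct : ∀ {e}, B e → ∀ t, IsT L e t → ∀ c, c * t = t * c → c ∈ normalizer (L : Set G)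
  YL : ∀ {e}, B e → Y e ≤ L
  YO : ∀ {e}, B e → Y e ≤ O e
  /-- `O(C(e))` acts on `L` as `Y e` -/
  core : ∀ {e}, B e → O e ≤ normalizer (L : Set G) → ∀ a ∈ O e, ∃ y ∈ Y e,
    ∃ k ∈ centralizer (L : Set G), a = y * k
  exS : ∀ {e}, B e → ∃ s, IsS L e s
  inv : ∀ {e}, B e → ∀ s, IsS L e s → ∀ y ∈ Y e, s * y * s⁻¹ = y⁻¹
  cj : ∀ {e}, B e → ∀ s, IsS L e s → ∃ l ∈ L, l * e * l⁻¹ = e * s
  gen1 : ∀ {e}, B e → ∀ s, IsS L e s → ∀ H : Subgroup G, Y e ≤ H → Y (e * s) ≤ H → L ≤ H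
  gen2 : ∀ {e}, B e → ∀ s, IsS L e s → ∀ H : Subgroup G, Y e ≤ H → (∀ l ∈ L, l * s = s * l → l ∈ H) → L ≤ H
  /-- `C_{Aut L}(v)` is solvable if `v` acts as an element of `L` or `Le` -/
  solv : ∀ {e}, B e → ∀ v, v ∈ normalizer (L : Set G) → v * e = e * v → v * v = 1 →
    v ∉ centralizer (L : Set G) → ¬ Wild L e v → ∀ X : Subgroup G, X ≤ normalizer (L : Set G) →
    (∀ x ∈ X, x * v = v * x) → X ≤ ⁅X, X⁆ → X ≤ centralizer (L : Set G)
  wle : ∀ {e}, B e → ∀ v, Wild L e v → J v ≤ L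
  wcomm : ∀ {e}, B e → ∀ v, Wild L e v → ∀ j ∈ J v, j * v = v * j
  wsimp : ∀ {e}, B e → ∀ v, Wild L e v → ∀ N : Subgroup G, N ≤ J v → (∀ l ∈ J v, ∀ n ∈ N, l * n * l⁻¹ ∈ N) →
    N = ⊥ ∨ N = J v
  wperf : ∀ {e}, B e → ∀ v, Wild L e v → J v ≤ ⁅J v, J v⁆
  wfix : ∀ {e}, B e → ∀ v, Wild L e v → ∃ i ∈ J v, IsS L e i
  wone : ∀ {e}, B e → ∀ v, Wild L e v → ∀ i ∈ J v, ∀ i' ∈ J v, i * i = 1 → i ≠ 1 → i' * i' = 1 → i' ≠ 1 →
    ∃ j ∈ J v, j * i * j⁻¹ = i'
  wgen : ∀ {e}, B e → ∀ v, Wild L e v → ∀ H : Subgroup G,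
    (∀ j ∈ J v, j * j = 1 → j ≠ 1 → ∀ l ∈ L, l * j = j * l → l ∈ H) → L ≤ H
  wY : ∀ {e}, B e → ∀ v, Wild L e v → ∀ H : Subgroup G, J v ≤ H → Y e ≤ H → L ≤ H
  /-- `J v` is the last term of the derived series of `C_{Aut L}(v)` -/
  wmax : ∀ {e}, B e → ∀ v, Wild L e v → ∀ X : Subgroup G, X ≤ normalizer (L : Set G) →
    (∀ x ∈ X, x * v = v * x) → X ≤ ⁅X, X⁆ → ∀ x ∈ X, ∃ j ∈ J v, ∃ k ∈ centralizer (L : Set G), x = j * k
  /-- if a conjugate of `J v'` acts nontrivially on `L` in the centraliser of `v`, then it acts as `J v` -/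
  wmin : ∀ {e}, B e → ∀ v v', Wild L e v → Wild L e v' → ∀ h : G,
    (∀ j ∈ J v', h * j * h⁻¹ ∈ normalizer (L : Set G)) → (∀ j ∈ J v', h * j * h⁻¹ * v = v * (h * j * h⁻¹)) →
    (¬ ∀ j ∈ J v', h * j * h⁻¹ ∈ centralizer (L : Set G)) →
    ∀ j ∈ J v, ∃ j' ∈ J v', ∃ k ∈ centralizer (L : Set G), h * j' * h⁻¹ = j * k

theorem isT_mul {L : Subgroup G} {e t u : G} (ht : IsT L e t) (hu : IsT L e u) (hne : t ≠ u)
    (htu : t * u = u * t) : IsT L e (t * u) where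
  mem := mul_mem ht.mem hu.mem
  comm := by
    calc t * u * e = t * (u * e) := by group
      _ = t * e * u := by rw [hu.comm]; group
      _ = e * (t * u) := by rw [ht.comm]; group
  sq := by
    calc t * u * (t * u) = t * (u * t) * u := by group
      _ = (t * t) * (u * u) := by rw [← htu]; group
      _ = 1 := by rw [ht.sq, hu.sq, one_mul]
  ne := by
    intro h
    apply hne
    calc t = t * u * u⁻¹ := by group
      _ = u⁻¹ := by rw [h, one_mul]
      _ = u := inv_eq_of_mul_eq_one_left hu.sq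

theorem mem_normalizer_of [Finite G] {L : Subgroup G} {c : G} (h : ∀ l ∈ L, c * l * c⁻¹ ∈ L) :
    c ∈ normalizer (L : Set G) := by
  rw [mem_normalizer_iff]
  intro y
  refine ⟨h y, fun hy => ?_⟩
  have h3 : Function.Surjective (fun l : L => (⟨c * l * c⁻¹, h l l.2⟩ : L)) := by
    apply Finite.injective_iff_surjective.mp
    intro a b hab
    have h4 : c * (a : G) * c⁻¹ = c * (b : G) * c⁻¹ := congrArg Subtype.val hab
    exact Subtype.ext (mul_left_cancel (mul_right_cancel h4))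
  obtain ⟨⟨b, hb⟩, hb2⟩ := h3 ⟨c * y * c⁻¹, hy⟩
  have h5 : c * b * c⁻¹ = c * y * c⁻¹ := congrArg Subtype.val hb2
  rw [← mul_left_cancel (mul_right_cancel h5)]
  exact hb

theorem cj_comm {g e a : G} (h : g * e = e * g) (ha : a * e = e * a) :
    g * a * g⁻¹ * e = e * (g * a * g⁻¹) := by
  have h' : g⁻¹ * e = e * g⁻¹ := by
    calc g⁻¹ * e = g⁻¹ * (e * g) * g⁻¹ := by group
      _ = g⁻¹ * (g * e) * g⁻¹ := by rw [h]
      _ = e * g⁻¹ := by group
  calc g * a * g⁻¹ * e = g * a * (g⁻¹ * e) := by group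
    _ = g * (a * e) * g⁻¹ := by rw [h']; group
    _ = (g * e) * a * g⁻¹ := by rw [ha]; group
    _ = e * (g * a * g⁻¹) := by rw [h]; group

theorem inv_comm {g e : G} (h : g * e = e * g) : g⁻¹ * e = e * g⁻¹ := by
  calc g⁻¹ * e = g⁻¹ * (e * g) * g⁻¹ := by group
    _ = g⁻¹ * (g * e) * g⁻¹ := by rw [h]
    _ = e * g⁻¹ := by group

theorem cj_eq {g e : G} (h : g * e = e * g) : g * e * g⁻¹ = e := by rw [h]; group

namespace Conf

variable {O Y J : G → Subgroup G} {L : Subgroup G} {B : G → Prop} (H : Conf O Y J L B)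
include H

theorem pre {e : G} (he : B e) : Pre L e where
  xx := H.sq he
  xM := H.mem he
  simp := H.simp
  nc := H.nc
  Ct := H.Ct he
  perf := H.perf

theorem disj {e : G} (he : B e) {l : G} (hl : l ∈ L) (hk : l ∈ centralizer (L : Set G)) : l = 1 :=
  (H.pre he).disj hl hk

theorem uniq {e : G} (he : B e) {a b c d : G} (ha : a ∈ L) (hb : b ∈ centralizer (L : Set G)) (hc : c ∈ L)
    (hd : d ∈ centralizer (L : Set G)) (h : a * b = c * d) : a = c ∧ b = d := by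
  have h1 : c⁻¹ * a = d * b⁻¹ := by
    calc c⁻¹ * a = c⁻¹ * (a * b) * b⁻¹ := by group
      _ = d * b⁻¹ := by rw [h]; group
  have h2 : c⁻¹ * a = 1 := H.disj he (mul_mem (inv_mem hc) ha) (by rw [h1]; exact mul_mem hd (inv_mem hb))
  have h3 : a = c := (inv_mul_eq_one.mp h2).symm
  exact ⟨h3, by rw [h3] at h; exact mul_left_cancel h⟩

theorem O_conj {e c : G} (h : c * e = e * c) {a : G} (ha : a ∈ O e) : c * a * c⁻¹ ∈ O e := by
  have h1 := H.Ocj c e a ha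
  rwa [cj_eq h] at h1

theorem O_le [Finite G] {e : G} (he : B e) : O e ≤ normalizer (L : Set G) := by
  obtain ⟨t, u, ht, hu, hne, htu⟩ := H.four he
  refine Cfsg.Agent.Lib.KleinGen.le_of_klein (O e) _ (H.odd he) t u ht.sq hu.sq htu
    (fun a ha => H.O_conj ht.comm ha) (fun a ha => H.O_conj hu.comm ha) ?_ ?_ ?_
  · intro c hc
    exact H.Ct he t ht c (mem_centralizer_singleton_iff.mp hc.2)
  · intro c hc
    exact H.Ct he u hu c (mem_centralizer_singleton_iff.mp hc.2)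
  · intro c hc
    exact H.Ct he _ (isT_mul ht hu hne htu) c (mem_centralizer_singleton_iff.mp hc.2)

theorem core' [Finite G] {e : G} (he : B e) {a : G} (ha : a ∈ O e) : ∃ y ∈ Y e,
    ∃ k ∈ centralizer (L : Set G), a = y * k := H.core he (H.O_le he) a ha

theorem Ysq [Finite G] {e : G} (he : B e) {y : G} (hy : y ∈ Y e) : ∃ y' ∈ Y e, y = y' * y' := by
  have h1 : Odd (orderOf y) := (H.odd he).of_dvd_nat (Subgroup.orderOf_dvd_natCard _ (H.YO he hy))
  obtain ⟨m, hm⟩ := h1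
  refine ⟨y ^ (m + 1), pow_mem hy _, ?_⟩
  have h2 : y ^ (2 * m + 1) = 1 := by rw [← hm]; exact pow_orderOf_eq_one y
  calc y = y ^ (2 * m + 1) * y := by rw [h2, one_mul]
    _ = y ^ (m + 1) * y ^ (m + 1) := by rw [← pow_succ, ← pow_add]; congr 1; omega

/-- the commutator with an involution `s` of `C_L(e)` of an element of `O(C(e))` -/
theorem comm_yk {e : G} (he : B e) {s : G} (hs : IsS L e s) {y k : G} (hy : y ∈ Y e)
    (hk : k ∈ centralizer (L : Set G)) : y * k * s * (y * k)⁻¹ * s⁻¹ = y * y := by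
  have h1 : k * s * k⁻¹ = s := by rw [← comm_of_mem hs.mem hk]; group
  have h2 : s * y⁻¹ * s⁻¹ = y := by
    have h3 := H.inv he s hs y hy
    calc s * y⁻¹ * s⁻¹ = (s * y * s⁻¹)⁻¹ := by group
      _ = y := by rw [h3, inv_inv]
  calc y * k * s * (y * k)⁻¹ * s⁻¹ = y * (k * s * k⁻¹) * y⁻¹ * s⁻¹ := by group
    _ = y * (s * y⁻¹ * s⁻¹) := by rw [h1]; group
    _ = y * y := by rw [h2]

/-- `c ∈ C(e)` maps the involution `s` of `C_L(e)` to the involution `s'` of `C_L(e)`: then it normalises `Y e` -/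
theorem Y_conj [Finite G] {e : G} (he : B e) {s s' : G} (hs : IsS L e s) (hs' : IsS L e s') {c : G}
    (hce : c * e = e * c) (hcs : c * s * c⁻¹ = s') {y : G} (hy : y ∈ Y e) : c * y * c⁻¹ ∈ Y e := by
  obtain ⟨y', hy', rfl⟩ := H.Ysq he hy
  have ha : c * y' * c⁻¹ ∈ O e := H.O_conj hce (H.YO he hy')
  obtain ⟨y1, hy1, k1, hk1, hyk⟩ := H.core' he ha
  have h1 := H.comm_yk he hs' hy1 hk1
  have h2 := H.comm_yk he hs hy' (one_mem (centralizer (L : Set G)))
  rw [mul_one] at h2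
  rw [← hyk, ← hcs] at h1
  have h3 : c * y' * c⁻¹ * (c * s * c⁻¹) * (c * y' * c⁻¹)⁻¹ * (c * s * c⁻¹)⁻¹ =
      c * (y' * s * y'⁻¹ * s⁻¹) * c⁻¹ := by group
  rw [h3, h2] at h1
  rw [h1]
  exact mul_mem hy1 hy1

/-- (2): `C(e, s) ≤ N(L)` -/
theorem ces [Finite G] {e : G} (he : B e) {s : G} (hs : IsS L e s) {c : G} (hce : c * e = e * c)
    (hcs : c * s = s * c) : c ∈ normalizer (L : Set G) := by
  obtain ⟨l, hl, hle⟩ := H.cj he s hs
  have he' : B (e * s) := hle ▸ H.Bcj he l hl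
  have hs' : IsS L (e * s) s := ⟨hs.mem, by
    calc s * (e * s) = (s * e) * s := by group
      _ = e * s * s := by rw [hs.comm], hs.sq, hs.ne⟩
  have hce' : c * (e * s) = (e * s) * c := by
    calc c * (e * s) = (c * e) * s := by group
      _ = e * (c * s) := by rw [hce]; group
      _ = (e * s) * c := by rw [hcs]; group
  have h1 : L ≤ L.comap (MulAut.conj c).toMonoidHom := by
    apply H.gen1 he s hs
    · intro y hy
      exact H.YL he (H.Y_conj he hs hs hce (cj_eq hcs) hy)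
    · intro y hy
      exact H.YL he' (H.Y_conj he' hs' hs' hce' (cj_eq hcs) hy)
  exact mem_normalizer_of fun l hl => h1 hl

end Conf

end Cfsg.Agent.UGT.CE
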