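import Cfsg.Agent.UGT.CE.Fus

/-!
# `C(e) ≤ N(L)` for bad involutions `e`, IV: the theorem (helper20, UGT node `N2`)
-/

set_option autoImplicit false

open Subgroup

namespace Cfsg.Agent.UGT.CE

open Cfsg.Agent.UGT.ThE.Base (IsT IsS comm_of_mem L_conj L_conj' K_le_M L_le_M K_conj K_conj' exists_central)
open Cfsg.Agent.UGT.CE.Base

universe u

variable {G : Type u} [Group G]

theorem inv_pow' {s v : G} (hs : s * s = 1) (hv : v * v = 1) (n : ℕ) :
    s * (s * v) ^ n * s⁻¹ = ((s * v) ^ n)⁻¹ := by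
  have hs' : s⁻¹ = s := inv_eq_of_mul_eq_one_left hs
  have hv' : v⁻¹ = v := inv_eq_of_mul_eq_one_left hv
  have h1 : s * (s * v) * s⁻¹ = (s * v)⁻¹ := by
    rw [mul_inv_rev, hv', hs']
    calc s * (s * v) * s = (s * s) * v * s := by group
      _ = v * s := by rw [hs, one_mul]
  rw [← conj_pow, h1, inv_pow]

/-- two involutions `s`, `v` that are not conjugate in `⟨s, v⟩`: an involution `u ∈ ⟨s, v⟩` commuting with both, and
`d ∈ ⟨sv⟩` with `v^d = uv` or `v^d = su` -/
theorem dih [Finite G] {s v : G} (hs : s * s = 1) (hv : v * v = 1) {H : Subgroup G} (hsH : s ∈ H) (hvH : v ∈ H) :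
    (∃ c ∈ H, c * s * c⁻¹ = v) ∨
      ∃ u ∈ H, u * u = 1 ∧ u ≠ 1 ∧ u * s = s * u ∧ u * v = v * u ∧ ∃ d ∈ H, d * u = u * d ∧
        (d * v * d⁻¹ = u * v ∨ d * v * d⁻¹ = s * u) := by
  obtain ⟨r, hr⟩ : ∃ r, r = s * v := ⟨_, rfl⟩
  have hrH : r ∈ H := hr ▸ mul_mem hsH hvH
  have hsr : ∀ n : ℕ, s * r ^ n * s⁻¹ = (r ^ n)⁻¹ := fun n => hr ▸ inv_pow' hs hv n
  have hs' : s⁻¹ = s := inv_eq_of_mul_eq_one_left hs
  have hv' : v⁻¹ = v := inv_eq_of_mul_eq_one_left hv
  have hvr' : v = s * r := by rw [hr, ← mul_assoc, hs, one_mul]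
  have hvr : ∀ n : ℕ, v * r ^ n * v⁻¹ = (r ^ n)⁻¹ := by
    intro n
    have h1 : r * r ^ n * r⁻¹ = r ^ n := by rw [← pow_succ', pow_succ]; group
    calc v * r ^ n * v⁻¹ = s * (r * r ^ n * r⁻¹) * s⁻¹ := by rw [hvr']; group
      _ = (r ^ n)⁻¹ := by rw [h1, hsr]
  have hpos : 0 < orderOf r := orderOf_pos _
  rcases Nat.even_or_odd (orderOf r) with ⟨m, hm⟩ | ⟨m, hm⟩
  · right
    have hm0 : 0 < m := by omega
    have h0 : r ^ m * r ^ m = 1 := by rw [← pow_add, ← hm]; exact pow_orderOf_eq_one r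
    have h1 : r ^ m ≠ 1 := by
      intro h
      have := orderOf_dvd_of_pow_eq_one h
      have := Nat.le_of_dvd hm0 this
      omega
    have h2 : (r ^ m)⁻¹ = r ^ m := inv_eq_of_mul_eq_one_left h0
    have h3 : r ^ m * s = s * r ^ m := by
      have := hsr m
      rw [h2] at this
      calc r ^ m * s = (s * r ^ m * s⁻¹) * s := by rw [this]
        _ = s * r ^ m := by group
    have h4 : r ^ m * v = v * r ^ m := by
      have := hvr m
      rw [h2] at this
      calc r ^ m * v = (v * r ^ m * v⁻¹) * v := by rw [this]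
        _ = v * r ^ m := by group
    have hconj : ∀ n : ℕ, r ^ n * v * (r ^ n)⁻¹ = r ^ (2 * n) * v := by
      intro n
      have h5 : v * (r ^ n)⁻¹ * v⁻¹ = r ^ n := by
        calc v * (r ^ n)⁻¹ * v⁻¹ = (v * r ^ n * v⁻¹)⁻¹ := by group
          _ = r ^ n := by rw [hvr, inv_inv]
      calc r ^ n * v * (r ^ n)⁻¹ = r ^ n * (v * (r ^ n)⁻¹ * v⁻¹) * v := by group
        _ = r ^ (2 * n) * v := by rw [h5, ← pow_add, two_mul]
    refine ⟨r ^ m, pow_mem hrH m, h0, h1, h3, h4, ?_⟩
    rcases Nat.even_or_odd m with ⟨n, hn⟩ | ⟨n, hn⟩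
    · refine ⟨r ^ n, pow_mem hrH n, by rw [← pow_add, ← pow_add, add_comm], Or.inl ?_⟩
      rw [hconj, show 2 * n = m by omega]
    · refine ⟨(r ^ n)⁻¹, inv_mem (pow_mem hrH n), ?_, Or.inr ?_⟩
      · have h5 : r ^ n * r ^ m = r ^ m * r ^ n := by rw [← pow_add, ← pow_add, add_comm]
        exact inv_comm h5
      · rw [inv_inv]
        -- `r^-n v r^n = s r^m`
        have h5 : (r ^ n)⁻¹ * s = s * r ^ n := by
          rw [← hsr n]; group
        calc (r ^ n)⁻¹ * v * r ^ n = ((r ^ n)⁻¹ * s) * r * r ^ n := by rw [hvr']; group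
          _ = s * (r ^ n * r * r ^ n) := by rw [h5]; group
          _ = s * r ^ m := by rw [← pow_succ, ← pow_add]; congr 2; omega
  · left
    refine ⟨r ^ m, pow_mem hrH m, ?_⟩
    have h1 : s * (r ^ m)⁻¹ = r ^ m * s := by
      rw [← hsr m, hs']
      calc s * (s * r ^ m * s) = (s * s) * r ^ m * s := by group
        _ = r ^ m * s := by rw [hs, one_mul]
    have h2 : r ^ (m + m) = r⁻¹ := by
      have h3 : r ^ (m + m) * r = 1 := by rw [← pow_succ, show m + m + 1 = orderOf r by omega, pow_orderOf_eq_one]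
      exact eq_inv_of_mul_eq_one_left h3
    calc r ^ m * s * (r ^ m)⁻¹ = r ^ m * (s * (r ^ m)⁻¹) := by group
      _ = r ^ (m + m) * s := by rw [h1, pow_add]; group
      _ = r⁻¹ * s := by rw [h2]
      _ = v := by
        rw [hr, mul_inv_rev, hs', hv']
        calc v * s * s = v * (s * s) := by group
          _ = v := by rw [hs, mul_one]

theorem exists_four_commute' [Finite G] {K : Subgroup G} {a b k : G} (ha : a ∈ K) (hb : b ∈ K) (ha2 : a * a = 1)
    (hb2 : b * b = 1) (hab : a * b = b * a) (ha1 : a ≠ 1) (hb1 : b ≠ 1) (hne : a ≠ b) (hk : k ∈ K)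
    (hk2 : k * k = 1) : ∃ x ∈ K, ∃ y ∈ K, x * x = 1 ∧ y * y = 1 ∧ x * y = y * x ∧ x ≠ 1 ∧ y ≠ 1 ∧ x ≠ y ∧
      k * x = x * k ∧ k * y = y * k :=
  Cfsg.Agent.UGT.SL.exists_four_commute ha hb ha2 hb2 hab ha1 hb1 hne hk hk2

/-- `C(e) ≤ N(L)` -/
theorem Conf.main [Finite G] {O Y J : G → Subgroup G} {L : Subgroup G} {B : G → Prop} (H : Conf O Y J L B)
    {e : G} (he : B e) {c : G} (hc : c * e = e * c) : c ∈ normalizer (L : Set G) := by
  obtain ⟨g, hgd⟩ : ∃ g, g = c := ⟨_, rfl⟩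
  rw [← hgd] at hc ⊢
  by_contra hg
  have hee := H.mem he
  obtain ⟨t0, u0, hz, hu0, hne0, htu0⟩ := H.four he
  obtain ⟨z, hzd⟩ : ∃ z, z = t0 := ⟨_, rfl⟩
  have hz' : IsT L e z := hzd ▸ hz
  obtain ⟨s, hs⟩ := H.exS he
  have hsM : s ∈ normalizer (L : Set G) := L_le_M hs.mem
  obtain ⟨v, hvd⟩ : ∃ v, v = g * z * g⁻¹ := ⟨_, rfl⟩
  have hve : v * e = e * v := by rw [hvd]; exact cj_comm hc hz'.comm
  have hvv : v * v = 1 := by
    rw [hvd]
    calc g * z * g⁻¹ * (g * z * g⁻¹) = g * (z * z) * g⁻¹ := by group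
      _ = 1 := by rw [hz'.sq]; group
  have hvM : v ∉ normalizer (L : Set G) := fun h => hg (H.fus he hz' hc (hvd ▸ h))
  have hmem : ∀ {x : G}, x * e = e * x → x ∈ centralizer ({e} : Set G) :=
    fun h => mem_centralizer_singleton_iff.mpr h
  have hmem' : ∀ {x : G}, x ∈ centralizer ({e} : Set G) → x * e = e * x :=
    fun h => mem_centralizer_singleton_iff.mp h
  -- an element of `C_K(e)` conjugate to `z` under `C(e)`
  have hfus : ∀ h : G, h * e = e * h → ∀ z', IsT L e z' → h * z' * h⁻¹ ∈ normalizer (L : Set G) →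
      h * z' * h⁻¹ ∈ centralizer (L : Set G) := fun h hh z' hz'' hm =>
    K_conj (H.fus he hz'' hh hm) hz''.mem
  have hei := inv_comm hc
  rcases dih hs.sq hvv (hmem hs.comm) (hmem hve) with ⟨d, hd, hdv⟩ | ⟨u, huH, huu, hu1, hus, huv, d, hdH, hdu, hd⟩
  · -- `s` is conjugate to `z` in `C(e)`
    have hde := hmem' hd
    have h1 : (d⁻¹ * g) * e = e * (d⁻¹ * g) := by
      calc (d⁻¹ * g) * e = d⁻¹ * (g * e) := by group
        _ = (d⁻¹ * e) * g := by rw [hc]; group
        _ = e * (d⁻¹ * g) := by rw [inv_comm hde]; group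
    have h2 : (d⁻¹ * g) * z * (d⁻¹ * g)⁻¹ = s := by
      calc (d⁻¹ * g) * z * (d⁻¹ * g)⁻¹ = d⁻¹ * (g * z * g⁻¹) * d := by group
        _ = d⁻¹ * (d * s * d⁻¹) * d := by rw [← hvd, hdv]
        _ = s := by group
    have h3 := hfus _ h1 z hz' (by rw [h2]; exact hsM)
    rw [h2] at h3
    exact hs.ne (H.disj he hs.mem h3)
  have hue := hmem' huH
  have hde := hmem' hdH
  have huM : u ∈ normalizer (L : Set G) := H.ces he hs hue hus
  -- `u` is not in the conjugate of `K`
  have hnF : g⁻¹ * u * g ∉ centralizer (L : Set G) := by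
    intro h
    have h1 : IsT L e (g⁻¹ * u * g) := ⟨h, by
      have h2 := cj_comm hei hue
      rwa [inv_inv] at h2, by
      calc g⁻¹ * u * g * (g⁻¹ * u * g) = g⁻¹ * (u * u) * g := by group
        _ = 1 := by rw [huu]; group, by
      intro h2
      apply hu1
      calc u = g * (g⁻¹ * u * g) * g⁻¹ := by group
        _ = 1 := by rw [h2]; group⟩
    apply hg
    apply H.fus he h1 hc
    have h2 : g * (g⁻¹ * u * g) * g⁻¹ = u := by group
    rw [h2]; exact huM
  rcases hd with hd | hd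
  · -- `v^d = uv`
    obtain ⟨h, hhd⟩ : ∃ h, h = g⁻¹ * d * g := ⟨_, rfl⟩
    have h1 : h * e = e * h := by
      rw [hhd]
      have h2 := cj_comm hei hde
      rwa [inv_inv] at h2
    have h2 : h * z * h⁻¹ = g⁻¹ * (u * v) * g := by
      rw [← hd, hhd, hvd]; group
    have h3 : h * z * h⁻¹ ∈ normalizer (L : Set G) := by
      apply H.Ct he z hz'
      rw [h2]
      have h4 : u * v * v = v * (u * v) := (congrArg (· * v) huv).trans (mul_assoc v u v)
      calc g⁻¹ * (u * v) * g * z = g⁻¹ * (u * v * (g * z * g⁻¹)) * g := by group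
        _ = g⁻¹ * (v * (u * v)) * g := by rw [← hvd, h4]
        _ = z * (g⁻¹ * (u * v) * g) := by rw [hvd]; group
    have h4 := hfus h h1 z hz' h3
    rw [h2] at h4
    apply hnF
    have h5 : g⁻¹ * u * g = g⁻¹ * (u * v) * g * z⁻¹ := by
      rw [hvd]; group
    rw [h5]
    exact mul_mem h4 (inv_mem hz'.mem)
  · -- `v^d = su =: r'`
    obtain ⟨r, hrd⟩ : ∃ r, r = s * u := ⟨_, rfl⟩
    rw [← hrd] at hd
    have h1 : (d * g) * e = e * (d * g) := by
      calc (d * g) * e = d * (g * e) := by group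
        _ = (d * e) * g := by rw [hc]; group
        _ = e * (d * g) := by rw [hde]; group
    have h2 : (d * g) * z * (d * g)⁻¹ = r := by
      calc (d * g) * z * (d * g)⁻¹ = d * (g * z * g⁻¹) * d⁻¹ := by group
        _ = r := by rw [← hvd, hd]
    have hrM : r ∈ normalizer (L : Set G) := by rw [hrd]; exact mul_mem hsM huM
    have hrK : r ∈ centralizer (L : Set G) := by
      have h3 := hfus _ h1 z hz' (by rw [h2]; exact hrM)
      rwa [h2] at h3
    have hre : r * e = e * r := by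
      rw [hrd]
      calc s * u * e = s * (u * e) := by group
        _ = (s * e) * u := by rw [hue]; group
        _ = e * (s * u) := by rw [hs.comm]; group
    have hrr : r * r = 1 := by
      rw [hrd]
      calc s * u * (s * u) = s * (u * s) * u := by group
        _ = (s * s) * (u * u) := by rw [hus]; group
        _ = 1 := by rw [hs.sq, huu, one_mul]
    have hr1 : r ≠ 1 := by
      intro h
      have h3 : v = 1 := by
        calc v = d⁻¹ * (d * v * d⁻¹) * d := by group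
          _ = 1 := by rw [hd, h]; group
      exact hvM (h3 ▸ one_mem _)
    have hrT : IsT L e r := ⟨hrK, hre, hrr, hr1⟩
    have hsr : u = s * r := by rw [hrd, ← mul_assoc, hs.sq, one_mul]
    have hru : r * u = u * r := by
      rw [hrd]
      calc s * u * u = u * s * u := by rw [hus]
        _ = u * (s * u) := by group
    -- `C := C(e, u)`
    have hmC : ∀ {x : G}, x * e = e * x → x * u = u * x →
        x ∈ centralizer ({e} : Set G) ⊓ centralizer ({u} : Set G) := fun h1 h2 =>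
      ⟨mem_centralizer_singleton_iff.mpr h1, mem_centralizer_singleton_iff.mpr h2⟩
    rcases Cfsg.Agent.UGT.SL.zstar_sub (X := centralizer ({e} : Set G) ⊓ centralizer ({u} : Set G)) (hmC hre hru)
      hrr hr1 with ⟨h, hh, hne, hcomm⟩ | ⟨N, hNX, hNodd, hNn, hNc⟩
    · have hhe := mem_centralizer_singleton_iff.mp hh.1
      have hhu := mem_centralizer_singleton_iff.mp hh.2
      have h3 : h * r * h⁻¹ ∈ normalizer (L : Set G) := H.Ct he r hrT _ hcomm.symm
      have hhM := H.fus he hrT hhe h3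
      have h4 := hfus h hhe r hrT h3
      have h5 : h * s * h⁻¹ * (h * r * h⁻¹) = s * r := by
        calc h * s * h⁻¹ * (h * r * h⁻¹) = h * (s * r) * h⁻¹ := by group
          _ = u := by rw [← hsr, hhu]; group
          _ = s * r := hsr
      exact hne (H.uniq he (L_conj hhM hs.mem) h4 hs.mem hrK h5).2
    · -- `N ≤ M`
      obtain ⟨x, hx, y, hy, hxx, hyy, hxy, hx1, hy1, hxy1, hkx, hky⟩ := exists_four_commute'
        (K := centralizer (L : Set G) ⊓ centralizer ({e} : Set G)) (k := r)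
        ⟨hz.mem, hmem hz.comm⟩ ⟨hu0.mem, hmem hu0.comm⟩ hz.sq hu0.sq htu0 hz.ne hu0.ne hne0
        ⟨hrK, hmem hre⟩ hrr
      have hxT : IsT L e x := ⟨hx.1, hmem' hx.2, hxx, hx1⟩
      have hyT : IsT L e y := ⟨hy.1, hmem' hy.2, hyy, hy1⟩
      have hxyT := isT_mul hxT hyT hxy1 hxy
      have hcu : ∀ f, IsT L e f → r * f = f * r → f ∈ centralizer ({e} : Set G) ⊓ centralizer ({u} : Set G) := by
        intro f hf hrf
        apply hmC hf.comm
        have h3 := comm_of_mem hs.mem hf.mem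
        rw [hsr]
        calc f * (s * r) = (s * f) * r := by rw [h3]; group
          _ = s * r * f := by rw [mul_assoc, ← hrf]; group
      have hNM : N ≤ normalizer (L : Set G) := by
        refine Cfsg.Agent.Lib.KleinGen.le_of_klein N _ hNodd x y hxx hyy hxy
          (fun a ha => hNn x (hcu x hxT hkx) a ha) (fun a ha => hNn y (hcu y hyT hky) a ha) ?_ ?_ ?_
        · intro c hc
          exact H.Ct he x hxT c (mem_centralizer_singleton_iff.mp hc.2)
        · intro c hc
          exact H.Ct he y hyT c (mem_centralizer_singleton_iff.mp hc.2)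
        · intro c hc
          exact H.Ct he _ hxyT c (mem_centralizer_singleton_iff.mp hc.2)
      have hdC : d⁻¹ ∈ centralizer ({e} : Set G) ⊓ centralizer ({u} : Set G) :=
        inv_mem (hmC hde hdu)
      have h3 := hNM (hNc d⁻¹ hdC)
      have h4 : v = r⁻¹ * (r * d⁻¹ * r⁻¹ * d⁻¹⁻¹) := by
        have hri : r⁻¹ = r := inv_eq_of_mul_eq_one_left hrr
        have h5 : v = d⁻¹ * r * d := by rw [← hd]; group
        rw [h5]
        calc d⁻¹ * r * d = d⁻¹ * r⁻¹ * d := by rw [hri]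
          _ = r⁻¹ * (r * d⁻¹ * r⁻¹ * d⁻¹⁻¹) := by group
      apply hvM
      rw [h4]
      exact mul_mem (inv_mem hrM) h3

end Cfsg.Agent.UGT.CE
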