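import Cfsg.Agent.UGT.CE.L34
import Cfsg.Agent.UGT.ThEL34.Glue

/-!
# The hypotheses in `G` for `L = L₃(4)` give the hypotheses of Theorem E, and a contradiction
-/

set_option autoImplicit false

open Subgroup

namespace Cfsg.Agent.UGT.CE.L34

open Cfsg.Agent.UGT.ThE.Base (IsT IsS)
open Cfsg.Agent.UGT.ThEL34 (Acts Facts2)

universe u

variable {G : Type u} [Group G] {O : G → Subgroup G} {L : Subgroup G} {B : G → Prop} {x : G}

theorem Grp.facts2 (H : Grp O L B) (hx : B x) : ∃ X : MulAut L, Acts L x X ∧ Facts2 X := by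
  obtain ⟨X, hX, F⟩ := H.facts hx
  exact ⟨X, hX, F.toFacts2⟩

theorem Grp.hyp [Finite G] (H : Grp O L B) (hx : B x) (hxt : ∀ t, IsT L x t → B (x * t)) : ThEL34.Hyp L x :=
  ThEL34.Glue.hyp_of_conf (H.conf hx) hx hxt (H.facts2 hx)

/-- `x ∈ X = G` -/
theorem Grp.false_in [Finite G] (H : Grp O L B) (hx : B x) (hxt : ∀ t, IsT L x t → B (x * t))
    (hG : Parity.NoSign G) : False :=
  ThEL34.Glue.false_of_conf_in (H.conf hx) hx hxt (H.facts2 hx) hG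

/-- `x ∉ S`, `G = S⟨x⟩` -/
theorem Grp.false_out [Finite G] (H : Grp O L B) (hx : B x) (hxt : ∀ t, IsT L x t → B (x * t)) {S : Subgroup G}
    (SN : S.Normal) (xS : x ∉ S) (LS : L ≤ S) (tS : ∀ t, IsT L x t → t ∈ S)
    (sgn : ∀ f : G →* ℤˣ, ∀ s ∈ S, f s = 1)
    (hmin : ∀ N : Subgroup G, N.Normal → N ≤ S → N ≠ ⊥ → S ≤ N) (htop : ∀ g : G, g ∈ S ∨ g * x ∈ S) :
    False :=
  ThEL34.Glue.false_of_conf_out (H.conf hx) hx hxt (H.facts2 hx) SN xS LS tS sgn hmin htop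

end Cfsg.Agent.UGT.CE.L34
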