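import Cfsg.Agent.UGT.CE.Facts3

/-!
# `C_L(Y) = Y` for `Y = O(C_L(x))`, `L = L₃(4)`, `x` the unitary polarity
-/

set_option autoImplicit false
set_option linter.constructorNameAsVariable false
set_option linter.unusedVariables false

namespace Cfsg.Agent.UGT.CE.L34

open Matrix
open Cfsg.Agent.SporadicA.FieldFour
open Cfsg.Agent.SporadicA.FieldFour.F4
open Cfsg.Agent.LThreeFour Cfsg.Agent.LThreeFour.Dat
open Cfsg.Agent.ONType.Psl (PSL3 SL3 T t tm)
open Cfsg.Agent.ClassicalGeometry.AutPSL.Root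
open Cfsg.Agent.ClassicalGeometry.AutPSL.Auto
open Cfsg.Agent.UGT.ThEL34 (fx mem_fx)
open Cfsg.Agent.UGT.FL34
open Cfsg.Agent.UGT.Iface (IsL34)

/-- the matrix with rows `(a b e)`, `(d f g)` and last row determined by the first one -/
def my (c a b e d f g : F4) : M3 :=
  ⟨a, b, e, d, f, g, F4.mul (F4.mul c c) e, F4.mul (F4.mul c c) b, F4.mul (F4.mul c c) (F4.add a e)⟩

def chy (m : M3) : Bool := !(sim (M3.mul m R1) (M3.mul R1 m)) || (!(sim (M3.mul m R2) (M3.mul R2 m)) ||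
  (!(eqb m.det .o) || memb m Y27))

def chY1 (c : F4) : Bool := allF fun a => allF fun b => allF fun e => allF fun d => allF fun f => allF fun g =>
  chy (my c a b e d f g)

set_option maxRecDepth 100000 in
theorem chY1_o : chY1 .o = true := by decide +kernel

set_option maxRecDepth 100000 in
theorem chY1_w : chY1 .w = true := by decide +kernel

set_option maxRecDepth 100000 in
theorem chY1_v : chY1 .v = true := by decide +kernel

theorem chY1_eq : ∀ c : F4, c ≠ 0 → chY1 c = true := by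
  intro c hc
  cases c
  · exact absurd rfl hc
  · exact chY1_o
  · exact chY1_w
  · exact chY1_v

def Y27_chk : Bool := allL (fun m => m.unit && (M3.cube m).isSc) Y27

set_option maxRecDepth 100000 in
theorem Y27_chk_eq : Y27_chk = true := by decide +kernel

theorem comm_code {m R : M3} (hm : m.det = 1) (hR : R.det = 1)
    (h : pr (sl m hm) * pr (sl R hR) = pr (sl R hR) * pr (sl m hm)) :
    ∃ c : F4, c ≠ 0 ∧ M3.mul m R = M3.smul c (M3.mul R m) := by
  have h1 : pr (sl R hR * sl m hm) = pr (sl m hm * sl R hR) := by rw [map_mul, map_mul, h]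
  obtain ⟨c, hc⟩ := exists_smul_of_pr_eq h1
  refine ⟨c, ?_, ?_⟩
  · rintro rfl
    have h5 : (sl m hm * sl R hR).1.det = 1 := (sl m hm * sl R hR).2
    rw [hc, zero_smul, Matrix.det_zero] at h5
    exact zero_ne_one h5
  · apply toM_inj
    rw [M3.toM_smul, M3.toM_mul, M3.toM_mul]
    exact hc

theorem my_eq {m : M3} {c : F4} (hc : c ≠ 0) (h : M3.mul m R1 = M3.smul c (M3.mul R1 m)) :
    m = my c m.a m.b m.c m.d m.e m.f := by
  have k0 : ∀ x y z : F4, F4.add (F4.add (F4.mul x .z) (F4.mul y .z)) (F4.mul z .o) = z := by decide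
  have k1 : ∀ x y z : F4, F4.add (F4.add (F4.mul x .z) (F4.mul y .o)) (F4.mul z .z) = y := by decide
  have k2 : ∀ x y z : F4, F4.add (F4.add (F4.mul x .o) (F4.mul y .z)) (F4.mul z .o) = F4.add x z := by decide
  have k3 : ∀ x y z : F4, F4.add (F4.add (F4.mul .z x) (F4.mul .z y)) (F4.mul .o z) = z := by decide
  have k4 : ∀ c x y : F4, c ≠ 0 → x = F4.mul c y → y = F4.mul (F4.mul c c) x := by decide
  have ha : F4.add (F4.add (F4.mul m.a .z) (F4.mul m.b .z)) (F4.mul m.c .o) =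
      F4.mul c (F4.add (F4.add (F4.mul .z m.a) (F4.mul .z m.d)) (F4.mul .o m.g)) := congrArg M3.a h
  have hb : F4.add (F4.add (F4.mul m.a .z) (F4.mul m.b .o)) (F4.mul m.c .z) =
      F4.mul c (F4.add (F4.add (F4.mul .z m.b) (F4.mul .z m.e)) (F4.mul .o m.h)) := congrArg M3.b h
  have hc' : F4.add (F4.add (F4.mul m.a .o) (F4.mul m.b .z)) (F4.mul m.c .o) =
      F4.mul c (F4.add (F4.add (F4.mul .z m.c) (F4.mul .z m.f)) (F4.mul .o m.i)) := congrArg M3.c h
  rw [k0, k3] at ha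
  rw [k1, k3] at hb
  rw [k2, k3] at hc'
  have e1 := k4 _ _ _ hc ha
  have e2 := k4 _ _ _ hc hb
  have e3 := k4 _ _ _ hc hc'
  obtain ⟨a, b, c', d, e, f, g, h', i⟩ := m
  simp only at e1 e2 e3
  unfold my
  rw [e1, e2, e3]

/-- `C(Y) = Y` in `PSL(3,4)` -/
theorem cY0 {l : PSL3} (h1 : l * pr (sl R1 det_R1) = pr (sl R1 det_R1) * l)
    (h2 : l * pr (sl R2 det_R2) = pr (sl R2 det_R2) * l) : l ^ 3 = 1 ∧ x0 l = l := by
  obtain ⟨M, rfl⟩ := pr_surjective l
  obtain ⟨m, hm⟩ : ∃ m, m = M3.ofM M.1 := ⟨_, rfl⟩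
  have hd : m.det = 1 := by
    rw [← M3.det_toM, hm, M3.toM_ofM]
    exact M.2
  have hM : M = sl m hd := by
    apply Subtype.ext
    show M.1 = m.toM
    rw [hm, M3.toM_ofM]
  rw [hM] at h1 h2 ⊢
  obtain ⟨c, hc, hmc⟩ := comm_code hd det_R1 h1
  obtain ⟨d, hd', hmd⟩ := comm_code hd det_R2 h2
  have h3 := chY1_eq c hc
  unfold chY1 at h3
  have h4 := allF_iff (allF_iff (allF_iff (allF_iff (allF_iff (allF_iff h3 m.a) m.b) m.c) m.d) m.e) m.f
  rw [← my_eq hc hmc] at h4
  unfold chy at h4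
  have h7 : eqb m.det .o = true := (eqb_iff _ _).2 hd
  rw [sim_of_smul hc hmc, sim_of_smul hd' hmd, h7, Bool.not_true, Bool.false_or,
    Bool.false_or, Bool.false_or] at h4
  have h5 := Y27_chk_eq
  unfold Y27_chk at h5
  have h6 := allL_iff h5 m (mem_of_memb h4)
  rw [Bool.and_eq_true] at h6
  refine ⟨(pow_three_iff (M := sl m hd) rfl).2 h6.2, ?_⟩
  exact fix_x0_mem h6.1

section

variable {L : Type*} [Group L] (e : PSL3 ≃* L) {x : MulAut L} (hx : x * x = 1)
  (hb : bits ((D e).tyHom x) = (true, true))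

include hx hb in
theorem cY (l : L) (h : ∀ y, y ^ 3 = 1 → x y = y → l * y = y * l) : l ^ 3 = 1 ∧ x l = l := by
  obtain ⟨e', he⟩ := pure1 e hx hb (by decide)
  have key : ∀ {R : M3} (hR : R.unit = true) (h3 : (M3.cube R).isSc = true),
      e'.symm l * pr (sl R (unit_det hR)) = pr (sl R (unit_det hR)) * e'.symm l := by
    intro R hR h3
    obtain ⟨k1, k2⟩ := mem_R he hR h3
    have h4 := h _ k1 k2
    apply e'.injective
    rw [map_mul, map_mul, e'.apply_symm_apply]
    exact h4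
  obtain ⟨h1, h2⟩ := cY0 (key R1_unit R1_cube) (key R2_unit R2_cube)
  constructor
  · apply e'.symm.injective
    rw [map_pow, h1, map_one]
  · rw [eq_tr e' isTau_x0 he, fix_symm]
    exact h2

end

theorem facts4_of {K : Type*} [Group K] (hK : IsL34 K) {x : MulAut K} (hx : x * x = 1)
    {E : Subgroup (MulAut K)} (hE : LTF.Defs.OddC x E) (h1 : E ≠ ⊥) : Facts4 x := by
  have h2 := facts3_of hK hx hE h1
  obtain ⟨F, _, _, hF, ⟨e⟩⟩ := hK
  obtain ⟨e'⟩ := nonempty_psl_equiv (n := Fin 3) F hF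
  let e0 : PSL3 ≃* K := e'.trans e.symm
  exact { toFacts3 := h2, cY := cY e0 hx (KF.bits_of_oddC e0 hx hE h1) }

end Cfsg.Agent.UGT.CE.L34
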