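import Cfsg.Agent.UGT.CE.Conf
import Cfsg.Agent.UGT.SLCore

/-!
# `C(e) ≤ N(L)` for bad involutions `e`, III: `z ∈ C_K(e)`, `g ∈ C(e)`, `z^g ∈ N(L)` imply `g ∈ N(L)`
-/

set_option autoImplicit false

open Subgroup

namespace Cfsg.Agent.UGT.CE

open Cfsg.Agent.UGT.ThE.Base (IsT IsS comm_of_mem L_conj L_conj' K_le_M L_le_M K_conj K_conj' exists_central)
open Cfsg.Agent.UGT.CE.Base

universe u

variable {G : Type u} [Group G]

/-- an involution `v` of `X` commutes with an involution of the normal subgroup `N` of even order -/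
theorem exists_fixed [Finite G] {X N : Subgroup G} (hN : N ≤ X) (hn : ∀ x ∈ X, ∀ n ∈ N, x * n * x⁻¹ ∈ N)
    {v z : G} (hv : v ∈ X) (hvv : v * v = 1) (hz : z ∈ N) (hzz : z * z = 1) (hz1 : z ≠ 1) :
    ∃ w ∈ N, w * w = 1 ∧ w ≠ 1 ∧ w * v = v * w := by
  have : Fact (Nat.Prime 2) := ⟨Nat.prime_two⟩
  have hpow : ∀ (y : X), y * y = 1 → IsPGroup 2 (zpowers y) := by
    intro y hy
    rintro ⟨z, hz⟩
    obtain ⟨n, rfl⟩ := mem_zpowers_iff.mp hz
    refine ⟨1, ?_⟩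
    apply Subtype.ext
    change (y ^ n) ^ 2 ^ 1 = 1
    rw [pow_one, pow_two, ← zpow_add, ← two_mul, zpow_mul]
    have : y ^ (2 : ℤ) = 1 := by rw [zpow_two]; exact hy
    rw [this, one_zpow]
  obtain ⟨S, hS⟩ := (hpow ⟨v, hv⟩ (Subtype.ext hvv)).exists_le_sylow
  obtain ⟨P, hP⟩ := (hpow ⟨z, hN hz⟩ (Subtype.ext hzz)).exists_le_sylow
  obtain ⟨m, hm⟩ := MulAction.exists_smul_eq X P S
  have hvS : (⟨v, hv⟩ : X) ∈ (S : Subgroup X) := hS (mem_zpowers _)
  have hzP : (⟨z, hN hz⟩ : X) ∈ (P : Subgroup X) := hP (mem_zpowers _)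
  have hzS : m * ⟨z, hN hz⟩ * m⁻¹ ∈ (S : Subgroup X) := by
    rw [← hm, Sylow.coe_subgroup_smul, mem_pointwise_smul_iff_inv_smul_mem]
    simpa [MulAut.smul_def, mul_assoc] using hzP
  obtain ⟨S', hS'⟩ : ∃ S', S' = (S : Subgroup X).map X.subtype := ⟨_, rfl⟩
  have hS2 : IsPGroup 2 S' := hS' ▸ S.2.map _
  have hmem : ∀ y : X, y ∈ (S : Subgroup X) → (y : G) ∈ S' := by
    intro y hy
    rw [hS']
    exact ⟨y, hy, rfl⟩
  have hSX : S' ≤ X := by
    rw [hS']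
    rintro _ ⟨y, _, rfl⟩
    exact y.2
  obtain ⟨w, hw, hww, hw1, hwS⟩ := exists_central hS2 (N := S' ⊓ N) inf_le_left
    (fun s hs n hn' => mem_inf.mpr ⟨mul_mem (mul_mem hs hn'.1) (inv_mem hs), hn s (hSX hs) n hn'.2⟩) (by
      intro h
      have h1 : (m : G) * z * (m : G)⁻¹ ∈ S' ⊓ N := ⟨hmem _ hzS, hn m m.2 z hz⟩
      rw [h, mem_bot] at h1
      apply hz1
      calc z = (m : G)⁻¹ * ((m : G) * z * (m : G)⁻¹) * m := by group
        _ = 1 := by rw [h1]; group)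
  exact ⟨w, hw.2, hww, hw1, hwS v (hmem _ hvS)⟩

theorem perf_map {X : Subgroup G} (h : X ≤ ⁅X, X⁆) (g : G) :
    X.map (MulAut.conj g).toMonoidHom ≤ ⁅X.map (MulAut.conj g).toMonoidHom, X.map (MulAut.conj g).toMonoidHom⁆ := by
  rw [← map_commutator]
  exact map_mono h

theorem mem_map_conj {X : Subgroup G} {g x : G} :
    x ∈ X.map (MulAut.conj g).toMonoidHom ↔ ∃ y ∈ X, g * y * g⁻¹ = x := by
  rw [mem_map]
  simp only [MulEquiv.coe_toMonoidHom, MulAut.conj_apply]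

namespace Conf

variable {O Y J : G → Subgroup G} {L : Subgroup G} {B : G → Prop} (H : Conf O Y J L B)
include H

/-- a conjugate of `J w` under `C(e)` in `N(L)` acts nontrivially on `L` -/
theorem J_not_le [Finite G] {e w : G} (he : B e) (hw : Wild L e w) {h : G} (hhe : h * e = e * h)
    (h1 : ∀ j ∈ J w, h * j * h⁻¹ ∈ normalizer (L : Set G)) :
    ¬ ∀ j ∈ J w, h * j * h⁻¹ ∈ centralizer (L : Set G) := by
  intro h2
  obtain ⟨i, hi, hiS⟩ := H.wfix he w hw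
  have hT : IsT L e (h * i * h⁻¹) := ⟨h2 i hi, cj_comm hhe hiS.comm, by
    calc h * i * h⁻¹ * (h * i * h⁻¹) = h * (i * i) * h⁻¹ := by group
      _ = 1 := by rw [hiS.sq]; group, by
    intro h3
    apply hiS.ne
    calc i = h⁻¹ * (h * i * h⁻¹) * h := by group
      _ = 1 := by rw [h3]; group⟩
  have key : ∀ i' ∈ J w, i' * i' = 1 → i' ≠ 1 → ∀ c, c * (h * i' * h⁻¹) = (h * i' * h⁻¹) * c →
      c ∈ normalizer (L : Set G) := by
    intro i' hi' hii hi1 c hc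
    obtain ⟨j, hj, hji⟩ := H.wone he w hw i hi i' hi' hiS.sq hiS.ne hii hi1
    have hjM := h1 j hj
    have e1 : (h * j * h⁻¹)⁻¹ * c * (h * j * h⁻¹) * (h * i * h⁻¹) =
        (h * i * h⁻¹) * ((h * j * h⁻¹)⁻¹ * c * (h * j * h⁻¹)) := by
      rw [← hji] at hc
      calc (h * j * h⁻¹)⁻¹ * c * (h * j * h⁻¹) * (h * i * h⁻¹)
          = (h * j * h⁻¹)⁻¹ * (c * (h * (j * i * j⁻¹) * h⁻¹)) * (h * j * h⁻¹) := by group
        _ = (h * j * h⁻¹)⁻¹ * (h * (j * i * j⁻¹) * h⁻¹ * c) * (h * j * h⁻¹) := by rw [hc]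
        _ = _ := by group
    have h3 := H.Ct he _ hT _ e1
    have h4 : c = (h * j * h⁻¹) * ((h * j * h⁻¹)⁻¹ * c * (h * j * h⁻¹)) * (h * j * h⁻¹)⁻¹ := by group
    rw [h4]
    exact mul_mem (mul_mem hjM h3) (inv_mem hjM)
  have hL : L ≤ (normalizer (L : Set G)).comap (MulAut.conj h).toMonoidHom := by
    apply H.wgen he w hw
    intro j hj hjj hj1 l _ hlj
    apply key j hj hjj hj1
    change h * l * h⁻¹ * (h * j * h⁻¹) = h * j * h⁻¹ * (h * l * h⁻¹)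
    calc h * l * h⁻¹ * (h * j * h⁻¹) = h * (l * j) * h⁻¹ := by group
      _ = h * (j * l) * h⁻¹ := by rw [hlj]
      _ = _ := by group
  exact hiS.ne ((H.pre he).z1 (g := h) (fun l hl => hL hl) hiS.mem (h2 i hi))

theorem wcen {e w : G} (he : B e) (hw : Wild L e w) {i : G} (hi : i ∈ J w) (h : ∀ i' ∈ J w, i * i' = i' * i) :
    i = 1 := by
  rcases H.wsimp he w hw (J w ⊓ centralizer (J w : Set G)) inf_le_left (by
    rintro a ha n ⟨hn, hn2⟩
    have h1 := mem_centralizer_iff.mp hn2 a ha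
    have h2 : a * n * a⁻¹ = n := by rw [h1]; group
    rw [h2]
    exact ⟨hn, hn2⟩) with h1 | h1
  · have h2 : i ∈ J w ⊓ centralizer (J w : Set G) := ⟨hi, mem_centralizer_iff.mpr fun i' hi' => (h i' hi').symm⟩
    rw [h1] at h2
    exact mem_bot.mp h2
  · exfalso
    obtain ⟨s, hs, hsS⟩ := H.wfix he w hw
    have h2 : J w ≤ ⊥ := by
      refine (H.wperf he w hw).trans ?_
      rw [commutator_le]
      intro a ha b hb
      have h3 : b ∈ J w ⊓ centralizer (J w : Set G) := h1.symm ▸ hb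
      have h4 := mem_centralizer_iff.mp h3.2 a ha
      rw [mem_bot, commutatorElement_def, h4]
      group
    exact hsS.ne (mem_bot.mp (h2 hs))

/-- the configuration of (B) -/
structure Sit (B : G → Prop) (L : Subgroup G) (e z g : G) : Prop where
  bad : B e
  hz : IsT L e z
  hge : g * e = e * g
  hv : g * z * g⁻¹ ∈ normalizer (L : Set G)
  hg : g ∉ normalizer (L : Set G)

namespace Sit

omit H

variable {e z g : G} (S : Sit B L e z g)
include S

theorem ve : g * z * g⁻¹ * e = e * (g * z * g⁻¹) := cj_comm S.hge S.hz.comm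

theorem vv : g * z * g⁻¹ * (g * z * g⁻¹) = 1 := by
  calc g * z * g⁻¹ * (g * z * g⁻¹) = g * (z * z) * g⁻¹ := by group
    _ = 1 := by rw [S.hz.sq]; group

theorem v1 : g * z * g⁻¹ ≠ 1 := by
  intro h
  apply S.hz.ne
  calc z = g⁻¹ * (g * z * g⁻¹) * g := by group
    _ = 1 := by rw [h]; group

include H

theorem vK [Finite G] : g * z * g⁻¹ ∉ centralizer (L : Set G) := by
  intro h
  refine S.hg ((H.pre S.bad).fixT (t := g * z * g⁻¹) ⟨h, S.ve, S.vv, S.v1⟩ ?_)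
  have : g⁻¹ * (g * z * g⁻¹) * g = z := by group
  rw [this]
  exact S.hz.mem

/-- `C(v) ≤ N(L^g)` -/
theorem cv {c : G} (hc : c * (g * z * g⁻¹) = g * z * g⁻¹ * c) : g⁻¹ * c * g ∈ normalizer (L : Set G) := by
  apply H.Ct S.bad z S.hz
  calc g⁻¹ * c * g * z = g⁻¹ * (c * (g * z * g⁻¹)) * g := by group
    _ = g⁻¹ * (g * z * g⁻¹ * c) * g := by rw [hc]
    _ = z * (g⁻¹ * c * g) := by group

/-- the involutions `w` of `C_K(e)` commuting with `v` act faithfully on `L^g` -/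
theorem wK [Finite G] {w : G} (hw : IsT L e w) : g⁻¹ * w * g ∉ centralizer (L : Set G) := by
  intro h
  exact S.hg ((H.pre S.bad).fixT hw h)

omit H in
theorem we {w : G} (hw : IsT L e w) : g⁻¹ * w * g * e = e * (g⁻¹ * w * g) := by
  have h1 := cj_comm (inv_comm S.hge) hw.comm
  rwa [inv_inv] at h1

omit H S in
theorem ww {w : G} (hw : IsT L e w) : g⁻¹ * w * g * (g⁻¹ * w * g) = 1 := by
  calc g⁻¹ * w * g * (g⁻¹ * w * g) = g⁻¹ * (w * w) * g := by group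
    _ = 1 := by rw [hw.sq]; group

/-- `J_{L^g}(w) ≤ N(L)` -/
theorem JM {w : G} (hw : IsT L e w) (hW : Wild L e (g⁻¹ * w * g)) {j : G} (hj : j ∈ J (g⁻¹ * w * g)) :
    g * j * g⁻¹ ∈ normalizer (L : Set G) := by
  apply H.Ct S.bad w hw
  have h1 := H.wcomm S.bad _ hW j hj
  calc g * j * g⁻¹ * w = g * (j * (g⁻¹ * w * g)) * g⁻¹ := by group
    _ = g * ((g⁻¹ * w * g) * j) * g⁻¹ := by rw [h1]
    _ = w * (g * j * g⁻¹) := by group

/-- `J_{L^g}(w) ≤ C(v)` -/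
theorem Jv {w : G} (hW : Wild L e (g⁻¹ * w * g)) {j : G} (hj : j ∈ J (g⁻¹ * w * g)) :
    g * j * g⁻¹ * (g * z * g⁻¹) = g * z * g⁻¹ * (g * j * g⁻¹) := by
  have h1 := comm_of_mem (H.wle S.bad _ hW hj) S.hz.mem
  calc g * j * g⁻¹ * (g * z * g⁻¹) = g * (j * z) * g⁻¹ := by group
    _ = g * (z * j) * g⁻¹ := by rw [h1]
    _ = _ := by group

theorem J_nK [Finite G] {w : G} (hw : IsT L e w) (hW : Wild L e (g⁻¹ * w * g)) :
    ¬ ∀ j ∈ J (g⁻¹ * w * g), g * j * g⁻¹ ∈ centralizer (L : Set G) :=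
  H.J_not_le S.bad hW S.hge fun _ hj => S.JM H hw hW hj

/-- if `v` is tame on `L`, then `w` is tame on `L^g` -/
theorem tame_of_tame [Finite G] (hnW : ¬ Wild L e (g * z * g⁻¹)) {w : G} (hw : IsT L e w) :
    ¬ Wild L e (g⁻¹ * w * g) := by
  intro hW
  apply S.J_nK H hw hW
  intro j hj
  have h1 := H.solv S.bad (g * z * g⁻¹) S.hv S.ve S.vv (S.vK H) hnW
    ((J (g⁻¹ * w * g)).map (MulAut.conj g).toMonoidHom) (by
      intro x hx
      obtain ⟨y, hy, rfl⟩ := mem_map_conj.mp hx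
      exact S.JM H hw hW hy) (by
      intro x hx
      obtain ⟨y, hy, rfl⟩ := mem_map_conj.mp hx
      exact S.Jv H hW hy) (perf_map (H.wperf S.bad _ hW) g)
  exact h1 (mem_map_conj.mpr ⟨j, hj, rfl⟩)

/-- an involution of `C_K(e, v)` acting as an element of `L^g` is impossible -/
theorem no_inner [Finite G] {w : G} (hw : IsT L e w) (hwv : w * (g * z * g⁻¹) = g * z * g⁻¹ * w)
    {l : G} (hl : l ∈ L) (hk : l * (g⁻¹ * w * g) ∈ centralizer (L : Set G)) : False := by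
  have hwM : g⁻¹ * w * g ∈ normalizer (L : Set G) := S.cv H hwv
  have hwK := S.wK H hw
  obtain ⟨k, hkd⟩ : ∃ k, k = l * (g⁻¹ * w * g) := ⟨_, rfl⟩
  rw [← hkd] at hk
  have hwe : g⁻¹ * w * g = l⁻¹ * k := by rw [hkd]; group
  have hee := H.mem S.bad
  -- `e` centralises `l` and `k`
  have h1 : e * l⁻¹ * e⁻¹ * (e * k * e⁻¹) = l⁻¹ * k := by
    calc e * l⁻¹ * e⁻¹ * (e * k * e⁻¹) = e * (l⁻¹ * k) * e⁻¹ := by group
      _ = e * (g⁻¹ * w * g) * e⁻¹ := by rw [hwe]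
      _ = g⁻¹ * w * g * e * e⁻¹ := by rw [S.we hw]
      _ = l⁻¹ * k := by rw [hwe]; group
  obtain ⟨h2, h3⟩ := H.uniq S.bad (L_conj hee (inv_mem hl)) (K_conj hee hk) (inv_mem hl) hk h1
  have h4 : l⁻¹ * l⁻¹ * (k * k) = 1 * 1 := by
    have h5 := ww (g := g) hw
    rw [hwe] at h5
    calc l⁻¹ * l⁻¹ * (k * k) = l⁻¹ * (l⁻¹ * k) * k := by group
      _ = l⁻¹ * (k * l⁻¹) * k := by rw [comm_of_mem (inv_mem hl) hk]
      _ = l⁻¹ * k * (l⁻¹ * k) := by group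
      _ = 1 * 1 := by rw [h5, one_mul]
  obtain ⟨h5, -⟩ := H.uniq S.bad (mul_mem (inv_mem hl) (inv_mem hl)) (mul_mem hk hk) (one_mem _) (one_mem _) h4
  have hs : IsS L e l⁻¹ := ⟨inv_mem hl, by
    calc l⁻¹ * e = (e * l⁻¹ * e⁻¹) * e := by rw [h2]
      _ = e * l⁻¹ := by group, h5, by
    intro h6
    apply hwK
    rw [hwe, h6, one_mul]
    exact hk⟩
  have hL : L ≤ (normalizer (L : Set G)).comap (MulAut.conj g).toMonoidHom := by
    apply H.gen2 S.bad _ hs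
    · intro y hy
      exact H.O_le S.bad (H.O_conj S.hge (H.YO S.bad hy))
    · intro a ha hal
      apply H.Ct S.bad w hw
      change g * a * g⁻¹ * w = w * (g * a * g⁻¹)
      have h7 : a * (g⁻¹ * w * g) = (g⁻¹ * w * g) * a := by
        rw [hwe]
        calc a * (l⁻¹ * k) = (a * l⁻¹) * k := by group
          _ = l⁻¹ * (a * k) := by rw [hal]; group
          _ = l⁻¹ * k * a := by rw [comm_of_mem ha hk]; group
      calc g * a * g⁻¹ * w = g * (a * (g⁻¹ * w * g)) * g⁻¹ := by group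
        _ = g * ((g⁻¹ * w * g) * a) * g⁻¹ := by rw [h7]
        _ = w * (g * a * g⁻¹) := by group
  exact hwK ((H.pre S.bad).z3 (g := g) (fun l hl => hL hl) hw.mem hwM)

/-- (B), `v` tame -/
theorem tame [Finite G] (hnW : ¬ Wild L e (g * z * g⁻¹)) : False := by
  obtain ⟨v, hvd⟩ : ∃ v, v = g * z * g⁻¹ := ⟨_, rfl⟩
  have hvM := S.hv
  have hve := S.ve
  have hvv := S.vv
  have hvK := S.vK H
  have hee := H.mem S.bad
  have hsq := H.sq S.bad
  rw [← hvd] at hvM hve hvv hvK hnW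
  -- `v` acts on `C_K(e)` as `k`
  have key : ∃ k ∈ centralizer (L : Set G), k * k = 1 ∧ k * e = e * k ∧
      ∀ f ∈ centralizer (L : Set G), f * e = e * f → v * f * v⁻¹ = k * f * k⁻¹ := by
    have h0 : (∃ l ∈ L, l * v ∈ centralizer (L : Set G)) ∨ ∃ l ∈ L, l * e * v ∈ centralizer (L : Set G) := by
      by_contra h
      push Not at h
      exact hnW ⟨hvM, hve, hvv, h.1, h.2⟩
    rcases h0 with ⟨l, hl, hk⟩ | ⟨l, hl, hk⟩
    · obtain ⟨k, hkd⟩ : ∃ k, k = l * v := ⟨_, rfl⟩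
      rw [← hkd] at hk
      have hv' : v = l⁻¹ * k := by rw [hkd]; group
      have h1 : e * l⁻¹ * e⁻¹ * (e * k * e⁻¹) = l⁻¹ * k := by
        calc e * l⁻¹ * e⁻¹ * (e * k * e⁻¹) = e * (l⁻¹ * k) * e⁻¹ := by group
          _ = e * v * e⁻¹ := by rw [hv']
          _ = l⁻¹ * k := by rw [← hve, hv']; group
      obtain ⟨-, h3⟩ := H.uniq S.bad (L_conj hee (inv_mem hl)) (K_conj hee hk) (inv_mem hl) hk h1
      have h4 : l⁻¹ * l⁻¹ * (k * k) = 1 * 1 := by
        rw [hv'] at hvv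
        calc l⁻¹ * l⁻¹ * (k * k) = l⁻¹ * (l⁻¹ * k) * k := by group
          _ = l⁻¹ * (k * l⁻¹) * k := by rw [comm_of_mem (inv_mem hl) hk]
          _ = l⁻¹ * k * (l⁻¹ * k) := by group
          _ = 1 * 1 := by rw [hvv, one_mul]
      obtain ⟨-, h5⟩ := H.uniq S.bad (mul_mem (inv_mem hl) (inv_mem hl)) (mul_mem hk hk) (one_mem _)
        (one_mem _) h4
      refine ⟨k, hk, h5, ?_, ?_⟩
      · calc k * e = (e * k * e⁻¹) * e := by rw [h3]
          _ = e * k := by group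
      · intro f hf _
        have h6 := comm_of_mem (inv_mem hl) (mul_mem (mul_mem hk hf) (inv_mem hk))
        calc v * f * v⁻¹ = l⁻¹ * (k * f * k⁻¹) * l := by rw [hv']; group
          _ = (k * f * k⁻¹) * l⁻¹ * l := by rw [h6]
          _ = k * f * k⁻¹ := by group
    · obtain ⟨k, hkd⟩ : ∃ k, k = l * e * v := ⟨_, rfl⟩
      rw [← hkd] at hk
      have hei : e⁻¹ = e := inv_eq_of_mul_eq_one_left hsq
      have hv' : e * v = l⁻¹ * k := by rw [hkd]; group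
      have hv2 : v = e * (l⁻¹ * k) := by rw [← hv', ← mul_assoc, hsq, one_mul]
      have h1 : e * l⁻¹ * e⁻¹ * (e * k * e⁻¹) = l⁻¹ * k := by
        calc e * l⁻¹ * e⁻¹ * (e * k * e⁻¹) = e * (l⁻¹ * k) * e⁻¹ := by group
          _ = e * (e * v) * e⁻¹ := by rw [hv']
          _ = e * (v * e) * e⁻¹ := by rw [hve]
          _ = e * v := by group
          _ = l⁻¹ * k := hv'
      obtain ⟨h2, h3⟩ := H.uniq S.bad (L_conj hee (inv_mem hl)) (K_conj hee hk) (inv_mem hl) hk h1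
      have hke : k * e = e * k := by
        calc k * e = (e * k * e⁻¹) * e := by rw [h3]
          _ = e * k := by group
      have h4 : l⁻¹ * l⁻¹ * (k * k) = 1 * 1 := by
        have h5 : (e * v) * (e * v) = 1 := by
          calc (e * v) * (e * v) = e * (v * e) * v := by group
            _ = (e * e) * (v * v) := by rw [hve]; group
            _ = 1 := by rw [hsq, hvv, one_mul]
        rw [hv'] at h5
        calc l⁻¹ * l⁻¹ * (k * k) = l⁻¹ * (l⁻¹ * k) * k := by group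
          _ = l⁻¹ * (k * l⁻¹) * k := by rw [comm_of_mem (inv_mem hl) hk]
          _ = l⁻¹ * k * (l⁻¹ * k) := by group
          _ = 1 * 1 := by rw [h5, one_mul]
      obtain ⟨-, h5⟩ := H.uniq S.bad (mul_mem (inv_mem hl) (inv_mem hl)) (mul_mem hk hk) (one_mem _)
        (one_mem _) h4
      refine ⟨k, hk, h5, hke, ?_⟩
      intro f hf hfe
      have h6 := comm_of_mem (inv_mem hl) (mul_mem (mul_mem hk hf) (inv_mem hk))
      have h7 : (k * f * k⁻¹) * e = e * (k * f * k⁻¹) := cj_comm hke hfe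
      calc v * f * v⁻¹ = e * (l⁻¹ * (k * f * k⁻¹)) * l * e⁻¹ := by rw [hv2]; group
        _ = e * ((k * f * k⁻¹) * l⁻¹) * l * e⁻¹ := by rw [h6]
        _ = (e * (k * f * k⁻¹)) * e⁻¹ := by group
        _ = k * f * k⁻¹ := by rw [← h7]; group
  obtain ⟨k, hk, hkk, hke, hact⟩ := key
  obtain ⟨t, u, ht, hu, hne, htu⟩ := H.four S.bad
  have hmem : ∀ {x : G}, x ∈ centralizer (L : Set G) → x * e = e * x →
      x ∈ centralizer (L : Set G) ⊓ centralizer ({e} : Set G) := fun h1 h2 =>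
    ⟨h1, mem_centralizer_singleton_iff.mpr h2⟩
  obtain ⟨x, hx, y, hy, hxx, hyy, hxy, hx1, hy1, hxy1, hkx, hky⟩ := Cfsg.Agent.UGT.SL.exists_four_commute
    (hmem ht.mem ht.comm) (hmem hu.mem hu.comm) ht.sq hu.sq htu ht.ne hu.ne hne (hmem hk hke) hkk
  have hxT : IsT L e x := ⟨hx.1, mem_centralizer_singleton_iff.mp hx.2, hxx, hx1⟩
  have hyT : IsT L e y := ⟨hy.1, mem_centralizer_singleton_iff.mp hy.2, hyy, hy1⟩
  have hfix : ∀ f, IsT L e f → k * f = f * k → f * v = v * f := by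
    intro f hf hkf
    have h1 := hact f hf.mem hf.comm
    have h2 : k * f * k⁻¹ = f := by rw [hkf]; group
    rw [h2] at h1
    calc f * v = (v * f * v⁻¹) * v := by rw [h1]
      _ = v * f := by group
  have hxv := hfix x hxT hkx
  have hyv := hfix y hyT hky
  have hxyT := isT_mul hxT hyT hxy1 hxy
  have hxyv : x * y * v = v * (x * y) := by
    calc x * y * v = x * (y * v) := by group
      _ = (x * v) * y := by rw [hyv]; group
      _ = v * (x * y) := by rw [hxv]; group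
  rw [hvd] at hxv hyv hxyv hnW
  -- the actions on `L^g`
  have hdich : ∀ w, IsT L e w → w * (g * z * g⁻¹) = g * z * g⁻¹ * w →
      ∃ l ∈ L, l * e * (g⁻¹ * w * g) ∈ centralizer (L : Set G) := by
    intro w hw hwv
    by_contra h
    push Not at h
    refine S.tame_of_tame H hnW hw ⟨S.cv H hwv, S.we hw, ww hw, ?_, h⟩
    intro l hl hk
    exact S.no_inner H hw hwv hl hk
  obtain ⟨l1, hl1, hk1⟩ := hdich x hxT hxv
  obtain ⟨l2, hl2, hk2⟩ := hdich y hyT hyv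
  -- the product is inner
  obtain ⟨k1, hk1d⟩ : ∃ k1, k1 = l1 * e * (g⁻¹ * x * g) := ⟨_, rfl⟩
  obtain ⟨k2, hk2d⟩ : ∃ k2, k2 = l2 * e * (g⁻¹ * y * g) := ⟨_, rfl⟩
  rw [← hk1d] at hk1
  rw [← hk2d] at hk2
  -- `x' = l1'⁻¹ e k1`
  have hx' : g⁻¹ * x * g = e⁻¹ * l1⁻¹ * k1 := by rw [hk1d]; group
  have hy' : g⁻¹ * y * g = e⁻¹ * l2⁻¹ * k2 := by rw [hk2d]; group
  have hei : e⁻¹ = e := inv_eq_of_mul_eq_one_left hsq
  have hprod : g⁻¹ * (x * y) * g = (e * l1⁻¹ * e⁻¹ * l2⁻¹) * (e * k1 * e⁻¹ * k2) := by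
    have hL2 : e * k1 * e⁻¹ ∈ centralizer (L : Set G) := K_conj hee hk1
    calc g⁻¹ * (x * y) * g = (g⁻¹ * x * g) * (g⁻¹ * y * g) := by group
      _ = e⁻¹ * l1⁻¹ * k1 * (e⁻¹ * l2⁻¹ * k2) := by rw [hx', hy']
      _ = e⁻¹ * (l1⁻¹ * k1 * e⁻¹ * l2⁻¹ * k2) := by group
      _ = e * (l1⁻¹ * k1 * e⁻¹ * l2⁻¹ * k2) := congrArg (· * (l1⁻¹ * k1 * e⁻¹ * l2⁻¹ * k2)) hei
      _ = e * l1⁻¹ * e⁻¹ * ((e * k1 * e⁻¹) * l2⁻¹) * k2 := by group
      _ = e * l1⁻¹ * e⁻¹ * (l2⁻¹ * (e * k1 * e⁻¹)) * k2 := by rw [comm_of_mem (inv_mem hl2) hL2]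
      _ = _ := by group
  refine S.no_inner H hxyT hxyv (l := (e * l1⁻¹ * e⁻¹ * l2⁻¹)⁻¹)
    (inv_mem (mul_mem (L_conj hee (inv_mem hl1)) (inv_mem hl2))) ?_
  rw [hprod, inv_mul_cancel_left]
  exact mul_mem (K_conj hee hk1) hk2

/-- (B), `v` wild -/
theorem wild [Finite G] (hW : Wild L e (g * z * g⁻¹)) : False := by
  obtain ⟨v, hvd⟩ : ∃ v, v = g * z * g⁻¹ := ⟨_, rfl⟩
  have hee := H.mem S.bad
  have hge' : g⁻¹ * e = e * g⁻¹ := inv_comm S.hge
  -- an involution `w` of `C_K(e, v)`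
  have hmem : ∀ {x : G}, x ∈ centralizer (L : Set G) → x * e = e * x →
      x ∈ centralizer (L : Set G) ⊓ centralizer ({e} : Set G) := fun h1 h2 =>
    ⟨h1, mem_centralizer_singleton_iff.mpr h2⟩
  obtain ⟨w, hwF, hww, hw1, hwv⟩ := exists_fixed
    (X := normalizer (L : Set G) ⊓ centralizer ({e} : Set G))
    (N := centralizer (L : Set G) ⊓ centralizer ({e} : Set G))
    (le_inf (inf_le_left.trans K_le_M) inf_le_right) (fun x hx n hn => by
      have h1 := mem_centralizer_singleton_iff.mp hx.2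
      have h2 := mem_centralizer_singleton_iff.mp hn.2
      exact hmem (K_conj hx.1 hn.1) (cj_comm h1 h2))
    (⟨S.hv, mem_centralizer_singleton_iff.mpr S.ve⟩) S.vv (hmem S.hz.mem S.hz.comm) S.hz.sq S.hz.ne
  have hw : IsT L e w := ⟨hwF.1, mem_centralizer_singleton_iff.mp hwF.2, hww, hw1⟩
  have hJM2 : ∀ j ∈ J (g * z * g⁻¹), g⁻¹ * j * g⁻¹⁻¹ ∈ normalizer (L : Set G) := by
    intro j hj
    rw [inv_inv]
    exact S.cv H (H.wcomm S.bad _ hW j hj)
  have hJnK2 := H.J_not_le S.bad hW hge' hJM2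
  have hw2M := S.cv H hwv
  have hw2K := S.wK H hw
  have hwj : ∀ j ∈ J (g * z * g⁻¹), g⁻¹ * j * g * (g⁻¹ * w * g) = g⁻¹ * w * g * (g⁻¹ * j * g) := by
    intro j hj
    have h1 := comm_of_mem (H.wle S.bad _ hW hj) hw.mem
    calc g⁻¹ * j * g * (g⁻¹ * w * g) = g⁻¹ * (j * w) * g := by group
      _ = g⁻¹ * (w * j) * g := by rw [h1]
      _ = _ := by group
  -- `w` is wild on `L^g`
  have hW2 : Wild L e (g⁻¹ * w * g) := by
    by_contra hnW
    apply hJnK2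
    intro j hj
    have h1 := H.solv S.bad _ hw2M (S.we hw) (ww hw) hw2K hnW
      ((J (g * z * g⁻¹)).map (MulAut.conj g⁻¹).toMonoidHom) (by
        intro x hx
        obtain ⟨y, hy, rfl⟩ := mem_map_conj.mp hx
        exact hJM2 y hy) (by
        intro x hx
        obtain ⟨y, hy, rfl⟩ := mem_map_conj.mp hx
        rw [inv_inv]
        exact hwj y hy) (perf_map (H.wperf S.bad _ hW) _)
    exact h1 (mem_map_conj.mpr ⟨j, hj, rfl⟩)
  have hnK := S.J_nK H hw hW2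
  -- the conjugate `X2` of `J w'`
  obtain ⟨X2, hX2⟩ : ∃ X2, X2 = (J (g⁻¹ * w * g)).map (MulAut.conj g).toMonoidHom := ⟨_, rfl⟩
  have hX2m : ∀ {x : G}, x ∈ X2 ↔ ∃ y ∈ J (g⁻¹ * w * g), g * y * g⁻¹ = x := by
    intro x; rw [hX2]; exact mem_map_conj
  have hX2M : X2 ≤ normalizer (L : Set G) := by
    intro x hx
    obtain ⟨y, hy, rfl⟩ := hX2m.mp hx
    exact S.JM H hw hW2 hy
  have hX2v : ∀ x ∈ X2, x * (g * z * g⁻¹) = g * z * g⁻¹ * x := by
    intro x hx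
    obtain ⟨y, hy, rfl⟩ := hX2m.mp hx
    exact S.Jv H hW2 hy
  have hX2w : ∀ x ∈ X2, x * w = w * x := by
    intro x hx
    obtain ⟨y, hy, rfl⟩ := hX2m.mp hx
    have h1 := H.wcomm S.bad _ hW2 y hy
    calc g * y * g⁻¹ * w = g * (y * (g⁻¹ * w * g)) * g⁻¹ := by group
      _ = g * ((g⁻¹ * w * g) * y) * g⁻¹ := by rw [h1]
      _ = w * (g * y * g⁻¹) := by group
  have hX2p : X2 ≤ ⁅X2, X2⁆ := by rw [hX2]; exact perf_map (H.wperf S.bad _ hW2) g
  have hmax := H.wmax S.bad _ hW X2 hX2M hX2v hX2p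
  -- the projection `JK` of `X2` to `K`
  let JK : Subgroup G :=
    { carrier := {k | k ∈ centralizer (L : Set G) ∧ ∃ j ∈ J (g * z * g⁻¹), j * k ∈ X2}
      mul_mem' := by
        rintro a b ⟨ha, j, hj, hja⟩ ⟨hb, j', hj', hjb⟩
        refine ⟨mul_mem ha hb, j * j', mul_mem hj hj', ?_⟩
        have h1 := comm_of_mem (H.wle S.bad _ hW hj') ha
        have h2 : j * j' * (a * b) = (j * a) * (j' * b) := by
          calc j * j' * (a * b) = j * (j' * a) * b := by group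
            _ = j * (a * j') * b := by rw [h1]
            _ = _ := by group
        rw [h2]
        exact mul_mem hja hjb
      one_mem' := ⟨one_mem _, 1, one_mem _, by rw [one_mul]; exact one_mem _⟩
      inv_mem' := by
        rintro a ⟨ha, j, hj, hja⟩
        refine ⟨inv_mem ha, j⁻¹, inv_mem hj, ?_⟩
        have h1 := comm_of_mem (H.wle S.bad _ hW hj) ha
        have h2 : j⁻¹ * a⁻¹ = (j * a)⁻¹ := by rw [h1]; group
        rw [h2]
        exact inv_mem hja }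
  have hJKm : ∀ {k : G}, k ∈ JK ↔ k ∈ centralizer (L : Set G) ∧ ∃ j ∈ J (g * z * g⁻¹), j * k ∈ X2 :=
    Iff.rfl
  have hJKp : JK ≤ ⁅JK, JK⁆ := by
    have hle : ⁅JK, JK⁆ ≤ JK := commutator_le.mpr fun a ha b hb =>
      mul_mem (mul_mem (mul_mem ha hb) (inv_mem ha)) (inv_mem hb)
    have h1 : ⁅X2, X2⁆ ≤ J (g * z * g⁻¹) ⊔ ⁅JK, JK⁆ := by
      rw [commutator_le]
      intro a ha b hb
      obtain ⟨j, hj, k, hk, hjk⟩ := hmax a ha
      obtain ⟨j', hj', k', hk', hjk'⟩ := hmax b hb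
      have h2 : k ∈ JK := ⟨hk, j, hj, hjk ▸ ha⟩
      have h3 : k' ∈ JK := ⟨hk', j', hj', hjk' ▸ hb⟩
      have hjL := H.wle S.bad _ hW hj
      have hj'L := H.wle S.bad _ hW hj'
      have h4 : a * b * a⁻¹ * b⁻¹ = (j * j' * j⁻¹ * j'⁻¹) * (k * k' * k⁻¹ * k'⁻¹) := by
        rw [hjk, hjk']
        have e1 := comm_of_mem hj'L hk
        have e2 := comm_of_mem (inv_mem hjL) (mul_mem (mul_mem hk hk') (inv_mem hk))
        have e3 := comm_of_mem (inv_mem hj'L) (mul_mem (mul_mem (mul_mem hk hk') (inv_mem hk)) (inv_mem hk'))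
        calc j * k * (j' * k') * (j * k)⁻¹ * (j' * k')⁻¹
            = j * (k * j') * k' * k⁻¹ * j⁻¹ * k'⁻¹ * j'⁻¹ := by group
          _ = j * (j' * k) * k' * k⁻¹ * j⁻¹ * k'⁻¹ * j'⁻¹ := by rw [e1]
          _ = j * j' * ((k * k' * k⁻¹) * j⁻¹) * k'⁻¹ * j'⁻¹ := by group
          _ = j * j' * (j⁻¹ * (k * k' * k⁻¹)) * k'⁻¹ * j'⁻¹ := by rw [e2]
          _ = j * j' * j⁻¹ * ((k * k' * k⁻¹ * k'⁻¹) * j'⁻¹) := by group
          _ = j * j' * j⁻¹ * (j'⁻¹ * (k * k' * k⁻¹ * k'⁻¹)) := by rw [e3]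
          _ = _ := by group
      rw [commutatorElement_def, h4]
      have h5 := commutator_mem_commutator h2 h3
      rw [commutatorElement_def] at h5
      exact mul_mem (mem_sup_left (mul_mem (mul_mem (mul_mem hj hj') (inv_mem hj)) (inv_mem hj')))
        (mem_sup_right h5)
    intro k hk
    obtain ⟨hkK, j, hj, hjk⟩ := hk
    obtain ⟨j', hj', k', hk', hjk'⟩ := Cfsg.Agent.UGT.SL.exists_mul_of_mem_sup (by
      intro b hb a ha
      have h2 := comm_of_mem (H.wle S.bad _ hW ha) (hle hb).1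
      have h3 : b * a * b⁻¹ = a := by rw [← h2]; group
      rw [h3]; exact ha) (h1 (hX2p hjk))
    obtain ⟨-, h3⟩ := H.uniq S.bad (H.wle S.bad _ hW hj') (hle hk').1 (H.wle S.bad _ hW hj) hkK hjk'
    rw [← h3]; exact hk'
  -- `JK` centralises `L^g`
  have hJKw : ∀ k ∈ JK, k * w = w * k := by
    rintro k ⟨-, j, hj, hjk⟩
    have h1 := hX2w _ hjk
    have h2 := comm_of_mem (inv_mem (H.wle S.bad _ hW hj)) hw.mem
    calc k * w = j⁻¹ * ((j * k) * w) := by group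
      _ = (j⁻¹ * w) * (j * k) := by rw [h1]; group
      _ = w * k := by rw [h2]; group
  have hJKv : ∀ k ∈ JK, k * (g * z * g⁻¹) = g * z * g⁻¹ * k := by
    rintro k ⟨-, j, hj, hjk⟩
    have h1 := hX2v _ hjk
    have h2 := H.wcomm S.bad _ hW _ (inv_mem hj)
    calc k * (g * z * g⁻¹) = j⁻¹ * ((j * k) * (g * z * g⁻¹)) := by group
      _ = (j⁻¹ * (g * z * g⁻¹)) * (j * k) := by rw [h1]; group
      _ = g * z * g⁻¹ * k := by rw [h2]; group
  have hJKc : ∀ k ∈ JK, g⁻¹ * k * g ∈ centralizer (L : Set G) := by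
    have h1 := H.wmax S.bad _ hW2 (JK.map (MulAut.conj g⁻¹).toMonoidHom) (by
      intro x hx
      obtain ⟨y, hy, rfl⟩ := mem_map_conj.mp hx
      rw [inv_inv]
      exact S.cv H (hJKv y hy)) (by
      intro x hx
      obtain ⟨y, hy, rfl⟩ := mem_map_conj.mp hx
      rw [inv_inv]
      calc g⁻¹ * y * g * (g⁻¹ * w * g) = g⁻¹ * (y * w) * g := by group
        _ = g⁻¹ * (w * y) * g := by rw [hJKw y hy]
        _ = _ := by group) (perf_map hJKp _)
    have h2 := H.wmin S.bad _ _ hW2 hW g⁻¹ hJM2 (by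
      intro j hj
      rw [inv_inv]
      exact hwj j hj) hJnK2
    intro k hk
    obtain ⟨i, hi, κ, hκ, hiκ⟩ := h1 (g⁻¹ * k * g) (mem_map_conj.mpr ⟨k, hk, by rw [inv_inv]⟩)
    have hcen : ∀ i' ∈ J (g⁻¹ * w * g), i * i' = i' * i := by
      intro i' hi'
      obtain ⟨j, hj, κ', hκ', hjκ⟩ := h2 i' hi'
      rw [inv_inv] at hjκ
      have hiL := H.wle S.bad _ hW2 hi
      have hi'L := H.wle S.bad _ hW2 hi'
      have h3 : g⁻¹ * k * g * (g⁻¹ * j * g) = g⁻¹ * j * g * (g⁻¹ * k * g) := by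
        have h4 := comm_of_mem (H.wle S.bad _ hW hj) hk.1
        calc g⁻¹ * k * g * (g⁻¹ * j * g) = g⁻¹ * (k * j) * g := by group
          _ = g⁻¹ * (j * k) * g := by rw [h4]
          _ = _ := by group
      rw [hiκ, hjκ] at h3
      have h5 : i * i' * (κ * κ') = i' * i * (κ' * κ) := by
        calc i * i' * (κ * κ') = i * (i' * κ) * κ' := by group
          _ = i * (κ * i') * κ' := by rw [comm_of_mem hi'L hκ]
          _ = i * κ * (i' * κ') := by group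
          _ = i' * κ' * (i * κ) := h3
          _ = i' * (κ' * i) * κ := by group
          _ = i' * (i * κ') * κ := by rw [comm_of_mem hiL hκ']
          _ = _ := by group
      exact (H.uniq S.bad (mul_mem hiL hi'L) (mul_mem hκ hκ') (mul_mem hi'L hiL) (mul_mem hκ' hκ) h5).1
    have hi1 := H.wcen S.bad hW2 hi hcen
    rw [hiκ, hi1, one_mul]
    exact hκ
  -- an involution `i` of `J w'` commuting with `e`
  obtain ⟨i, hi, hiS⟩ := H.wfix S.bad _ hW2
  have hxX : g * i * g⁻¹ ∈ X2 := hX2m.mpr ⟨i, hi, rfl⟩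
  obtain ⟨x, hxd⟩ : ∃ x, x = g * i * g⁻¹ := ⟨_, rfl⟩
  have hxe : x * e = e * x := by rw [hxd]; exact cj_comm S.hge hiS.comm
  have hxx : x * x = 1 := by
    rw [hxd]
    calc g * i * g⁻¹ * (g * i * g⁻¹) = g * (i * i) * g⁻¹ := by group
      _ = 1 := by rw [hiS.sq]; group
  have hx1 : x ≠ 1 := by
    intro h
    apply hiS.ne
    calc i = g⁻¹ * x * g := by rw [hxd]; group
      _ = 1 := by rw [h]; group
  obtain ⟨j, hj, k, hk, hjk⟩ := hmax _ hxX
  rw [← hxd] at hjk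
  have hjL := H.wle S.bad _ hW hj
  have h1 : e * j * e⁻¹ * (e * k * e⁻¹) = j * k := by
    calc e * j * e⁻¹ * (e * k * e⁻¹) = e * (j * k) * e⁻¹ := by group
      _ = e * x * e⁻¹ := by rw [hjk]
      _ = j * k := by rw [← hxe, hjk]; group
  obtain ⟨-, hke⟩ := H.uniq S.bad (L_conj hee hjL) (K_conj hee hk) hjL hk h1
  have h2 : j * j * (k * k) = 1 * 1 := by
    calc j * j * (k * k) = j * (j * k) * k := by group
      _ = j * (k * j) * k := by rw [comm_of_mem hjL hk]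
      _ = (j * k) * (j * k) := by group
      _ = 1 * 1 := by rw [← hjk, hxx, one_mul]
  obtain ⟨-, hkk⟩ := H.uniq S.bad (mul_mem hjL hjL) (mul_mem hk hk) (one_mem _) (one_mem _) h2
  have hk1 : k = 1 := by
    by_contra hk1
    have hkT : IsT L e k := ⟨hk, by
      calc k * e = (e * k * e⁻¹) * e := by rw [hke]
        _ = e * k := by group, hkk, hk1⟩
    apply S.wK H hkT
    exact hJKc k ⟨hk, j, hj, by rw [← hjk, hxd]; exact hxX⟩
  rw [hk1, mul_one] at hjk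
  have hxJ : x ∈ J (g * z * g⁻¹) := hjk ▸ hj
  -- `X2 ≤ J v`
  have hX2J : ∀ i ∈ J (g⁻¹ * w * g), g * i * g⁻¹ ∈ J (g * z * g⁻¹) := by
    rcases H.wsimp S.bad _ hW2 (J (g⁻¹ * w * g) ⊓ (J (g * z * g⁻¹)).comap (MulAut.conj g).toMonoidHom)
      inf_le_left (by
        rintro a ha n ⟨hn, hn2⟩
        refine mem_inf.mpr ⟨mul_mem (mul_mem ha hn) (inv_mem ha), ?_⟩
        change g * (a * n * a⁻¹) * g⁻¹ ∈ J (g * z * g⁻¹)
        obtain ⟨j', hj', k', hk', hjk'⟩ := hmax _ (hX2m.mpr ⟨a, ha, rfl⟩)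
        have hn3 : g * n * g⁻¹ ∈ J (g * z * g⁻¹) := hn2
        have h3 := comm_of_mem (H.wle S.bad _ hW hn3) hk'
        have h4 : g * (a * n * a⁻¹) * g⁻¹ = j' * (g * n * g⁻¹) * j'⁻¹ := by
          calc g * (a * n * a⁻¹) * g⁻¹ = (g * a * g⁻¹) * (g * n * g⁻¹) * (g * a * g⁻¹)⁻¹ := by group
            _ = j' * (k' * (g * n * g⁻¹)) * k'⁻¹ * j'⁻¹ := by rw [hjk']; group
            _ = j' * ((g * n * g⁻¹) * k') * k'⁻¹ * j'⁻¹ := by rw [h3]
            _ = _ := by group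
        rw [h4]
        exact mul_mem (mul_mem hj' hn3) (inv_mem hj')) with h | h
    · exfalso
      apply hiS.ne
      have h3 : i ∈ J (g⁻¹ * w * g) ⊓ (J (g * z * g⁻¹)).comap (MulAut.conj g).toMonoidHom := by
        refine ⟨hi, ?_⟩
        change g * i * g⁻¹ ∈ J (g * z * g⁻¹)
        rw [← hxd]; exact hxJ
      rw [h] at h3
      exact mem_bot.mp h3
    · intro i hi
      have h3 : i ∈ J (g⁻¹ * w * g) ⊓ (J (g * z * g⁻¹)).comap (MulAut.conj g).toMonoidHom := h.symm ▸ hi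
      exact h3.2
  have hJL : ∀ j ∈ J (g * z * g⁻¹), g⁻¹ * j * g ∈ L := by
    intro j hj
    obtain ⟨i, hi, k, hk, hik⟩ := H.wmin S.bad _ _ hW hW2 g (fun j hj => S.JM H hw hW2 hj)
      (fun j hj => S.Jv H hW2 hj) hnK j hj
    have h3 : g * i * g⁻¹ * 1 = j * k := by rw [mul_one]; exact hik
    obtain ⟨h4, -⟩ := H.uniq S.bad (H.wle S.bad _ hW (hX2J i hi)) (one_mem _) (H.wle S.bad _ hW hj) hk h3
    rw [← h4]
    have h5 : g⁻¹ * (g * i * g⁻¹) * g = i := by group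
    rw [h5]
    exact H.wle S.bad _ hW2 hi
  have hxS : IsS L e x := ⟨H.wle S.bad _ hW hxJ, hxe, hxx, hx1⟩
  have hYL : ∀ y ∈ Y e, g⁻¹ * y * g ∈ L := by
    intro y hy
    have h3 := H.Y_conj S.bad hxS hiS hge' (by rw [hxd, inv_inv]; group) hy
    rw [inv_inv] at h3
    exact H.YL S.bad h3
  have hfin : L ≤ L.comap (MulAut.conj g⁻¹).toMonoidHom := by
    apply H.wY S.bad _ hW
    · intro j hj
      change g⁻¹ * j * g⁻¹⁻¹ ∈ L
      rw [inv_inv]; exact hJL j hj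
    · intro y hy
      change g⁻¹ * y * g⁻¹⁻¹ ∈ L
      rw [inv_inv]; exact hYL y hy
  apply S.hg
  have h3 : g⁻¹ ∈ normalizer (L : Set G) := mem_normalizer_of fun l hl => hfin hl
  have h4 := inv_mem h3
  rwa [inv_inv] at h4

end Sit

/-- (B) -/
theorem fus [Finite G] {e z g : G} (he : B e) (hz : IsT L e z) (hge : g * e = e * g)
    (hv : g * z * g⁻¹ ∈ normalizer (L : Set G)) : g ∈ normalizer (L : Set G) := by
  by_contra hg
  have S : Sit B L e z g := ⟨he, hz, hge, hv, hg⟩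
  by_cases hW : Wild L e (g * z * g⁻¹)
  · exact S.wild H hW
  · exact S.tame H hW

end Conf

end Cfsg.Agent.UGT.CE
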