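import Cfsg.Agent.UGT.CE.Main

/-!
# `C(e) ≤ N(L)` for bad involutions `e`, paired version

Conjugates of `L` may commute, but not conjugates under `C(e)`; instead `N(Y e) ≤ N(L)` (Theorem H) is assumed, and the
involutions `t` of `C_K(e)` only satisfy: `L` is a component of `C(t)`, the only one of its class moved by `O(C(e))`.
-/

set_option autoImplicit false

open Subgroup

namespace Cfsg.Agent.UGT.CE

open Cfsg.Agent.UGT.ThE.Base (IsT IsS comm_of_mem L_conj L_conj' K_le_M L_le_M K_conj K_conj' exists_central)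
open Cfsg.Agent.UGT.CE.Base

universe u

variable {G : Type u} [Group G]

/-- The configuration. -/
structure PConf (O Y J : G → Subgroup G) (L : Subgroup G) (B : G → Prop) : Prop where
  Ocj : ∀ g t a : G, a ∈ O t → g * a * g⁻¹ ∈ O (g * t * g⁻¹)
  Oc : ∀ {e}, B e → ∀ a ∈ O e, a * e = e * a
  perf : L ≤ ⁅L, L⁆
  disj : ∀ l ∈ L, l ∈ centralizer (L : Set G) → l = 1
  sq : ∀ {e}, B e → e * e = 1
  mem : ∀ {e}, B e → e ∈ normalizer (L : Set G)
  odd : ∀ {e}, B e → Odd (Nat.card (O e))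
  Bcj : ∀ {e}, B e → ∀ l ∈ L, B (l * e * l⁻¹)
  Bt : ∀ {e}, B e → ∀ t, IsT L e t → B (e * t)
  four : ∀ {e}, B e → ∃ t u, IsT L e t ∧ IsT L e u ∧ t ≠ u ∧ t * u = u * t
  /-- `L` is the only component of its class of `C(t)` moved by `O(C(e))` -/
  uni : ∀ {e}, B e → ∀ z, IsT L e z → ∀ g, g * e = e * g → IsT L e (g * z * g⁻¹) →
    g ∈ normalizer (L : Set G)
  /-- `L` is a component of `C(t)` -/
  cmp : ∀ {e}, B e → ∀ t, IsT L e t → ∀ c, c * t = t * c →
    (∀ l ∈ L, c * l * c⁻¹ ∈ L) ∨ ∀ l ∈ L, c * l * c⁻¹ ∈ centralizer (L : Set G)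
  fin : ∀ {e}, B e → ∀ t, IsT L e t → O t ≤ centralizer (L : Set G)
  nc : ∀ {e}, B e → ∀ g, g * e = e * g → ¬ ∀ l ∈ L, g * l * g⁻¹ ∈ centralizer (L : Set G)
  /-- Theorem H -/
  NY : ∀ {e}, B e → ∀ c, (∀ y ∈ Y e, c * y * c⁻¹ ∈ Y e) → c ∈ normalizer (L : Set G)
  YL : ∀ {e}, B e → Y e ≤ L
  YO : ∀ {e}, B e → Y e ≤ O e
  Yt : ∀ {e}, B e → ∀ t, IsT L e t → Y e ≤ Y (e * t)
  Yn : ∀ {e}, B e → ∀ c ∈ normalizer (L : Set G), c * e = e * c → ∀ y ∈ Y e, c * y * c⁻¹ ∈ Y e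
  /-- `O(C(e))` acts on `L` as `Y e` -/
  core : ∀ {e}, B e → O e ≤ normalizer (L : Set G) → ∀ a ∈ O e, ∃ y ∈ Y e,
    ∃ k ∈ centralizer (L : Set G), a = y * k
  exS : ∀ {e}, B e → ∃ s, IsS L e s
  inv : ∀ {e}, B e → ∀ s, IsS L e s → ∀ y ∈ Y e, s * y * s⁻¹ = y⁻¹
  cj : ∀ {e}, B e → ∀ s, IsS L e s → ∃ l ∈ L, l * e * l⁻¹ = e * s
  gen1 : ∀ {e}, B e → ∀ s, IsS L e s → ∀ H : Subgroup G, Y e ≤ H → Y (e * s) ≤ H → L ≤ H
  /-- `C_{Aut L}(Y e)` is solvable -/
  solY : ∀ {e}, B e → ∀ X : Subgroup G, X ≤ normalizer (L : Set G) → (∀ x ∈ X, ∀ y ∈ Y e, x * y = y * x) →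
    X ≤ ⁅X, X⁆ → X ≤ centralizer (L : Set G)
  wcomm : ∀ {e}, B e → ∀ v, Wild L e v → ∀ j ∈ J v, j * v = v * j
  wsimp : ∀ {e}, B e → ∀ v, Wild L e v → ∀ N : Subgroup G, N ≤ J v → (∀ l ∈ J v, ∀ n ∈ N, l * n * l⁻¹ ∈ N) →
    N = ⊥ ∨ N = J v
  wfix : ∀ {e}, B e → ∀ v, Wild L e v → ∃ i ∈ J v, IsS L e i
  wmem : ∀ {e}, B e → ∀ v, Wild L e v → ∀ y ∈ Y e, y * v = v * y → y ∈ J v

namespace PConf

variable {O Y J : G → Subgroup G} {L : Subgroup G} {B : G → Prop} (H : PConf O Y J L B)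
include H

theorem uniq {a b c d : G} (ha : a ∈ L) (hb : b ∈ centralizer (L : Set G)) (hc : c ∈ L)
    (hd : d ∈ centralizer (L : Set G)) (h : a * b = c * d) : a = c ∧ b = d := by
  have h1 : c⁻¹ * a = d * b⁻¹ := by
    calc c⁻¹ * a = c⁻¹ * (a * b) * b⁻¹ := by group
      _ = d * b⁻¹ := by rw [h]; group
  have h2 : c⁻¹ * a = 1 := H.disj _ (mul_mem (inv_mem hc) ha) (by rw [h1]; exact mul_mem hd (inv_mem hb))
  have h3 : a = c := (inv_mul_eq_one.mp h2).symm
  exact ⟨h3, by rw [h3] at h; exact mul_left_cancel h⟩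

theorem O_conj {e c : G} (h : c * e = e * c) {a : G} (ha : a ∈ O e) : c * a * c⁻¹ ∈ O e := by
  have h1 := H.Ocj c e a ha
  rwa [cj_eq h] at h1

/-- `C(e, t) ≤ N(L)` -/
theorem cte {e : G} (he : B e) {t : G} (ht : IsT L e t) {c : G} (hct : c * t = t * c) (hce : c * e = e * c) :
    c ∈ normalizer (L : Set G) :=
  H.uni he t ht c hce (by rw [cj_eq hct]; exact ht)

theorem O_le [Finite G] {e : G} (he : B e) : O e ≤ normalizer (L : Set G) := by
  obtain ⟨t, u, ht, hu, hne, htu⟩ := H.four he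
  refine Cfsg.Agent.Lib.KleinGen.le_of_klein (O e) _ (H.odd he) t u ht.sq hu.sq htu
    (fun a ha => H.O_conj ht.comm ha) (fun a ha => H.O_conj hu.comm ha) ?_ ?_ ?_
  · intro c hc
    exact H.cte he ht (mem_centralizer_singleton_iff.mp hc.2) (H.Oc he c hc.1)
  · intro c hc
    exact H.cte he hu (mem_centralizer_singleton_iff.mp hc.2) (H.Oc he c hc.1)
  · intro c hc
    exact H.cte he (isT_mul ht hu hne htu) (mem_centralizer_singleton_iff.mp hc.2) (H.Oc he c hc.1)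

theorem core' [Finite G] {e : G} (he : B e) {a : G} (ha : a ∈ O e) : ∃ y ∈ Y e,
    ∃ k ∈ centralizer (L : Set G), a = y * k := H.core he (H.O_le he) a ha

theorem odd_order [Finite G] {e : G} (he : B e) {y : G} (hy : y ∈ Y e) : Odd (orderOf y) :=
  (H.odd he).of_dvd_nat (Subgroup.orderOf_dvd_natCard _ (H.YO he hy))

theorem Ysq [Finite G] {e : G} (he : B e) {y : G} (hy : y ∈ Y e) : ∃ y' ∈ Y e, y = y' * y' := by
  obtain ⟨m, hm⟩ := H.odd_order he hy
  refine ⟨y ^ (m + 1), pow_mem hy _, ?_⟩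
  have h2 : y ^ (2 * m + 1) = 1 := by rw [← hm]; exact pow_orderOf_eq_one y
  calc y = y ^ (2 * m + 1) * y := by rw [h2, one_mul]
    _ = y ^ (m + 1) * y ^ (m + 1) := by rw [← pow_succ, ← pow_add]; congr 1; omega

theorem eq_one_of_sq [Finite G] {e : G} (he : B e) {y : G} (hy : y ∈ Y e) (h : y * y = 1) : y = 1 := by
  have h1 := H.odd_order he hy
  have h2 : orderOf y ∣ 2 := orderOf_dvd_of_pow_eq_one (by rw [pow_two, h])
  rcases (Nat.dvd_prime Nat.prime_two).mp h2 with h3 | h3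
  · exact orderOf_eq_one_iff.mp h3
  · rw [h3] at h1
    exact absurd h1 (by decide)

/-- the commutator with an involution `s` of `C_L(e)` of an element of `O(C(e))` -/
theorem comm_yk {e : G} (he : B e) {s : G} (hs : IsS L e s) {y k : G} (hy : y ∈ Y e)
    (hk : k ∈ centralizer (L : Set G)) : y * k * s * (y * k)⁻¹ * s⁻¹ = y * y := by
  have h1 : k * s * k⁻¹ = s := by rw [← comm_of_mem hs.mem hk]; group
  have h2 : s * y⁻¹ * s⁻¹ = y := by
    have h3 := H.inv he s hs y hy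
    calc s * y⁻¹ * s⁻¹ = (s * y * s⁻¹)⁻¹ := by group
      _ = y := by rw [h3, inv_inv]
  calc y * k * s * (y * k)⁻¹ * s⁻¹ = y * (k * s * k⁻¹) * y⁻¹ * s⁻¹ := by group
    _ = y * (s * y⁻¹ * s⁻¹) := by rw [h1]; group
    _ = y * y := by rw [h2]

/-- `c ∈ C(e)` maps the involution `s` of `C_L(e)` to the involution `s'` of `C_L(e)`: then it normalises `Y e` -/
theorem Y_conj [Finite G] {e : G} (he : B e) {s s' : G} (hs : IsS L e s) (hs' : IsS L e s') {c : G}
    (hce : c * e = e * c) (hcs : c * s * c⁻¹ = s') {y : G} (hy : y ∈ Y e) : c * y * c⁻¹ ∈ Y e := by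
  obtain ⟨y', hy', rfl⟩ := H.Ysq he hy
  have ha : c * y' * c⁻¹ ∈ O e := H.O_conj hce (H.YO he hy')
  obtain ⟨y1, hy1, k1, hk1, hyk⟩ := H.core' he ha
  have h1 := H.comm_yk he hs' hy1 hk1
  have h2 := H.comm_yk he hs hy' (one_mem (centralizer (L : Set G)))
  rw [mul_one] at h2
  rw [← hyk, ← hcs] at h1
  have h3 : c * y' * c⁻¹ * (c * s * c⁻¹) * (c * y' * c⁻¹)⁻¹ * (c * s * c⁻¹)⁻¹ =
      c * (y' * s * y'⁻¹ * s⁻¹) * c⁻¹ := by group
  rw [h3, h2] at h1
  rw [h1]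
  exact mul_mem hy1 hy1

/-- `C(e, s) ≤ N(L)` -/
theorem ces [Finite G] {e : G} (he : B e) {s : G} (hs : IsS L e s) {c : G} (hce : c * e = e * c)
    (hcs : c * s = s * c) : c ∈ normalizer (L : Set G) := by
  obtain ⟨l, hl, hle⟩ := H.cj he s hs
  have he' : B (e * s) := hle ▸ H.Bcj he l hl
  have hs' : IsS L (e * s) s := ⟨hs.mem, by
    calc s * (e * s) = (s * e) * s := by group
      _ = e * s * s := by rw [hs.comm], hs.sq, hs.ne⟩
  have hce' : c * (e * s) = (e * s) * c := by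
    calc c * (e * s) = (c * e) * s := by group
      _ = e * (c * s) := by rw [hce]; group
      _ = (e * s) * c := by rw [hcs]; group
  have h1 : L ≤ L.comap (MulAut.conj c).toMonoidHom := by
    apply H.gen1 he s hs
    · intro y hy
      exact H.YL he (H.Y_conj he hs hs hce (cj_eq hcs) hy)
    · intro y hy
      exact H.YL he' (H.Y_conj he' hs' hs' hce' (cj_eq hcs) hy)
  exact mem_normalizer_of fun l hl => h1 hl

/-- `Y(L^g)` acts nontrivially on `L` for `g ∈ C(e)` -/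
theorem nK2 [Finite G] {e : G} (he : B e) {g : G} (hge : g * e = e * g) :
    ¬ ∀ y ∈ Y e, g * y * g⁻¹ ∈ centralizer (L : Set G) := by
  intro h
  have h1 : ∀ l ∈ L, ∀ y ∈ Y e, g⁻¹ * l * g * y = y * (g⁻¹ * l * g) := by
    intro l hl y hy
    have h2 := comm_of_mem hl (h y hy)
    calc g⁻¹ * l * g * y = g⁻¹ * (l * (g * y * g⁻¹)) * g := by group
      _ = g⁻¹ * (g * y * g⁻¹ * l) * g := by rw [h2]
      _ = y * (g⁻¹ * l * g) := by group
  have hmem : ∀ {x : G}, x ∈ L.map (MulAut.conj g⁻¹).toMonoidHom → ∃ l ∈ L, g⁻¹ * l * g = x := by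
    intro x hx
    obtain ⟨l, hl, rfl⟩ := mem_map_conj.mp hx
    exact ⟨l, hl, by rw [inv_inv]⟩
  have h3 := H.solY he (L.map (MulAut.conj g⁻¹).toMonoidHom) (by
    intro x hx
    obtain ⟨l, hl, rfl⟩ := hmem hx
    apply H.NY he
    intro y hy
    rw [h1 l hl y hy]
    have h4 : y * (g⁻¹ * l * g) * (g⁻¹ * l * g)⁻¹ = y := by group
    rw [h4]; exact hy) (by
    intro x hx y hy
    obtain ⟨l, hl, rfl⟩ := hmem hx
    exact h1 l hl y hy) (perf_map H.perf g⁻¹)
  apply H.nc he g⁻¹ (inv_comm hge)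
  intro l hl
  exact h3 (mem_map_conj.mpr ⟨l, hl, rfl⟩)

theorem e_ne [Finite G] {e : G} (he : B e) : e ∉ centralizer (L : Set G) := by
  intro h
  obtain ⟨s, hs⟩ := H.exS he
  obtain ⟨l, hl, hle⟩ := H.cj he s hs
  apply hs.ne
  have h1 := comm_of_mem hl h
  have h2 : e * s = e := by
    rw [← hle, h1]; group
  exact mul_eq_left.mp h2

/-- `v = z^g ∈ N(L)`, `g ∈ C(e) - N(L)`, is wild on `L` -/
theorem wild_of [Finite G] {e z g : G} (he : B e) (hz : IsT L e z) (hge : g * e = e * g)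
    (hv : g * z * g⁻¹ ∈ normalizer (L : Set G)) (hg : g ∉ normalizer (L : Set G)) : Wild L e (g * z * g⁻¹) := by
  by_contra hW
  obtain ⟨v, hvd⟩ : ∃ v, v = g * z * g⁻¹ := ⟨_, rfl⟩
  have hve : v * e = e * v := by rw [hvd]; exact cj_comm hge hz.comm
  have hvv : v * v = 1 := by
    rw [hvd]
    calc g * z * g⁻¹ * (g * z * g⁻¹) = g * (z * z) * g⁻¹ := by group
      _ = 1 := by rw [hz.sq]; group
  have hv1 : v ≠ 1 := by
    intro h
    apply hz.ne
    calc z = g⁻¹ * (g * z * g⁻¹) * g := by group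
      _ = 1 := by rw [← hvd, h]; group
  have hvK : v ∉ centralizer (L : Set G) := fun h =>
    hg (H.uni he z hz g hge (hvd ▸ ⟨h, hve, hvv, hv1⟩))
  -- `v` centralises the conjugate of `Y e`
  have hvY : ∀ y ∈ Y e, v * (g * y * g⁻¹) * v⁻¹ = g * y * g⁻¹ := by
    intro y hy
    have h1 := comm_of_mem (H.YL he hy) hz.mem
    rw [hvd]
    calc g * z * g⁻¹ * (g * y * g⁻¹) * (g * z * g⁻¹)⁻¹ = g * (z * y) * z⁻¹ * g⁻¹ := by group
      _ = g * (y * z) * z⁻¹ * g⁻¹ := by rw [h1]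
      _ = g * y * g⁻¹ := by group
  have hYO : ∀ y ∈ Y e, g * y * g⁻¹ ∈ O e := fun y hy => H.O_conj hge (H.YO he hy)
  -- enough: `v` acts on `Y e` by inversion
  have fin : ∀ s ∈ L, ∀ k ∈ centralizer (L : Set G), (v = s * k ∨ v = e * (s * k)) → IsS L e s → False := by
    intro s hs k hk hvk hsS
    apply H.nK2 he hge
    intro y hy
    obtain ⟨y', hy', k', hk', hyk⟩ := H.core' he (hYO y hy)
    have h1 : s * y' * s⁻¹ = y'⁻¹ := H.inv he s hsS y' hy'
    have h2 : v * y' * v⁻¹ = y'⁻¹ := by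
      have h3 : k * y' * k⁻¹ = y' := by
        rw [← comm_of_mem (H.YL he hy') hk]; group
      have h4 : e * y'⁻¹ * e⁻¹ = y'⁻¹ := by
        rw [← H.Oc he _ (inv_mem (H.YO he hy'))]; group
      rcases hvk with hvk | hvk
      · rw [hvk]
        calc s * k * y' * (s * k)⁻¹ = s * (k * y' * k⁻¹) * s⁻¹ := by group
          _ = y'⁻¹ := by rw [h3, h1]
      · rw [hvk]
        calc e * (s * k) * y' * (e * (s * k))⁻¹ = e * (s * (k * y' * k⁻¹) * s⁻¹) * e⁻¹ := by group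
          _ = y'⁻¹ := by rw [h3, h1, h4]
    have h5 := hvY y hy
    rw [hyk] at h5
    have h6 : y'⁻¹ * (v * k' * v⁻¹) = y' * k' := by
      rw [← h2]
      calc v * y' * v⁻¹ * (v * k' * v⁻¹) = v * (y' * k') * v⁻¹ := by group
        _ = y' * k' := h5
    have h7 := (H.uniq (inv_mem (H.YL he hy')) (K_conj (hvd ▸ hv) hk') (H.YL he hy') hk' h6).1
    have h8 : y' = 1 := H.eq_one_of_sq he hy' (by
      nth_rw 1 [← h7]
      group)
    rw [hyk, h8, one_mul]
    exact hk'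
  have hee := H.mem he
  have hsq := H.sq he
  have h0 : (∃ l ∈ L, l * v ∈ centralizer (L : Set G)) ∨ ∃ l ∈ L, l * e * v ∈ centralizer (L : Set G) := by
    by_contra h
    push Not at h
    rw [← hvd] at hW
    exact hW ⟨hvd ▸ hv, hve, hvv, h.1, h.2⟩
  rcases h0 with ⟨l, hl, hk⟩ | ⟨l, hl, hk⟩
  · obtain ⟨k, hkd⟩ : ∃ k, k = l * v := ⟨_, rfl⟩
    rw [← hkd] at hk
    have hv' : v = l⁻¹ * k := by rw [hkd]; group
    have h1 : e * l⁻¹ * e⁻¹ * (e * k * e⁻¹) = l⁻¹ * k := by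
      calc e * l⁻¹ * e⁻¹ * (e * k * e⁻¹) = e * (l⁻¹ * k) * e⁻¹ := by group
        _ = e * v * e⁻¹ := by rw [hv']
        _ = l⁻¹ * k := by rw [← hve, hv']; group
    obtain ⟨h2, h3⟩ := H.uniq (L_conj hee (inv_mem hl)) (K_conj hee hk) (inv_mem hl) hk h1
    have h4 : l⁻¹ * l⁻¹ * (k * k) = 1 * 1 := by
      rw [hv'] at hvv
      calc l⁻¹ * l⁻¹ * (k * k) = l⁻¹ * (l⁻¹ * k) * k := by group
        _ = l⁻¹ * (k * l⁻¹) * k := by rw [comm_of_mem (inv_mem hl) hk]
        _ = l⁻¹ * k * (l⁻¹ * k) := by group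
        _ = 1 * 1 := by rw [hvv, one_mul]
    obtain ⟨h5, -⟩ := H.uniq (mul_mem (inv_mem hl) (inv_mem hl)) (mul_mem hk hk) (one_mem _)
      (one_mem _) h4
    refine fin l⁻¹ (inv_mem hl) k hk (Or.inl hv') ⟨inv_mem hl, ?_, h5, ?_⟩
    · calc l⁻¹ * e = (e * l⁻¹ * e⁻¹) * e := by rw [h2]
        _ = e * l⁻¹ := by group
    · intro h6
      apply hvK
      rw [hv', h6, one_mul]
      exact hk
  · obtain ⟨k, hkd⟩ : ∃ k, k = l * e * v := ⟨_, rfl⟩
    rw [← hkd] at hk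
    have hei : e⁻¹ = e := inv_eq_of_mul_eq_one_left hsq
    have hv' : e * v = l⁻¹ * k := by rw [hkd]; group
    have hv2 : v = e * (l⁻¹ * k) := by rw [← hv', ← mul_assoc, hsq, one_mul]
    have hvve : (e * v) * (e * v) = 1 := by
      calc (e * v) * (e * v) = e * (v * e) * v := by group
        _ = (e * e) * (v * v) := by rw [hve]; group
        _ = 1 := by rw [hsq, hvv, one_mul]
    have h1 : e * l⁻¹ * e⁻¹ * (e * k * e⁻¹) = l⁻¹ * k := by
      calc e * l⁻¹ * e⁻¹ * (e * k * e⁻¹) = e * (l⁻¹ * k) * e⁻¹ := by group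
        _ = e * (e * v) * e⁻¹ := by rw [hv']
        _ = e * (v * e) * e⁻¹ := by rw [hve]
        _ = e * v := by group
        _ = l⁻¹ * k := hv'
    obtain ⟨h2, h3⟩ := H.uniq (L_conj hee (inv_mem hl)) (K_conj hee hk) (inv_mem hl) hk h1
    have h4 : l⁻¹ * l⁻¹ * (k * k) = 1 * 1 := by
      rw [hv'] at hvve
      calc l⁻¹ * l⁻¹ * (k * k) = l⁻¹ * (l⁻¹ * k) * k := by group
        _ = l⁻¹ * (k * l⁻¹) * k := by rw [comm_of_mem (inv_mem hl) hk]
        _ = l⁻¹ * k * (l⁻¹ * k) := by group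
        _ = 1 * 1 := by rw [hvve, one_mul]
    obtain ⟨h5, h5'⟩ := H.uniq (mul_mem (inv_mem hl) (inv_mem hl)) (mul_mem hk hk) (one_mem _)
      (one_mem _) h4
    have hle : l⁻¹ * e = e * l⁻¹ := by
      calc l⁻¹ * e = (e * l⁻¹ * e⁻¹) * e := by rw [h2]
        _ = e * l⁻¹ := by group
    have hke : k * e = e * k := by
      calc k * e = (e * k * e⁻¹) * e := by rw [h3]
        _ = e * k := by group
    by_cases hl1 : l⁻¹ = 1
    · -- `v = ek`
      rw [hl1, one_mul] at hv' hv2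
      have hk1 : k ≠ 1 := by
        intro h
        rw [h, mul_one] at hv2
        have h6 : z = e := by
          calc z = g⁻¹ * (g * z * g⁻¹) * g := by group
            _ = g⁻¹ * (e * g) := by rw [← hvd, hv2]; group
            _ = e := by rw [← hge]; group
        exact H.e_ne he (h6 ▸ hz.mem)
      have hT : IsT L e k := ⟨hk, hke, h5', hk1⟩
      apply H.nK2 he hge
      intro y hy
      apply H.fin he k hT
      have h7 := H.Ocj g (e * z) y (H.YO (H.Bt he z hz) (H.Yt he z hz hy))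
      have h8 : g * (e * z) * g⁻¹ = k := by
        calc g * (e * z) * g⁻¹ = (g * e) * z * g⁻¹ := by group
          _ = e * (g * z * g⁻¹) := by rw [hge]; group
          _ = k := by rw [← hvd, hv']
      rwa [h8] at h7
    · exact fin l⁻¹ (inv_mem hl) k hk (Or.inr hv2) ⟨inv_mem hl, hle, h5, hl1⟩

/-- (B): `z ∈ C_K(e)`, `g ∈ C(e)`, `z^g ∈ N(L)` imply `g ∈ N(L)` -/
theorem fus [Finite G] {e z g : G} (he : B e) (hz : IsT L e z) (hge : g * e = e * g)
    (hv : g * z * g⁻¹ ∈ normalizer (L : Set G)) : g ∈ normalizer (L : Set G) := by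
  by_contra hg
  have hW := H.wild_of he hz hge hv hg
  obtain ⟨v, hvd⟩ : ∃ v, v = g * z * g⁻¹ := ⟨_, rfl⟩
  rw [← hvd] at hW
  have hgi := inv_comm hge
  -- `v` centralises the conjugate of `Y e`
  have hvY : ∀ y ∈ Y e, v * (g * y * g⁻¹) * v⁻¹ = g * y * g⁻¹ := by
    intro y hy
    have h1 := comm_of_mem (H.YL he hy) hz.mem
    rw [hvd]
    calc g * z * g⁻¹ * (g * y * g⁻¹) * (g * z * g⁻¹)⁻¹ = g * (z * y) * z⁻¹ * g⁻¹ := by group
      _ = g * (y * z) * z⁻¹ * g⁻¹ := by rw [h1]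
      _ = g * y * g⁻¹ := by group
  -- the element `y₀`
  obtain ⟨y, hy, hyK⟩ : ∃ y ∈ Y e, g * y * g⁻¹ ∉ centralizer (L : Set G) := by
    by_contra h
    push Not at h
    exact H.nK2 he hge h
  obtain ⟨y0, hy0, d, hd, hyd⟩ := H.core' he (H.O_conj hge (H.YO he hy))
  have hy01 : y0 ≠ 1 := by
    rintro rfl
    rw [one_mul] at hyd
    exact hyK (hyd ▸ hd)
  have hy0v : y0 * v = v * y0 := by
    have h5 := hvY y hy
    rw [hyd] at h5
    have h6 : v * y0 * v⁻¹ * (v * d * v⁻¹) = y0 * d := by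
      calc v * y0 * v⁻¹ * (v * d * v⁻¹) = v * (y0 * d) * v⁻¹ := by group
        _ = y0 * d := h5
    have h7 := (H.uniq (L_conj hW.mem (H.YL he hy0)) (K_conj hW.mem hd) (H.YL he hy0) hd h6).1
    calc y0 * v = (v * y0 * v⁻¹) * v := by rw [h7]
      _ = v * y0 := by group
  obtain ⟨b, hb, hbS⟩ := H.wfix he v hW
  have hbv := H.wcomm he v hW b hb
  -- `c = b^{g⁻¹}`
  have hcz : ∀ j, j * v = v * j → g⁻¹ * j * g * z = z * (g⁻¹ * j * g) := by
    intro j hj
    calc g⁻¹ * j * g * z = g⁻¹ * (j * (g * z * g⁻¹)) * g := by group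
      _ = g⁻¹ * (g * z * g⁻¹ * j) * g := by rw [← hvd, hj]
      _ = z * (g⁻¹ * j * g) := by group
  have hce : g⁻¹ * b * g * e = e * (g⁻¹ * b * g) := by
    have h1 := cj_comm hgi hbS.comm
    rwa [inv_inv] at h1
  have hcM : g⁻¹ * b * g ∈ normalizer (L : Set G) := H.cte he hz (hcz b hbv) hce
  have hcY := H.Yn he _ hcM hce y hy
  -- `y₀² ∈ L^g`
  have ha : g⁻¹ * (y0 * y0) * g ∈ L := by
    have h1 : b * d * b⁻¹ = d := by rw [comm_of_mem hbS.mem hd]; group
    have h2 : b * y0⁻¹ * b⁻¹ = y0 := by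
      have h3 := H.inv he b hbS y0 hy0
      calc b * y0⁻¹ * b⁻¹ = (b * y0 * b⁻¹)⁻¹ := by group
        _ = y0 := by rw [h3, inv_inv]
    have h3 : y0 * y0 = (g * y * g⁻¹) * (b * (g * y * g⁻¹) * b⁻¹)⁻¹ := by
      rw [hyd]
      calc y0 * y0 = y0 * d * (b * d * b⁻¹)⁻¹ * y0 := by rw [h1]; group
        _ = y0 * d * (b * d * b⁻¹)⁻¹ * (b * y0⁻¹ * b⁻¹) := by rw [h2]
        _ = y0 * d * (b * (y0 * d) * b⁻¹)⁻¹ := by group
    have h4 : g⁻¹ * (y0 * y0) * g = y * (g⁻¹ * b * g * y * (g⁻¹ * b * g)⁻¹)⁻¹ := by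
      rw [h3]; group
    rw [h4]
    exact H.YL he (mul_mem hy (inv_mem hcY))
  have haJ : y0 * y0 ∈ J v := mul_mem (H.wmem he v hW y0 hy0 hy0v) (H.wmem he v hW y0 hy0 hy0v)
  have ha1 : y0 * y0 ≠ 1 := fun h => hy01 (H.eq_one_of_sq he hy0 h)
  -- `J v ≤ L^g`
  obtain ⟨J0, hJ0⟩ : ∃ J0, J0 = J v ⊓ L.comap (MulAut.conj g⁻¹).toMonoidHom := ⟨_, rfl⟩
  have hm0 : ∀ x, x ∈ J0 ↔ x ∈ J v ∧ g⁻¹ * x * g ∈ L := by
    intro x
    rw [hJ0, mem_inf, mem_comap, MulEquiv.coe_toMonoidHom, MulAut.conj_apply, inv_inv]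
  have haJ0 : y0 * y0 ∈ J0 := (hm0 _).mpr ⟨haJ, ha⟩
  have hgen : ∀ j ∈ J v, ∀ n ∈ J0, j * n * j⁻¹ ∈ normalizer (J0 : Set G) := by
    intro j hj n hn
    apply mem_normalizer_of
    intro m hm
    obtain ⟨hnJ, hnL⟩ := (hm0 n).mp hn
    obtain ⟨hmJ, hmL⟩ := (hm0 m).mp hm
    rcases H.cmp he z hz (g⁻¹ * j * g) (hcz j (H.wcomm he v hW j hj)) with h | h
    · have h1 : j * n * j⁻¹ ∈ J0 := by
        rw [hm0]
        refine ⟨mul_mem (mul_mem hj hnJ) (inv_mem hj), ?_⟩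
        have h2 := h _ hnL
        have h3 : g⁻¹ * j * g * (g⁻¹ * n * g) * (g⁻¹ * j * g)⁻¹ = g⁻¹ * (j * n * j⁻¹) * g := by group
        rwa [h3] at h2
      exact mul_mem (mul_mem h1 hm) (inv_mem h1)
    · have h2 := h _ hnL
      have h3 : g⁻¹ * j * g * (g⁻¹ * n * g) * (g⁻¹ * j * g)⁻¹ = g⁻¹ * (j * n * j⁻¹) * g := by group
      rw [h3] at h2
      have h4 := comm_of_mem hmL h2
      have h5 : j * n * j⁻¹ * m * (j * n * j⁻¹)⁻¹ = m := by
        calc j * n * j⁻¹ * m * (j * n * j⁻¹)⁻¹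
            = g * ((g⁻¹ * (j * n * j⁻¹) * g) * (g⁻¹ * m * g)) * g⁻¹ * (j * n * j⁻¹)⁻¹ := by group
          _ = g * ((g⁻¹ * m * g) * (g⁻¹ * (j * n * j⁻¹) * g)) * g⁻¹ * (j * n * j⁻¹)⁻¹ := by rw [h4]
          _ = m := by group
      rw [h5]
      exact hm
  obtain ⟨N, hN⟩ : ∃ N, N = closure {x | ∃ j ∈ J v, ∃ n ∈ J0, x = j * n * j⁻¹} := ⟨_, rfl⟩
  have hNJ : N ≤ J v := by
    rw [hN, closure_le]
    rintro x ⟨j, hj, n, hn, rfl⟩
    exact mul_mem (mul_mem hj ((hm0 n).mp hn).1) (inv_mem hj)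
  have hNn : N ≤ normalizer (J0 : Set G) := by
    rw [hN, closure_le]
    rintro x ⟨j, hj, n, hn, rfl⟩
    exact hgen j hj n hn
  have hNc : ∀ l ∈ J v, ∀ n ∈ N, l * n * l⁻¹ ∈ N := by
    intro l hl n hn
    rw [hN] at hn ⊢
    induction hn using closure_induction with
    | mem x hx =>
      obtain ⟨j, hj, n, hn, rfl⟩ := hx
      apply Subgroup.subset_closure
      exact ⟨l * j, mul_mem hl hj, n, hn, by group⟩
    | one => simp
    | mul a b _ _ ha hb =>
      have : l * (a * b) * l⁻¹ = (l * a * l⁻¹) * (l * b * l⁻¹) := by group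
      rw [this]; exact mul_mem ha hb
    | inv a _ ha =>
      have : l * a⁻¹ * l⁻¹ = (l * a * l⁻¹)⁻¹ := by group
      rw [this]; exact inv_mem ha
  have haN : y0 * y0 ∈ N := by
    rw [hN]
    exact Subgroup.subset_closure ⟨1, one_mem _, _, haJ0, by group⟩
  have hNe : N = J v := by
    rcases H.wsimp he v hW N hNJ hNc with h | h
    · rw [h, mem_bot] at haN
      exact absurd haN ha1
    · exact h
  have hJe : J0 = J v := by
    rcases H.wsimp he v hW J0 (fun x hx => ((hm0 x).mp hx).1) (by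
      intro l hl n hn
      have h1 : l ∈ normalizer (J0 : Set G) := hNn (by rw [hNe]; exact hl)
      exact (mem_normalizer_iff.mp h1 n).mp hn) with h | h
    · rw [h, mem_bot] at haJ0
      exact absurd haJ0 ha1
    · exact h
  have hbL : g⁻¹ * b * g ∈ L := by
    rw [← hJe, hm0] at hb
    exact hb.2
  have hS' : IsS L e (g⁻¹ * b * g) := ⟨hbL, hce, by
    calc g⁻¹ * b * g * (g⁻¹ * b * g) = g⁻¹ * (b * b) * g := by group
      _ = 1 := by rw [hbS.sq]; group, by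
    intro h
    apply hbS.ne
    calc b = g * (g⁻¹ * b * g) * g⁻¹ := by group
      _ = 1 := by rw [h]; group⟩
  apply hg
  have h1 := H.NY he g⁻¹ (fun y hy => H.Y_conj he hbS hS' hgi (by rw [inv_inv]) hy)
  have h2 := inv_mem h1
  rwa [inv_inv] at h2

/-- `C(e) ≤ N(L)` -/
theorem main [Finite G] {e : G} (he : B e) {c : G} (hc : c * e = e * c) : c ∈ normalizer (L : Set G) := by
  obtain ⟨g, hgd⟩ : ∃ g, g = c := ⟨_, rfl⟩
  rw [← hgd] at hc ⊢
  by_contra hg
  have hee := H.mem he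
  obtain ⟨t0, u0, hz, hu0, hne0, htu0⟩ := H.four he
  obtain ⟨z, hzd⟩ : ∃ z, z = t0 := ⟨_, rfl⟩
  have hz' : IsT L e z := hzd ▸ hz
  obtain ⟨s, hs⟩ := H.exS he
  have hsM : s ∈ normalizer (L : Set G) := L_le_M hs.mem
  obtain ⟨v, hvd⟩ : ∃ v, v = g * z * g⁻¹ := ⟨_, rfl⟩
  have hve : v * e = e * v := by rw [hvd]; exact cj_comm hc hz'.comm
  have hvv : v * v = 1 := by
    rw [hvd]
    calc g * z * g⁻¹ * (g * z * g⁻¹) = g * (z * z) * g⁻¹ := by group
      _ = 1 := by rw [hz'.sq]; group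
  have hvM : v ∉ normalizer (L : Set G) := fun h => hg (H.fus he hz' hc (hvd ▸ h))
  have hmem : ∀ {x : G}, x * e = e * x → x ∈ centralizer ({e} : Set G) :=
    fun h => mem_centralizer_singleton_iff.mpr h
  have hmem' : ∀ {x : G}, x ∈ centralizer ({e} : Set G) → x * e = e * x :=
    fun h => mem_centralizer_singleton_iff.mp h
  -- an element of `C_K(e)` conjugate to `z` under `C(e)`
  have hfus : ∀ h : G, h * e = e * h → ∀ z', IsT L e z' → h * z' * h⁻¹ ∈ normalizer (L : Set G) →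
      h * z' * h⁻¹ ∈ centralizer (L : Set G) := fun h hh z' hz'' hm =>
    K_conj (H.fus he hz'' hh hm) hz''.mem
  have hei := inv_comm hc
  rcases dih hs.sq hvv (hmem hs.comm) (hmem hve) with ⟨d, hd, hdv⟩ | ⟨u, huH, huu, hu1, hus, huv, d, hdH, hdu, hd⟩
  · -- `s` is conjugate to `z` in `C(e)`
    have hde := hmem' hd
    have h1 : (d⁻¹ * g) * e = e * (d⁻¹ * g) := by
      calc (d⁻¹ * g) * e = d⁻¹ * (g * e) := by group
        _ = (d⁻¹ * e) * g := by rw [hc]; group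
        _ = e * (d⁻¹ * g) := by rw [inv_comm hde]; group
    have h2 : (d⁻¹ * g) * z * (d⁻¹ * g)⁻¹ = s := by
      calc (d⁻¹ * g) * z * (d⁻¹ * g)⁻¹ = d⁻¹ * (g * z * g⁻¹) * d := by group
        _ = d⁻¹ * (d * s * d⁻¹) * d := by rw [← hvd, hdv]
        _ = s := by group
    have h3 := hfus _ h1 z hz' (by rw [h2]; exact hsM)
    rw [h2] at h3
    exact hs.ne (H.disj _ hs.mem h3)
  have hue := hmem' huH
  have hde := hmem' hdH
  have huM : u ∈ normalizer (L : Set G) := H.ces he hs hue hus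
  -- `u` is not in the conjugate of `K`
  have hnF : g⁻¹ * u * g ∉ centralizer (L : Set G) := by
    intro h
    have h1 : IsT L e (g⁻¹ * u * g) := ⟨h, by
      have h2 := cj_comm hei hue
      rwa [inv_inv] at h2, by
      calc g⁻¹ * u * g * (g⁻¹ * u * g) = g⁻¹ * (u * u) * g := by group
        _ = 1 := by rw [huu]; group, by
      intro h2
      apply hu1
      calc u = g * (g⁻¹ * u * g) * g⁻¹ := by group
        _ = 1 := by rw [h2]; group⟩
    apply hg
    apply H.fus he h1 hc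
    have h2 : g * (g⁻¹ * u * g) * g⁻¹ = u := by group
    rw [h2]; exact huM
  rcases hd with hd | hd
  · -- `v^d = uv`
    obtain ⟨h, hhd⟩ : ∃ h, h = g⁻¹ * d * g := ⟨_, rfl⟩
    have h1 : h * e = e * h := by
      rw [hhd]
      have h2 := cj_comm hei hde
      rwa [inv_inv] at h2
    have h2 : h * z * h⁻¹ = g⁻¹ * (u * v) * g := by
      rw [← hd, hhd, hvd]; group
    have h3 : h * z * h⁻¹ ∈ normalizer (L : Set G) := by
      refine H.cte he hz' ?_ (cj_comm h1 hz'.comm)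
      rw [h2]
      have h4 : u * v * v = v * (u * v) := (congrArg (· * v) huv).trans (mul_assoc v u v)
      calc g⁻¹ * (u * v) * g * z = g⁻¹ * (u * v * (g * z * g⁻¹)) * g := by group
        _ = g⁻¹ * (v * (u * v)) * g := by rw [← hvd, h4]
        _ = z * (g⁻¹ * (u * v) * g) := by rw [hvd]; group
    have h4 := hfus h h1 z hz' h3
    rw [h2] at h4
    apply hnF
    have h5 : g⁻¹ * u * g = g⁻¹ * (u * v) * g * z⁻¹ := by
      rw [hvd]; group
    rw [h5]
    exact mul_mem h4 (inv_mem hz'.mem)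
  · -- `v^d = su =: r'`
    obtain ⟨r, hrd⟩ : ∃ r, r = s * u := ⟨_, rfl⟩
    rw [← hrd] at hd
    have h1 : (d * g) * e = e * (d * g) := by
      calc (d * g) * e = d * (g * e) := by group
        _ = (d * e) * g := by rw [hc]; group
        _ = e * (d * g) := by rw [hde]; group
    have h2 : (d * g) * z * (d * g)⁻¹ = r := by
      calc (d * g) * z * (d * g)⁻¹ = d * (g * z * g⁻¹) * d⁻¹ := by group
        _ = r := by rw [← hvd, hd]
    have hrM : r ∈ normalizer (L : Set G) := by rw [hrd]; exact mul_mem hsM huM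
    have hrK : r ∈ centralizer (L : Set G) := by
      have h3 := hfus _ h1 z hz' (by rw [h2]; exact hrM)
      rwa [h2] at h3
    have hre : r * e = e * r := by
      rw [hrd]
      calc s * u * e = s * (u * e) := by group
        _ = (s * e) * u := by rw [hue]; group
        _ = e * (s * u) := by rw [hs.comm]; group
    have hrr : r * r = 1 := by
      rw [hrd]
      calc s * u * (s * u) = s * (u * s) * u := by group
        _ = (s * s) * (u * u) := by rw [hus]; group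
        _ = 1 := by rw [hs.sq, huu, one_mul]
    have hr1 : r ≠ 1 := by
      intro h
      have h3 : v = 1 := by
        calc v = d⁻¹ * (d * v * d⁻¹) * d := by group
          _ = 1 := by rw [hd, h]; group
      exact hvM (h3 ▸ one_mem _)
    have hrT : IsT L e r := ⟨hrK, hre, hrr, hr1⟩
    have hsr : u = s * r := by rw [hrd, ← mul_assoc, hs.sq, one_mul]
    have hru : r * u = u * r := by
      rw [hrd]
      calc s * u * u = u * s * u := by rw [hus]
        _ = u * (s * u) := by group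
    -- `C := C(e, u)`
    have hmC : ∀ {x : G}, x * e = e * x → x * u = u * x →
        x ∈ centralizer ({e} : Set G) ⊓ centralizer ({u} : Set G) := fun h1 h2 =>
      ⟨mem_centralizer_singleton_iff.mpr h1, mem_centralizer_singleton_iff.mpr h2⟩
    rcases Cfsg.Agent.UGT.SL.zstar_sub (X := centralizer ({e} : Set G) ⊓ centralizer ({u} : Set G)) (hmC hre hru)
      hrr hr1 with ⟨h, hh, hne, hcomm⟩ | ⟨N, hNX, hNodd, hNn, hNc⟩
    · have hhe := mem_centralizer_singleton_iff.mp hh.1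
      have hhu := mem_centralizer_singleton_iff.mp hh.2
      have h3 : h * r * h⁻¹ ∈ normalizer (L : Set G) := H.cte he hrT hcomm.symm (cj_comm hhe hre)
      have hhM := H.fus he hrT hhe h3
      have h4 := hfus h hhe r hrT h3
      have h5 : h * s * h⁻¹ * (h * r * h⁻¹) = s * r := by
        calc h * s * h⁻¹ * (h * r * h⁻¹) = h * (s * r) * h⁻¹ := by group
          _ = u := by rw [← hsr, hhu]; group
          _ = s * r := hsr
      exact hne (H.uniq (L_conj hhM hs.mem) h4 hs.mem hrK h5).2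
    · -- `N ≤ M`
      obtain ⟨x, hx, y, hy, hxx, hyy, hxy, hx1, hy1, hxy1, hkx, hky⟩ := exists_four_commute'
        (K := centralizer (L : Set G) ⊓ centralizer ({e} : Set G)) (k := r)
        ⟨hz.mem, hmem hz.comm⟩ ⟨hu0.mem, hmem hu0.comm⟩ hz.sq hu0.sq htu0 hz.ne hu0.ne hne0
        ⟨hrK, hmem hre⟩ hrr
      have hxT : IsT L e x := ⟨hx.1, hmem' hx.2, hxx, hx1⟩
      have hyT : IsT L e y := ⟨hy.1, hmem' hy.2, hyy, hy1⟩
      have hxyT := isT_mul hxT hyT hxy1 hxy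
      have hcu : ∀ f, IsT L e f → r * f = f * r → f ∈ centralizer ({e} : Set G) ⊓ centralizer ({u} : Set G) := by
        intro f hf hrf
        apply hmC hf.comm
        have h3 := comm_of_mem hs.mem hf.mem
        rw [hsr]
        calc f * (s * r) = (s * f) * r := by rw [h3]; group
          _ = s * r * f := by rw [mul_assoc, ← hrf]; group
      have hNM : N ≤ normalizer (L : Set G) := by
        refine Cfsg.Agent.Lib.KleinGen.le_of_klein N _ hNodd x y hxx hyy hxy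
          (fun a ha => hNn x (hcu x hxT hkx) a ha) (fun a ha => hNn y (hcu y hyT hky) a ha) ?_ ?_ ?_
        · intro c hc
          exact H.cte he hxT (mem_centralizer_singleton_iff.mp hc.2) (mem_centralizer_singleton_iff.mp (hNX hc.1).1)
        · intro c hc
          exact H.cte he hyT (mem_centralizer_singleton_iff.mp hc.2) (mem_centralizer_singleton_iff.mp (hNX hc.1).1)
        · intro c hc
          exact H.cte he hxyT (mem_centralizer_singleton_iff.mp hc.2)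
            (mem_centralizer_singleton_iff.mp (hNX hc.1).1)
      have hdC : d⁻¹ ∈ centralizer ({e} : Set G) ⊓ centralizer ({u} : Set G) :=
        inv_mem (hmC hde hdu)
      have h3 := hNM (hNc d⁻¹ hdC)
      have h4 : v = r⁻¹ * (r * d⁻¹ * r⁻¹ * d⁻¹⁻¹) := by
        have hri : r⁻¹ = r := inv_eq_of_mul_eq_one_left hrr
        have h5 : v = d⁻¹ * r * d := by rw [← hd]; group
        rw [h5]
        calc d⁻¹ * r * d = d⁻¹ * r⁻¹ * d := by rw [hri]
          _ = r⁻¹ * (r * d⁻¹ * r⁻¹ * d⁻¹⁻¹) := by group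
      apply hvM
      rw [h4]
      exact mul_mem (inv_mem hrM) h3

end PConf

end Cfsg.Agent.UGT.CE
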