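import Cfsg.Agent.UGT.CE.Pair
import Cfsg.Agent.UGT.CE.L34

/-!
# `C(e) ≤ N(L)` for bad involutions `e`, paired version: `L = L₃(4)`
-/

set_option autoImplicit false

open Subgroup

namespace Cfsg.Agent.UGT.CE.L34

open Cfsg.Agent.UGT.ThE.Base (IsT IsS comm_of_mem L_conj L_conj' K_le_M L_le_M K_conj K_conj' exists_central)
open Cfsg.Agent.UGT.CE.Base
open Cfsg.Agent.UGT.ThEL34 (Acts Facts Facts2 fx mem_fx exists_acts acts_one_iff acts_coe acts_of_mem acts_one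
  acts_norm exists_hom)

universe u

variable {G : Type u} [Group G]

/-- the image in `Aut L` of a perfect subgroup -/
theorem image_perfect' {L : Subgroup G} {Q : Subgroup G} (hQ : Q ≤ normalizer (L : Set G)) (hp : Q ≤ ⁅Q, Q⁆) :
    ∃ R : Subgroup (MulAut L), R ≤ ⁅R, R⁆ ∧ (∀ q ∈ Q, ∀ a, Acts L q a → a ∈ R) ∧
      ∀ a ∈ R, ∃ q ∈ Q, Acts L q a := by
  obtain ⟨f, hf⟩ : ∃ f : Q →* MulAut L, ∀ q : Q, Acts L (q : G) (f q) :=
    ⟨L.normalizerMonoidHom.comp (inclusion hQ), fun q => acts_norm _⟩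
  refine ⟨f.range, ?_, ?_, ?_⟩
  · rw [MonoidHom.range_eq_map, ← map_commutator]
    apply map_mono
    rw [← map_le_map_iff_of_injective Q.subtype_injective, map_commutator, ← MonoidHom.range_eq_map,
      range_subtype]
    exact hp
  · intro q hq a ha
    exact ⟨⟨q, hq⟩, (hf _).uniq ha⟩
  · rintro _ ⟨q, rfl⟩
    exact ⟨q, q.2, hf q⟩

/-- The hypotheses in `G` (paired case). -/
structure PGrp (O : G → Subgroup G) (L : Subgroup G) (B : G → Prop) : Prop extends Grp0 O L B where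
  cY : ∀ {e}, B e → ∀ X : MulAut L, Acts L e X → Facts4 X
  Bcj : ∀ {e}, B e → ∀ l ∈ L, B (l * e * l⁻¹)
  Bt : ∀ {e}, B e → ∀ t, IsT L e t → B (e * t)
  four : ∀ {e}, B e → ∃ t u, IsT L e t ∧ IsT L e u ∧ t ≠ u ∧ t * u = u * t
  /-- `L` is the only component of its class of `C(t)` moved by `O(C(e))` -/
  uni : ∀ {e}, B e → ∀ z, IsT L e z → ∀ g, g * e = e * g → IsT L e (g * z * g⁻¹) →
    g ∈ normalizer (L : Set G)
  /-- `L` is a component of `C(t)` -/
  cmp : ∀ {e}, B e → ∀ t, IsT L e t → ∀ c, c * t = t * c →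
    (∀ l ∈ L, c * l * c⁻¹ ∈ L) ∨ ∀ l ∈ L, c * l * c⁻¹ ∈ centralizer (L : Set G)
  fin : ∀ {e}, B e → ∀ t, IsT L e t → O t ≤ centralizer (L : Set G)
  nc : ∀ {e}, B e → ∀ g, g * e = e * g → ¬ ∀ l ∈ L, g * l * g⁻¹ ∈ centralizer (L : Set G)
  /-- Theorem H -/
  NY : ∀ {e}, B e → ∀ c, (∀ y ∈ YY L e, c * y * c⁻¹ ∈ YY L e) → c ∈ normalizer (L : Set G)
  /-- `O(C_L(e)) ≤ O(C(e))` -/
  bad : ∀ {e}, B e → ∀ y ∈ L, y ^ 3 = 1 → y * e = e * y → y ∈ O e

namespace PGrp

variable {O : G → Subgroup G} {L : Subgroup G} {B : G → Prop} (H : PGrp O L B)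
include H

theorem perf {e : G} (he : B e) : L ≤ ⁅L, L⁆ := by
  obtain ⟨X, hX, F⟩ := H.facts he
  have hs := F.simp
  have h1 : commutator L = ⊤ := by
    rcases hs.eq_bot_or_eq_top_of_normal (commutator L) inferInstance with h | h
    · exfalso
      obtain ⟨s, hss, hs1, -⟩ := F.exs
      apply hs1
      apply F.cl
      ext m
      rw [MulAut.conj_apply, MulAut.one_apply]
      have h2 : s * m * s⁻¹ * m⁻¹ ∈ commutator L := by
        rw [_root_.commutator_def]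
        exact commutator_mem_commutator (mem_top s) (mem_top m)
      rw [h, mem_bot] at h2
      congr 1
      exact mul_inv_eq_one.mp h2
    · exact h
  have h2 : ⁅L, L⁆ = (commutator L).map L.subtype := (map_subtype_commutator L).symm
  rw [h2, h1, ← MonoidHom.range_eq_map, range_subtype]

theorem solY {e : G} (he : B e) (Q : Subgroup G) (hQ : Q ≤ normalizer (L : Set G))
    (hQY : ∀ x ∈ Q, ∀ y ∈ YY L e, x * y = y * x) (hp : Q ≤ ⁅Q, Q⁆) : Q ≤ centralizer (L : Set G) := by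
  obtain ⟨X, hX, F⟩ := H.facts he
  have F4 := H.cY he X hX
  obtain ⟨R, hR, hR1, hR2⟩ := image_perfect' hQ hp
  -- the elements of `R`
  have key : ∀ a ∈ R, ∃ l : L, a = MulAut.conj l ∧ l ^ 3 = 1 ∧ X l = l ∧
      ∀ y : L, y ^ 3 = 1 → X y = y → l * y = y * l := by
    intro a ha
    obtain ⟨q, hq, hqa⟩ := hR2 a ha
    obtain ⟨l, hl⟩ := F.out R hR a ha
    have h1 : ∀ y : L, y ^ 3 = 1 → X y = y → l * y = y * l := by
      intro y hy hXy
      have h2 : (y : G) ∈ YY L e := subset_closure ⟨y.2, congrArg Subtype.val hy, (fix_iff' hX y).mp hXy⟩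
      have h3 := (hqa.comm (acts_coe y) (hQY q hq y h2))
      rw [hl] at h3
      exact (F.conj_comm_iff l y).mp h3
    exact ⟨l, hl, (F4.cY l h1).1, (F4.cY l h1).2, h1⟩
  have hbot : R = ⊥ := by
    rw [eq_bot_iff]
    refine hR.trans ?_
    rw [commutator_le]
    intro a ha b hb
    obtain ⟨l, rfl, h1, h2, h3⟩ := key a ha
    obtain ⟨m, rfl, h4, h5, h6⟩ := key b hb
    rw [mem_bot, commutatorElement_def, ← map_mul, h3 m h4 h5, map_mul]
    group
  intro q hq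
  obtain ⟨a, ha⟩ := exists_acts (hQ hq)
  have h1 : a ∈ R := hR1 q hq a ha
  rw [hbot, mem_bot] at h1
  rw [h1] at ha
  exact acts_one_iff.mp ha

/-- The configuration of `PConf.main`. -/
theorem conf [Finite G] {e₀ : G} (he₀ : B e₀) : PConf O (YY L) (JJ L) L B where
  Ocj := H.Ocj
  Oc := H.Oc
  perf := H.perf he₀
  disj l hl hk := H.toGrp0.disj he₀ hl hk
  sq := H.sq
  mem he := by
    obtain ⟨X, hX, F⟩ := H.facts he
    exact hX.mem
  odd := H.odd
  Bcj := H.Bcj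
  Bt := H.Bt
  four := H.four
  uni := H.uni
  cmp := H.cmp
  fin := H.fin
  nc := H.nc
  NY := H.NY
  YL he y hy := by
    obtain ⟨X, hX, F⟩ := H.facts he
    exact ((mem_YY hX F.toFacts).mp hy).1
  YO he y hy := by
    obtain ⟨X, hX, F⟩ := H.facts he
    obtain ⟨h1, h2, h3⟩ := (mem_YY hX F.toFacts).mp hy
    exact H.bad he y h1 h2 h3
  Yt {e} he t ht y hy := by
    obtain ⟨X, hX, F⟩ := H.facts he
    obtain ⟨h1, h2, h3⟩ := (mem_YY hX F.toFacts).mp hy
    refine subset_closure ⟨h1, h2, ?_⟩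
    calc y * (e * t) = (y * e) * t := by group
      _ = e * (y * t) := by rw [h3]; group
      _ = e * t * y := by rw [comm_of_mem h1 ht.mem]; group
  Yn he c hcM hce y hy := by
    obtain ⟨X, hX, F⟩ := H.facts he
    obtain ⟨h1, h2, h3⟩ := (mem_YY hX F.toFacts).mp hy
    refine subset_closure ⟨L_conj hcM h1, ?_, cj_comm hce h3⟩
    rw [conj_pow, h2]
    group
  core := H.toGrp0.core
  exS := H.toGrp0.exS
  inv := H.toGrp0.inv
  cj := H.toGrp0.cj
  gen1 := H.toGrp0.gen1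
  solY := H.solY
  wcomm _ v _ j hj := (mem_JJ.mp hj).2
  wsimp := H.toGrp0.wsimp
  wfix := H.toGrp0.wfix
  wmem he v hv y hy hyv := by
    obtain ⟨X, hX, F⟩ := H.facts he
    exact mem_JJ.mpr ⟨((mem_YY hX F.toFacts).mp hy).1, hyv⟩

/-- `C(e) ≤ N(L)` for bad `e` -/
theorem main [Finite G] {e : G} (he : B e) {c : G} (hc : c * e = e * c) : c ∈ normalizer (L : Set G) :=
  (H.conf he).main he hc

end PGrp

end Cfsg.Agent.UGT.CE.L34
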