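import Cfsg.Agent.UGT.FL34.Extra
import Cfsg.Agent.S0242

/-!
# `C(e) ≤ N(L)` for bad involutions `e`, VI: computations in `PSL(3,4)`
-/

set_option autoImplicit false
set_option linter.constructorNameAsVariable false
set_option linter.unusedVariables false

namespace Cfsg.Agent.UGT.CE.L34

open Matrix
open Cfsg.Agent.SporadicA.FieldFour
open Cfsg.Agent.SporadicA.FieldFour.F4
open Cfsg.Agent.LThreeFour Cfsg.Agent.LThreeFour.Dat
open Cfsg.Agent.ONType.Psl (PSL3 SL3 T t tm)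
open Cfsg.Agent.ONType.OuterL (rv rv_ne rv_rv J Jm coe_J cj_J_T itr_T fld_T cj_eq_of charP_two
  neg_eq det_Jm)
open Cfsg.Agent.ClassicalGeometry.AutPSL.Root
open Cfsg.Agent.ClassicalGeometry.AutPSL.Auto
open Cfsg.Agent.UGT.ThEL34 (fx mem_fx)
open Cfsg.Agent.UGT.FL34

/-! ### Words -/

/-- `m` represents an element of `H` -/
def InH (H : Subgroup PSL3) (m : M3) : Prop := ∃ h : m.det = 1, pr (sl m h) ∈ H

theorem det_mul (m n : M3) : (M3.mul m n).det = m.det * n.det := by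
  rw [← M3.det_toM, M3.toM_mul, Matrix.det_mul, M3.det_toM, M3.det_toM]

theorem InH.mul {H : Subgroup PSL3} {m n : M3} (hm : InH H m) (hn : InH H n) : InH H (M3.mul m n) := by
  obtain ⟨h1, h2⟩ := hm
  obtain ⟨h3, h4⟩ := hn
  refine ⟨by rw [det_mul, h1, h3, one_mul], ?_⟩
  have h5 : sl (M3.mul m n) (by rw [det_mul, h1, h3, one_mul]) = sl m h1 * sl n h3 :=
    Subtype.ext (M3.toM_mul m n)
  rw [h5, map_mul]
  exact mul_mem h2 h4

/-- the identity matrix -/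
def m1 : M3 := ⟨.o, .z, .z, .z, .o, .z, .z, .z, .o⟩

theorem InH.one (H : Subgroup PSL3) : InH H m1 := by
  refine ⟨by decide, ?_⟩
  have h1 : pr (sl m1 (by decide)) = 1 := (pr_one_iff (m := m1) rfl).2 (by decide)
  rw [h1]
  exact one_mem H

/-- the product of a word -/
def wd {n : ℕ} (gs : Fin n → M3) (w : List (Fin n)) : M3 := w.foldr (fun i m => M3.mul (gs i) m) m1

theorem InH.wd {H : Subgroup PSL3} {n : ℕ} {gs : Fin n → M3} (h : ∀ i, InH H (gs i)) (w : List (Fin n)) :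
    InH H (wd gs w) := by
  induction w with
  | nil => exact InH.one H
  | cons i w ih => exact (h i).mul ih

theorem InH.sim {H : Subgroup PSL3} {m n : M3} (hm : InH H m) (h : sim m n = true) (hn : n.det = 1) :
    InH H n := by
  obtain ⟨h1, h2⟩ := hm
  refine ⟨hn, ?_⟩
  obtain ⟨c, hc⟩ := mem_sim h
  have h3 : pr (sl n hn) = pr (sl m h1) := by
    apply pr_eq_of_smul (c := c)
    show m.toM = c • n.toM
    rw [← M3.toM_smul, ← hc]
  rw [h3]
  exact h2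

/-- the matrix of `x_ij(u)` -/
def xm (i j : Fin 3) (u : F4) : M3 := M3.ofM (tm i j u)

theorem InH.t {H : Subgroup PSL3} {i j : Fin 3} {u : F4} (h : InH H (xm i j u)) : t i j u ∈ H := by
  obtain ⟨h1, h2⟩ := h
  have h3 : sl (xm i j u) h1 = T i j u := Subtype.ext (M3.toM_ofM _)
  rw [h3] at h2
  exact h2

theorem InH.of_t {H : Subgroup PSL3} {i j : Fin 3} {u : F4} (h : Cfsg.Agent.ONType.Psl.t i j u ∈ H) (h1 : (xm i j u).det = 1) :
    InH H (xm i j u) := by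
  refine ⟨h1, ?_⟩
  have h3 : sl (xm i j u) h1 = T i j u := Subtype.ext (M3.toM_ofM _)
  rw [h3]
  exact h

theorem det_xm : ∀ (i j : Fin 3) (u : F4), i ≠ j → (xm i j u).det = 1 := by decide +kernel

/-- the generators of `⟨SL(3,2), Y⟩` -/
def gf : Fin 7 → M3 := ![xm 0 1 1, xm 1 2 1, xm 0 2 1, xm 1 0 1, xm 2 1 1, xm 2 0 1, R2]

/-- the generators of `⟨SL(2,4), Y⟩` -/
def gg : Fin 5 → M3 := ![xm 0 2 1, xm 0 2 F4.w, xm 2 0 1, xm 2 0 F4.w, R2]

/-- the generators of `⟨Y, Y^p⟩` -/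
def gy : Fin 4 → M3 := ![R1, R2, M3.mul (M3.mul (xm 0 2 F4.w) R1) (xm 0 2 F4.w),
  M3.mul (M3.mul (xm 0 2 F4.w) R2) (xm 0 2 F4.w)]

theorem word_f : sim (wd gf [0, 3, 5, 6, 3, 6, 3]) (xm 0 2 F4.w) = true := by decide +kernel

theorem word_g : sim (wd gg [0, 2, 3, 4, 1, 3, 4, 1, 2]) (xm 0 1 1) = true ∧
    sim (wd gg [3, 4, 4, 1, 2, 1, 4, 3]) (xm 0 1 F4.w) = true ∧
    sim (wd gg [3, 4, 1, 2, 1, 4, 4, 3]) (xm 1 2 1) = true ∧
    sim (wd gg [3, 4, 1, 3, 1, 4, 4, 3]) (xm 1 2 F4.w) = true := by decide +kernel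

theorem word_y : sim (wd gy [0, 3, 0, 3, 0, 1, 2, 1]) (xm 0 1 1) = true ∧
    sim (wd gy [1, 2, 1, 3, 0, 3]) (xm 0 1 F4.w) = true ∧
    sim (wd gy [1, 2, 0, 3, 3, 0, 2, 1]) (xm 1 2 1) = true ∧
    sim (wd gy [1, 1, 2, 1, 2, 1, 1]) (xm 1 2 F4.w) = true ∧
    sim (wd gy [0, 2, 0, 0, 2, 2, 0, 2]) (xm 0 2 1) = true ∧
    sim (wd gy [0, 2, 0, 2, 0]) (xm 0 2 F4.w) = true ∧
    sim (wd gy [2, 0, 0, 2, 2, 0, 2]) (xm 2 0 1) = true := by decide +kernel

/-! ### Generation -/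

theorem inH_xm {H : Subgroup PSL3} {i j : Fin 3} {u : F4} (hij : i ≠ j)
    (h : Cfsg.Agent.ONType.Psl.t i j u ∈ H) : InH H (xm i j u) := InH.of_t h (det_xm i j u hij)

theorem det_R1 : R1.det = 1 := unit_det R1_unit

theorem det_R2 : R2.det = 1 := unit_det R2_unit

theorem t_mul (i j : Fin 3) (hij : i ≠ j) (u v : F4) : t i j u * t i j v = t i j (u + v) :=
  datPSL.x_add i j hij u v

theorem all_t {H : Subgroup PSL3} {i j : Fin 3} (hij : i ≠ j) (h1 : t i j 1 ∈ H) (h2 : t i j F4.w ∈ H)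
    (u : F4) : t i j u ∈ H := by
  have h0 : t i j 0 = 1 := datPSL.x_zero i j hij
  have h3 : ∀ u : F4, u = 0 ∨ u = 1 ∨ u = F4.w ∨ u = 1 + F4.w := by decide
  rcases h3 u with rfl | rfl | rfl | rfl
  · rw [h0]; exact one_mem H
  · exact h1
  · exact h2
  · rw [← t_mul i j hij]
    exact mul_mem h1 h2

/-- `⟨SL(3,2), Y⟩` -/
theorem field_gen {H : Subgroup PSL3} (h1 : ∀ i j : Fin 3, i ≠ j → t i j 1 ∈ H) (h2 : pr (sl R2 det_R2) ∈ H)
    (u : F4) : t 0 2 u ∈ H := by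
  have hg : ∀ i, InH H (gf i) := by
    intro i
    fin_cases i
    · exact inH_xm (by decide) (h1 0 1 (by decide))
    · exact inH_xm (by decide) (h1 1 2 (by decide))
    · exact inH_xm (by decide) (h1 0 2 (by decide))
    · exact inH_xm (by decide) (h1 1 0 (by decide))
    · exact inH_xm (by decide) (h1 2 1 (by decide))
    · exact inH_xm (by decide) (h1 2 0 (by decide))
    · exact ⟨det_R2, h2⟩
  exact all_t (by decide) (h1 0 2 (by decide))
    (InH.t (InH.sim (InH.wd hg _) word_f (det_xm _ _ _ (by decide)))) u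

/-- `⟨SL(2,4), Y⟩` -/
theorem graph_gen {H : Subgroup PSL3} (h1 : ∀ u, t 0 2 u ∈ H) (h1' : ∀ u, t 2 0 u ∈ H)
    (h2 : pr (sl R2 det_R2) ∈ H) (u : F4) : t 0 1 u ∈ H ∧ t 1 2 u ∈ H := by
  have hg : ∀ i, InH H (gg i) := by
    intro i
    fin_cases i
    · exact inH_xm (by decide) (h1 _)
    · exact inH_xm (by decide) (h1 _)
    · exact inH_xm (by decide) (h1' _)
    · exact inH_xm (by decide) (h1' _)
    · exact ⟨det_R2, h2⟩
  have hw : ∀ {i j : Fin 3} {u : F4} {w : List (Fin 5)}, i ≠ j → sim (wd gg w) (xm i j u) = true →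
      t i j u ∈ H := fun hij hw => InH.t (InH.sim (InH.wd hg _) hw (det_xm _ _ _ hij))
  obtain ⟨w1, w2, w3, w4⟩ := word_g
  exact ⟨all_t (by decide) (hw (by decide) w1) (hw (by decide) w2) u,
    all_t (by decide) (hw (by decide) w3) (hw (by decide) w4) u⟩

/-- `⟨Y, Y^p⟩`, `p = x_02(w)` -/
theorem y_gen {H : Subgroup PSL3} (h1 : pr (sl R1 det_R1) ∈ H) (h2 : pr (sl R2 det_R2) ∈ H)
    (h3 : t 0 2 F4.w * pr (sl R1 det_R1) * t 0 2 F4.w ∈ H)
    (h4 : t 0 2 F4.w * pr (sl R2 det_R2) * t 0 2 F4.w ∈ H) (u : F4) :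
    t 0 1 u ∈ H ∧ t 1 2 u ∈ H ∧ t 0 2 u ∈ H ∧ t 2 0 1 ∈ H := by
  have hp : (xm 0 2 F4.w).det = 1 := det_xm _ _ _ (by decide)
  have hps : sl (xm 0 2 F4.w) hp = T 0 2 F4.w := Subtype.ext (M3.toM_ofM _)
  have hP : ∀ (R : M3) (hR : R.det = 1), t 0 2 F4.w * pr (sl R hR) * t 0 2 F4.w ∈ H →
      InH H (M3.mul (M3.mul (xm 0 2 F4.w) R) (xm 0 2 F4.w)) := by
    intro R hR h
    refine ⟨by rw [det_mul, det_mul, hp, hR, one_mul, one_mul], ?_⟩
    have h5 : sl (M3.mul (M3.mul (xm 0 2 F4.w) R) (xm 0 2 F4.w))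
        (by rw [det_mul, det_mul, hp, hR, one_mul, one_mul]) =
        sl (xm 0 2 F4.w) hp * sl R hR * sl (xm 0 2 F4.w) hp :=
      Subtype.ext (by
        show (M3.mul (M3.mul (xm 0 2 F4.w) R) (xm 0 2 F4.w)).toM = _
        rw [M3.toM_mul, M3.toM_mul]; rfl)
    rw [h5, map_mul, map_mul, hps]
    exact h
  have hg : ∀ i, InH H (gy i) := by
    intro i
    fin_cases i
    · exact ⟨det_R1, h1⟩
    · exact ⟨det_R2, h2⟩
    · exact hP R1 det_R1 h3
    · exact hP R2 det_R2 h4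
  have hw : ∀ {i j : Fin 3} {u : F4} {w : List (Fin 4)}, i ≠ j → sim (wd gy w) (xm i j u) = true →
      t i j u ∈ H := fun hij hw => InH.t (InH.sim (InH.wd hg _) hw (det_xm _ _ _ hij))
  obtain ⟨w1, w2, w3, w4, w5, w6, w7⟩ := word_y
  exact ⟨all_t (by decide) (hw (by decide) w1) (hw (by decide) w2) u,
    all_t (by decide) (hw (by decide) w3) (hw (by decide) w4) u,
    all_t (by decide) (hw (by decide) w5) (hw (by decide) w6) u, hw (by decide) w7⟩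

/-! ### The involutions of `SL(3,2)` and `SL(2,4)` -/

/-- conjugating elements in `SL(3,2)` -/
def G21 : List M3 :=
  [⟨.z, .z, .o, .z, .o, .z, .o, .z, .z⟩,
   ⟨.z, .z, .o, .z, .o, .z, .o, .z, .o⟩,
   ⟨.z, .z, .o, .z, .o, .z, .o, .o, .z⟩,
   ⟨.z, .z, .o, .z, .o, .z, .o, .o, .o⟩,
   ⟨.z, .z, .o, .z, .o, .o, .o, .z, .z⟩,
   ⟨.z, .z, .o, .z, .o, .o, .o, .z, .o⟩,
   ⟨.z, .z, .o, .z, .o, .o, .o, .o, .z⟩,
   ⟨.z, .z, .o, .z, .o, .o, .o, .o, .o⟩,
   ⟨.z, .z, .o, .o, .z, .z, .z, .o, .z⟩,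
   ⟨.z, .z, .o, .o, .z, .z, .z, .o, .o⟩,
   ⟨.z, .z, .o, .o, .z, .o, .z, .o, .z⟩,
   ⟨.z, .z, .o, .o, .z, .o, .z, .o, .o⟩,
   ⟨.z, .o, .z, .z, .z, .o, .o, .z, .z⟩,
   ⟨.z, .o, .z, .z, .z, .o, .o, .z, .o⟩,
   ⟨.z, .o, .z, .z, .z, .o, .o, .o, .z⟩,
   ⟨.z, .o, .z, .z, .z, .o, .o, .o, .o⟩,
   ⟨.z, .o, .z, .o, .z, .z, .z, .z, .o⟩,
   ⟨.z, .o, .z, .o, .o, .z, .z, .z, .o⟩,
   ⟨.o, .z, .z, .z, .z, .o, .z, .o, .z⟩,
   ⟨.o, .z, .z, .z, .z, .o, .z, .o, .o⟩,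
   ⟨.o, .z, .z, .z, .o, .z, .z, .z, .o⟩]

/-- conjugating elements in `SL(2,4)` -/
def G15 : List M3 :=
  [⟨.z, .z, .o, .z, .o, .z, .o, .z, .z⟩,
   ⟨.z, .z, .o, .z, .o, .z, .o, .z, .o⟩,
   ⟨.z, .z, .o, .z, .o, .z, .o, .z, .w⟩,
   ⟨.z, .z, .o, .z, .o, .z, .o, .z, .v⟩,
   ⟨.z, .z, .w, .z, .o, .z, .v, .z, .z⟩,
   ⟨.z, .z, .w, .z, .o, .z, .v, .z, .o⟩,
   ⟨.z, .z, .w, .z, .o, .z, .v, .z, .w⟩,
   ⟨.z, .z, .w, .z, .o, .z, .v, .z, .v⟩,
   ⟨.z, .z, .v, .z, .o, .z, .w, .z, .z⟩,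
   ⟨.z, .z, .v, .z, .o, .z, .w, .z, .o⟩,
   ⟨.z, .z, .v, .z, .o, .z, .w, .z, .w⟩,
   ⟨.z, .z, .v, .z, .o, .z, .w, .z, .v⟩,
   ⟨.o, .z, .z, .z, .o, .z, .z, .z, .o⟩,
   ⟨.w, .z, .z, .z, .o, .z, .z, .z, .v⟩,
   ⟨.v, .z, .z, .z, .o, .z, .z, .z, .w⟩]

/-- quantification over the prime field -/
def allB (p : F4 → Bool) : Bool := p .z && p .o

theorem allB_iff {p : F4 → Bool} (h : allB p = true) {x : F4} (hx : x = .z ∨ x = .o) : p x = true := by
  unfold allB at h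
  rw [Bool.and_eq_true] at h
  rcases hx with rfl | rfl
  · exact h.1
  · exact h.2

/-- an involution `m` is conjugate to `x_02(1)` by an element of the list -/
def cjc (l : List M3) (m : M3) : Bool := !(eqb m.det .o) || (!(M3.isSc (M3.mul m m)) || (M3.isSc m ||
  exL (fun g => eqb g.det .o && sim (M3.mul g m) (M3.mul (xm 0 2 1) g)) l))

def chk21 : Bool := allB fun a => allB fun b => allB fun c => allB fun d => allB fun e => allB fun f =>
  allB fun g => allB fun h => allB fun i => cjc G21 ⟨a, b, c, d, e, f, g, h, i⟩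

def chk15 : Bool := allF fun a => allF fun b => allF fun c => allF fun d =>
  cjc G15 ⟨a, .z, b, .z, .o, .z, c, .z, d⟩

set_option maxRecDepth 100000 in
theorem chk21_eq : chk21 = true := by decide +kernel

set_option maxRecDepth 100000 in
theorem chk15_eq : chk15 = true := by decide +kernel

theorem conj_list {l : List M3} {m : M3} (hm : m.det = 1) (hc : cjc l m = true)
    (h2 : pr (sl m hm) * pr (sl m hm) = 1) (h1 : pr (sl m hm) ≠ 1) :
    ∃ g ∈ l, ∃ hg : g.det = 1, pr (sl g hg) * pr (sl m hm) * (pr (sl g hg))⁻¹ = t 0 2 1 := by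
  have e1 : M3.isSc (M3.mul m m) = true := by
    apply (pr_one_iff (M := sl m hm * sl m hm) (M3.toM_mul m m).symm).1
    rw [map_mul, h2]
  have e2 : M3.isSc m = false := by
    rw [Bool.eq_false_iff]
    intro h
    exact h1 ((pr_one_iff (M := sl m hm) rfl).2 h)
  have e3 : eqb m.det .o = true := (eqb_iff _ _).2 hm
  unfold cjc at hc
  rw [e1, e2, e3, Bool.not_true, Bool.false_or, Bool.false_or, Bool.false_or] at hc
  obtain ⟨g, hgl, hg⟩ := exL_iff hc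
  rw [Bool.and_eq_true, eqb_iff] at hg
  refine ⟨g, hgl, hg.1, ?_⟩
  obtain ⟨c, hc⟩ := mem_sim hg.2
  have e4 : pr (sl g hg.1) * pr (sl m hm) = t 0 2 1 * pr (sl g hg.1) := by
    have hx : sl (xm 0 2 1) (det_xm _ _ _ (by decide)) = T 0 2 1 := Subtype.ext (M3.toM_ofM _)
    show _ = pr (T 0 2 1) * _
    rw [← hx, ← map_mul, ← map_mul]
    symm
    apply pr_eq_of_smul (c := c)
    show g.toM * m.toM = c • ((xm 0 2 1).toM * g.toM)
    rw [← M3.toM_mul, ← M3.toM_mul, ← M3.toM_smul, ← hc]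
  rw [e4]
  group

theorem f0_sl {g : M3} (hg : g.det = 1) (h : frM g = g) : f0 (pr (sl g hg)) = pr (sl g hg) := by
  show lift (fld frob) (pr _) = pr _
  rw [lift_pr]
  congr 1
  apply Subtype.ext
  ext i j
  show frob (g.toM i j) = g.toM i j
  rw [← frM_toM, h]

theorem lev_toM {g : M3} (h : g.b = .z ∧ g.d = .z ∧ g.e = .o ∧ g.f = .z ∧ g.h = .z) :
    lev !![g.a, g.c; g.g, g.i] = g.toM := by
  obtain ⟨a, b, c, d, e, f, g, h, i⟩ := g
  obtain ⟨h1, h2, h3, h4, h5⟩ := h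
  simp only at h1 h2 h3 h4 h5
  subst h1 h2 h3 h4 h5
  ext i j
  fin_cases i <;> fin_cases j <;> rfl

theorem g0_sl {g : M3} (hg : g.det = 1) (h : g.b = .z ∧ g.d = .z ∧ g.e = .o ∧ g.f = .z ∧ g.h = .z) :
    g0 (pr (sl g hg)) = pr (sl g hg) := by
  have h1 := lev_toM h
  have h2 : (!![g.a, g.c; g.g, g.i] : Matrix (Fin 2) (Fin 2) F4).det = 1 := by
    rw [← lev_det, h1, M3.det_toM, hg]
  have h3 : phi4 ⟨_, h2⟩ = pr (sl g hg) := by
    show pr (levi _) = pr _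
    congr 1
    exact Subtype.ext h1
  rw [← h3]
  exact fix_g0_mem _

theorem G21_fix : ∀ g ∈ G21, frM g = g := by decide +kernel

theorem G15_fix : ∀ g ∈ G15, g.b = .z ∧ g.d = .z ∧ g.e = .o ∧ g.f = .z ∧ g.h = .z := by decide +kernel

theorem c2_val (a : ZMod 2) : c2 a = .z ∨ c2 a = .o := by
  fin_cases a
  · exact Or.inl c2_zero
  · exact Or.inr c2_one

/-- the involutions of `C(f0)` are conjugate -/
theorem conj_f0 {i : PSL3} (h : f0 i = i) (h2 : i * i = 1) (h1 : i ≠ 1) :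
    ∃ g, f0 g = g ∧ g * i * g⁻¹ = t 0 2 1 := by
  obtain ⟨m, rfl⟩ := fix_f0_le h
  obtain ⟨M, hM⟩ : ∃ M, M = M3.ofM (Matrix.SpecialLinearGroup.map c2 m).1 := ⟨_, rfl⟩
  have hd : M.det = 1 := by
    rw [← M3.det_toM, hM, M3.toM_ofM]
    exact (Matrix.SpecialLinearGroup.map c2 m).2
  have hi : phi2 m = pr (sl M hd) := by
    show pr _ = pr _
    congr 1
    apply Subtype.ext
    show _ = M.toM
    rw [hM, M3.toM_ofM]
  have hc : cjc G21 M = true := by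
    have H := chk21_eq
    unfold chk21 at H
    have k : ∀ i j, (Matrix.SpecialLinearGroup.map c2 m).1 i j = .z ∨
      (Matrix.SpecialLinearGroup.map c2 m).1 i j = .o := fun i j => c2_val _
    have := allB_iff (allB_iff (allB_iff (allB_iff (allB_iff (allB_iff (allB_iff (allB_iff (allB_iff H
      (k 0 0)) (k 0 1)) (k 0 2)) (k 1 0)) (k 1 1)) (k 1 2)) (k 2 0)) (k 2 1)) (k 2 2)
    rw [hM]
    exact this
  rw [hi] at h2 h1 ⊢
  obtain ⟨g, hg, hgd, hgc⟩ := conj_list hd hc h2 h1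
  exact ⟨_, f0_sl hgd (G21_fix g hg), hgc⟩

/-- the involutions of `C(g0)` are conjugate -/
theorem conj_g0 {i : PSL3} (h : g0 i = i) (h2 : i * i = 1) (h1 : i ≠ 1) :
    ∃ g, g0 g = g ∧ g * i * g⁻¹ = t 0 2 1 := by
  obtain ⟨m, rfl⟩ := fix_g0_le h
  obtain ⟨M, hM⟩ : ∃ M, M = M3.ofM (levi m).1 := ⟨_, rfl⟩
  have hd : M.det = 1 := by
    rw [← M3.det_toM, hM, M3.toM_ofM]
    exact (levi m).2
  have hi : phi4 m = pr (sl M hd) := by
    show pr _ = pr _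
    congr 1
    apply Subtype.ext
    show _ = M.toM
    rw [hM, M3.toM_ofM]
  have hc : cjc G15 M = true := by
    have H := chk15_eq
    unfold chk15 at H
    have := allF_iff (allF_iff (allF_iff (allF_iff H (m.1 0 0)) (m.1 0 1)) (m.1 1 0)) (m.1 1 1)
    rw [hM]
    exact this
  rw [hi] at h2 h1 ⊢
  obtain ⟨g, hg, hgd, hgc⟩ := conj_list hd hc h2 h1
  exact ⟨_, g0_sl hgd (G15_fix g hg), hgc⟩

/-! ### Orders -/

theorem card_SL32 : Nat.card (SpecialLinearGroup (Fin 3) (ZMod 2)) = 168 := by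
  have h := S0242.result (F := ZMod 2) (q := 2) (ZMod.card 2) 3 (by norm_num)
  rw [Fin.prod_univ_three] at h
  have h1 : (2 ^ 3 - 2 ^ ((0 : Fin 3) : ℕ)) * (2 ^ 3 - 2 ^ ((1 : Fin 3) : ℕ)) *
      (2 ^ 3 - 2 ^ ((2 : Fin 3) : ℕ)) = 168 := rfl
  rw [h1] at h
  omega

theorem card_SL24 : Nat.card (SpecialLinearGroup (Fin 2) F4) = 60 := by
  have h := S0242.result (F := F4) (q := 4) F4.card_eq 2 (by norm_num)
  rw [Fin.prod_univ_two] at h
  have h1 : (4 ^ 2 - 4 ^ ((0 : Fin 2) : ℕ)) * (4 ^ 2 - 4 ^ ((1 : Fin 2) : ℕ)) = 180 := rfl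
  rw [h1] at h
  omega

theorem card_f0 : Nat.card (fx f0) = 168 := by
  rw [← card_SL32]
  symm
  apply Nat.card_congr
  let φ : SpecialLinearGroup (Fin 3) (ZMod 2) →* fx f0 := phi2.codRestrict (fx f0) fix_f0_mem
  refine Equiv.ofBijective φ ⟨?_, ?_⟩
  · rw [injective_iff_map_eq_one]
    intro m hm
    have h1 : pr (Matrix.SpecialLinearGroup.map c2 m) = 1 := congrArg Subtype.val hm
    rw [← map_one pr] at h1
    obtain ⟨c, hc⟩ := exists_smul_of_pr_eq h1.symm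
    have h2 : ∀ i j, c2 (m.1 i j) = c * (1 : Matrix (Fin 3) (Fin 3) F4) i j := by
      intro i j
      exact congrFun (congrFun hc i) j
    have hdet : (Matrix.SpecialLinearGroup.map c2 m).1.det = 1 := (Matrix.SpecialLinearGroup.map c2 m).2
    have hc1 : c = 1 := by
      have h3 := h2 0 0
      rw [Matrix.one_apply_eq, mul_one] at h3
      rcases c2_val (m.1 0 0) with h4 | h4
      · exfalso
        rw [h3] at h4
        rw [hc, h4] at hdet
        have : (F4.z • ((1 : SL3) : Matrix (Fin 3) (Fin 3) F4)) = 0 := zero_smul F4 _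
        rw [this, Matrix.det_zero] at hdet
        exact zero_ne_one hdet
      · rw [h3] at h4; exact h4
    apply Subtype.ext
    ext i j
    apply c2_inj
    rw [h2, hc1, one_mul]
    show _ = c2 ((1 : Matrix (Fin 3) (Fin 3) (ZMod 2)) i j)
    rw [Matrix.one_apply, Matrix.one_apply]
    split
    · exact c2_one.symm
    · exact c2_zero.symm
  · rintro ⟨l, hl⟩
    obtain ⟨m, hm⟩ := fix_f0_le hl
    exact ⟨m, Subtype.ext hm⟩

theorem card_g0 : Nat.card (fx g0) = 60 := by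
  rw [← card_SL24]
  symm
  apply Nat.card_congr
  let φ : SpecialLinearGroup (Fin 2) F4 →* fx g0 := phi4.codRestrict (fx g0) fix_g0_mem
  refine Equiv.ofBijective φ ⟨?_, ?_⟩
  · rw [injective_iff_map_eq_one]
    intro m hm
    have h1 : pr (levi m) = 1 := congrArg Subtype.val hm
    rw [← map_one pr] at h1
    obtain ⟨c, hc⟩ := exists_smul_of_pr_eq h1.symm
    have h2 : ∀ i j, lev m.1 i j = c * (1 : Matrix (Fin 3) (Fin 3) F4) i j := by
      intro i j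
      exact congrFun (congrFun hc i) j
    have hc1 : c = 1 := by
      have h3 := h2 1 1
      rw [Matrix.one_apply_eq, mul_one] at h3
      exact h3.symm
    apply Subtype.ext
    have h3 : ∀ i j, lev m.1 i j = (1 : Matrix (Fin 3) (Fin 3) F4) i j := by
      intro i j
      rw [h2, hc1, one_mul]
    ext i j
    fin_cases i <;> fin_cases j
    · exact h3 0 0
    · exact h3 0 2
    · exact h3 2 0
    · exact h3 2 2
  · rintro ⟨l, hl⟩
    obtain ⟨m, hm⟩ := fix_g0_le hl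
    exact ⟨m, Subtype.ext hm⟩

end Cfsg.Agent.UGT.CE.L34
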